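import Cfsg.Agent.Lib.MinIndexPSU.FiveBound
import Cfsg.Agent.Lib.Present.AltCosets
import Mathlib.Algebra.QuadraticAlgebra.Basic
import Mathlib.Algebra.Algebra.ZMod
import Mathlib.FieldTheory.Finite.Basic
import Mathlib.GroupTheory.QuotientGroup.Finite
import Cfsg.Agent.Lib.Classical.Herm.Apps

/-!
A subgroup of index fifty in `PSU₃(5)`, from generators satisfying the relations of Moore and
Carmichael for `A₇`.
-/

set_option autoImplicit false

namespace CfsgLib.MinIndexPSU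

open Matrix

/-- The ring `𝔽₅[√2]`. -/
abbrev R25 : Type := QuadraticAlgebra (ZMod 5) 2 0

/-- Three by three matrices, entry by entry. -/
structure M9 : Type where
  (a b c d e f g h i : R25)
deriving DecidableEq

namespace M9

def mul (x y : M9) : M9 :=
  ⟨x.a * y.a + x.b * y.d + x.c * y.g, x.a * y.b + x.b * y.e + x.c * y.h,
    x.a * y.c + x.b * y.f + x.c * y.i,
    x.d * y.a + x.e * y.d + x.f * y.g, x.d * y.b + x.e * y.e + x.f * y.h,
    x.d * y.c + x.e * y.f + x.f * y.i,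
    x.g * y.a + x.h * y.d + x.i * y.g, x.g * y.b + x.h * y.e + x.i * y.h,
    x.g * y.c + x.h * y.f + x.i * y.i⟩

def one : M9 := ⟨1, 0, 0, 0, 1, 0, 0, 0, 1⟩

def transpose (x : M9) : M9 := ⟨x.a, x.d, x.g, x.b, x.e, x.h, x.c, x.f, x.i⟩

def conj (x : M9) : M9 :=
  ⟨star x.a, star x.b, star x.c, star x.d, star x.e, star x.f, star x.g, star x.h, star x.i⟩

def det (x : M9) : R25 :=
  x.a * x.e * x.i - x.a * x.f * x.h - x.b * x.d * x.i + x.b * x.f * x.g + x.c * x.d * x.h -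
    x.c * x.e * x.g

def IsScalar (x : M9) : Prop :=
  x.b = 0 ∧ x.c = 0 ∧ x.d = 0 ∧ x.f = 0 ∧ x.g = 0 ∧ x.h = 0 ∧ x.e = x.a ∧ x.i = x.a

instance : DecidablePred IsScalar := fun _ => inferInstanceAs (Decidable (_ ∧ _))

variable {F : Type*} [CommRing F] (φ : R25 →+* F)

def mat (x : M9) : Matrix (Fin 3) (Fin 3) F :=
  !![φ x.a, φ x.b, φ x.c; φ x.d, φ x.e, φ x.f; φ x.g, φ x.h, φ x.i]

theorem mat_mul (x y : M9) : mat φ (x.mul y) = mat φ x * mat φ y := by
  ext i j
  fin_cases i <;> fin_cases j <;>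
    simp [mat, mul, Matrix.mul_apply, Fin.sum_univ_three, map_add, map_mul]

theorem mat_one : mat φ one = 1 := by
  ext i j
  fin_cases i <;> fin_cases j <;> simp [mat, one]

theorem mat_transpose (x : M9) : mat φ x.transpose = (mat φ x)ᵀ := by
  ext i j
  fin_cases i <;> fin_cases j <;> simp [mat, transpose]

theorem det_mat (x : M9) : (mat φ x).det = φ x.det := by
  rw [Matrix.det_fin_three]
  simp [mat, det]

theorem mat_scalar {x : M9} (hx : x.IsScalar) : mat φ x = φ x.a • 1 := by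
  obtain ⟨h1, h2, h3, h4, h5, h6, h7, h8⟩ := hx
  ext i j
  fin_cases i <;> fin_cases j <;> simp [mat, h1, h2, h3, h4, h5, h6, h7, h8]

theorem mat_injective (hφ : Function.Injective φ) {x y : M9} (h : mat φ x = mat φ y) : x = y := by
  have hij := fun i j => congrFun (congrFun h i) j
  cases x; cases y
  simp only [M9.mk.injEq]
  exact ⟨hφ (hij 0 0), hφ (hij 0 1), hφ (hij 0 2), hφ (hij 1 0), hφ (hij 1 1), hφ (hij 1 2),
    hφ (hij 2 0), hφ (hij 2 1), hφ (hij 2 2)⟩

end M9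

/-- The five generators. -/
def gens : Fin 5 → M9 :=
  ![⟨⟨2, 0⟩, ⟨4, 1⟩, ⟨4, 3⟩, ⟨1, 1⟩, ⟨3, 0⟩, ⟨0, 4⟩, ⟨1, 3⟩, ⟨0, 1⟩, ⟨0, 0⟩⟩,
    ⟨⟨4, 0⟩, ⟨0, 0⟩, ⟨0, 0⟩, ⟨0, 0⟩, ⟨4, 0⟩, ⟨0, 0⟩, ⟨0, 0⟩, ⟨0, 0⟩, ⟨1, 0⟩⟩,
    ⟨⟨4, 0⟩, ⟨0, 0⟩, ⟨0, 0⟩, ⟨0, 0⟩, ⟨3, 0⟩, ⟨0, 3⟩, ⟨0, 0⟩, ⟨0, 2⟩, ⟨2, 0⟩⟩,
    ⟨⟨2, 0⟩, ⟨3, 1⟩, ⟨0, 0⟩, ⟨3, 4⟩, ⟨3, 0⟩, ⟨0, 0⟩, ⟨0, 0⟩, ⟨0, 0⟩, ⟨4, 0⟩⟩,
    ⟨⟨1, 0⟩, ⟨0, 0⟩, ⟨0, 0⟩, ⟨0, 0⟩, ⟨4, 0⟩, ⟨0, 0⟩, ⟨0, 0⟩, ⟨0, 0⟩, ⟨4, 0⟩⟩]

def wordMat : List (Fin 5) → M9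
  | [] => M9.one
  | i :: w => (gens i).mul (wordMat w)

theorem gens_det : ∀ i, (gens i).det = 1 := by decide +kernel

theorem gens_unitary : ∀ i, (gens i).transpose.mul (gens i).conj = M9.one := by decide +kernel

variable {F : Type*} [Field F] [Fintype F] (φ : R25 →+* F)
  (hφ : ∀ z, φ (star z) = φ z ^ 5) [CharP F 5]

/-- The generators as elements of the unitary group. -/
def gen (i : Fin 5) : Cfsg.SU 3 F 5 :=
  ⟨⟨M9.mat φ (gens i), by rw [M9.det_mat, gens_det, map_one]⟩, by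
    have : Fact (Nat.Prime 5) := ⟨Nat.prime_five⟩
    intro u v
    set A := M9.mat φ (gens i) with hA
    show Cfsg.hermForm 3 F 5 (A *ᵥ u) (A *ᵥ v) = _
    have h5 : ∀ j, (A *ᵥ v) j ^ 5 = (M9.mat φ (gens i).conj *ᵥ fun k => v k ^ 5) j := by
      intro j
      rw [Matrix.mulVec, dotProduct, sum_pow_char 5, Matrix.mulVec, dotProduct]
      refine Finset.sum_congr rfl fun k _ => ?_
      rw [mul_pow, hA]
      congr 1
      fin_cases j <;> fin_cases k <;> simp [M9.mat, M9.conj, hφ]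
    show (A *ᵥ u) ⬝ᵥ (fun j => (A *ᵥ v) j ^ 5) = u ⬝ᵥ fun j => v j ^ 5
    rw [funext h5]
    conv_rhs => rw [← Matrix.one_mulVec (fun j => v j ^ 5), ← M9.mat_one φ, ← gens_unitary i,
      M9.mat_mul, M9.mat_transpose, ← Matrix.mulVec_mulVec, Matrix.dotProduct_mulVec,
      Matrix.vecMul_transpose, ← hA]⟩

/-- The element given by a word. -/
def wordEl (w : List (Fin 5)) : Cfsg.SU 3 F 5 := (w.map (gen φ hφ)).prod

theorem coe_wordEl (w : List (Fin 5)) :
    ((wordEl φ hφ w).1 : Matrix (Fin 3) (Fin 3) F) = M9.mat φ (wordMat w) := by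
  induction w with
  | nil => simp [wordEl, wordMat, M9.mat_one]
  | cons i w ih =>
    rw [wordMat, M9.mat_mul, ← ih, wordEl, List.map_cons, List.prod_cons]
    rfl

/-- The image of a word. -/
noncomputable def img (w : List (Fin 5)) : Cfsg.PSU 3 F 5 :=
  QuotientGroup.mk' _ (wordEl φ hφ w)

theorem img_nil : img φ hφ [] = 1 := map_one _

theorem img_append (v w : List (Fin 5)) : img φ hφ (v ++ w) = img φ hφ v * img φ hφ w := by
  rw [img, img, img, wordEl, List.map_append, List.prod_append, map_mul]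
  rfl

theorem img_eq_one {w : List (Fin 5)} (h : (wordMat w).IsScalar) : img φ hφ w = 1 := by
  rw [img, QuotientGroup.mk'_apply, QuotientGroup.eq_one_iff, Subgroup.mem_center_iff]
  intro g
  refine Subtype.ext (Subtype.ext ?_)
  show g.1.1 * (wordEl φ hφ w).1.1 = (wordEl φ hφ w).1.1 * g.1.1
  rw [coe_wordEl, M9.mat_scalar φ h, mul_smul_comm, smul_mul_assoc, one_mul, mul_one]

theorem img_ne_one (hinj : Function.Injective φ) {w : List (Fin 5)}
    (h : ∃ i : Fin 5, (wordMat [i]).mul (wordMat w) ≠ (wordMat w).mul (wordMat [i])) :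
    img φ hφ w ≠ 1 := by
  intro h1
  rw [img, QuotientGroup.mk'_apply, QuotientGroup.eq_one_iff, Subgroup.mem_center_iff] at h1
  obtain ⟨i, hi⟩ := h
  apply hi
  apply M9.mat_injective φ hinj
  rw [M9.mat_mul, M9.mat_mul, ← coe_wordEl φ hφ, ← coe_wordEl φ hφ]
  exact congrArg (fun z : Cfsg.SU 3 F 5 => z.1.1) (h1 (wordEl φ hφ [i]))

theorem img_pow (w : List (Fin 5)) (n : ℕ) :
    img φ hφ w ^ n = img φ hφ (List.replicate n w).flatten := by
  induction n with
  | zero => simp [img_nil]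
  | succ n ih => rw [pow_succ', ih, List.replicate_succ, List.flatten_cons, img_append]

theorem orderOf_img_prime (hinj : Function.Injective φ) {w : List (Fin 5)} {p : ℕ} (hp : p.Prime)
    (h1 : ∃ i : Fin 5, (wordMat [i]).mul (wordMat w) ≠ (wordMat w).mul (wordMat [i]))
    (h2 : (wordMat (List.replicate p w).flatten).IsScalar) : orderOf (img φ hφ w) = p := by
  have : Fact p.Prime := ⟨hp⟩
  exact orderOf_eq_prime (by rw [img_pow, img_eq_one φ hφ h2]) (img_ne_one φ hφ hinj h1)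

theorem orderOf_dvd_card_mul {G : Type*} [Group G] [Finite G] {H : Subgroup G} {a b : G}
    (ha : a ∈ H) (hb : b ∈ H) {r : ℕ} (hr : r.Prime) (hbr : b ^ r = 1)
    (hb' : b ∉ Subgroup.zpowers a) (hconj : b * a * b⁻¹ ∈ Subgroup.zpowers a) :
    orderOf a * r ∣ Nat.card H := by
  set K := Subgroup.zpowers a
  have hle : K ≤ H := Subgroup.zpowers_le.2 ha
  set N := H ⊓ Subgroup.normalizer (K : Set G)
  have hKN : K ≤ N := le_inf hle Subgroup.le_normalizer
  have hbN : b ∈ N := by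
    refine ⟨hb, ?_⟩
    have hmap : K.map (MulAut.conj b).toMonoidHom = K := by
      refine Subgroup.eq_of_le_of_card_ge ?_ ?_
      · rw [MonoidHom.map_zpowers, Subgroup.zpowers_le]
        exact hconj
      · rw [Subgroup.card_map_of_injective (MulAut.conj b).injective]
    show b ∈ Subgroup.normalizer (K : Set G)
    rw [Subgroup.mem_normalizer_iff]
    intro h
    conv_rhs => rw [← hmap]
    exact (Subgroup.mem_map_iff_mem (MulAut.conj b).injective).symm
  have hn : (K.subgroupOf N).Normal :=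
    (Subgroup.normal_subgroupOf_iff hKN).2 fun k g hk hg =>
      (Subgroup.mem_normalizer_iff.1 hg.2 k).1 hk
  set β : N ⧸ K.subgroupOf N := QuotientGroup.mk' _ ⟨b, hbN⟩
  have hβ : orderOf β = r := by
    have : Fact r.Prime := ⟨hr⟩
    refine orderOf_eq_prime ?_ ?_
    · rw [← map_pow, show (⟨b, hbN⟩ : N) ^ r = 1 from Subtype.ext hbr]
      exact map_one _
    · intro h
      exact hb' ((QuotientGroup.eq_one_iff (N := K.subgroupOf N) (⟨b, hbN⟩ : N)).1 h)
  have h1 : r ∣ Nat.card (N ⧸ K.subgroupOf N) := hβ ▸ orderOf_dvd_natCard β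
  have h2 := Subgroup.card_eq_card_quotient_mul_card_subgroup (K.subgroupOf N)
  rw [Nat.card_congr (Subgroup.subgroupOfEquivOfLe hKN).toEquiv, Nat.card_zpowers] at h2
  refine dvd_trans ?_ (Subgroup.card_dvd_of_le (inf_le_left : N ≤ H))
  rw [h2, mul_comm]
  exact mul_dvd_mul h1 dvd_rfl

theorem not_mem_zpowers_of {G : Type*} [Group G] {a b : G} {n : ℕ} (hn : 0 < n) (ha : a ^ n = 1)
    (h : ∀ i < n, a ^ i * b ≠ 1) : b ∉ Subgroup.zpowers a := by
  intro hb
  obtain ⟨k, hk⟩ := Subgroup.mem_zpowers_iff.1 hb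
  have hm : 0 ≤ (-k) % (n : ℤ) := Int.emod_nonneg _ (by omega)
  refine h ((-k) % (n : ℤ)).toNat ?_ ?_
  · have := Int.emod_lt_of_pos (-k) (show (0 : ℤ) < n by omega)
    omega
  · have he : a ^ ((-k) % (n : ℤ)) = a ^ (-k) := by
      conv_rhs => rw [← Int.emod_add_mul_ediv (-k) n, _root_.zpow_add, _root_.zpow_mul, zpow_natCast, ha,
        _root_.one_zpow, mul_one]
    rw [← zpow_natCast, Int.toNat_of_nonneg hm, he, ← hk, ← _root_.zpow_add, neg_add_cancel,
      _root_.zpow_zero]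

/-- The generators in `PSU₃(5)`. -/
noncomputable def seq (n : ℕ) : Cfsg.PSU 3 F 5 :=
  if h : n < 5 then img φ hφ [⟨n, h⟩] else 1

theorem seq_coe (i : Fin 5) : seq φ hφ i = img φ hφ [i] := dif_pos i.2

theorem altRel_seq : Present.AltRel (seq φ hφ) 5 where
  cube _ := by
    rw [show (0 : ℕ) = ((0 : Fin 5) : ℕ) from rfl, seq_coe, img_pow]
    exact img_eq_one φ hφ (by decide +kernel)
  sq i h1 h2 := by
    have h : ∀ i : Fin 5, 1 ≤ i.1 → (wordMat ([i] ++ [i])).IsScalar := by decide +kernel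
    rw [show i = ((⟨i, h2⟩ : Fin 5) : ℕ) from rfl, seq_coe, ← img_append]
    exact img_eq_one φ hφ (h _ h1)
  braid i hi := by
    have h : ∀ i j : Fin 5, j.1 = i.1 + 1 →
        (wordMat (List.replicate 3 ([i] ++ [j])).flatten).IsScalar := by decide +kernel
    have e1 := seq_coe φ hφ ⟨i, by omega⟩
    have e2 := seq_coe φ hφ ⟨i + 1, hi⟩
    simp only at e1 e2
    rw [e1, e2, ← img_append, img_pow]
    exact img_eq_one φ hφ (h _ _ rfl)
  far i j hij hj := by
    have h : ∀ i j : Fin 5, i.1 + 1 < j.1 →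
        (wordMat (List.replicate 2 ([i] ++ [j])).flatten).IsScalar := by decide +kernel
    have e1 := seq_coe φ hφ ⟨i, by omega⟩
    have e2 := seq_coe φ hφ ⟨j, hj⟩
    simp only at e1 e2
    rw [e1, e2, ← img_append, img_pow]
    exact img_eq_one φ hφ (h _ _ hij)

theorem img_mem (w : List (Fin 5)) : img φ hφ w ∈ Present.firstGen (seq φ hφ) 5 := by
  induction w with
  | nil => rw [img_nil]; exact one_mem _
  | cons i w ih =>
    rw [show i :: w = [i] ++ w from rfl, img_append, ← seq_coe]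
    exact mul_mem (Present.mem_firstGen _ i.2) ih

theorem card_dvd_firstGen (hinj : Function.Injective φ) :
    2520 ∣ Nat.card (Present.firstGen (seq φ hφ) 5) := by
  set H := Present.firstGen (seq φ hφ) 5
  have h5 : 5 ∣ Nat.card H := by
    have ho := orderOf_img_prime φ hφ hinj (w := [0, 1, 2]) Nat.prime_five (by decide +kernel)
      (by decide +kernel)
    have h := H.orderOf_dvd_natCard (img_mem φ hφ [0, 1, 2])
    rwa [ho] at h
  have h7 : 7 ∣ Nat.card H := by
    have ho := orderOf_img_prime φ hφ hinj (w := [0, 1, 2, 3, 4]) (by norm_num : Nat.Prime 7)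
      (by decide +kernel) (by decide +kernel)
    have h := H.orderOf_dvd_natCard (img_mem φ hφ [0, 1, 2, 3, 4])
    rwa [ho] at h
  have h9 : 3 * 3 ∣ Nat.card H := by
    have ho := orderOf_img_prime φ hφ hinj (w := [0]) Nat.prime_three (by decide +kernel)
      (by decide +kernel)
    have hp := pow_orderOf_eq_one (img φ hφ [0])
    rw [ho] at hp
    refine (mul_dvd_mul_right (dvd_of_eq ho.symm) 3).trans
      (orderOf_dvd_card_mul (img_mem φ hφ [0]) (img_mem φ hφ [2, 3]) Nat.prime_three ?_ ?_ ?_)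
    · rw [img_pow]; exact img_eq_one φ hφ (by decide +kernel)
    · refine not_mem_zpowers_of (by norm_num : 0 < 3) hp fun i hi => ?_
      rw [img_pow, ← img_append]
      refine img_ne_one φ hφ hinj ?_
      interval_cases i <;> decide +kernel
    · refine Subgroup.mem_zpowers_iff.2 ⟨1, ?_⟩
      rw [_root_.zpow_one, eq_mul_inv_iff_mul_eq, ← img_append, ← img_append]
      rw [← mul_inv_eq_one]
      have hinv : (img φ hφ ([2, 3] ++ [0]))⁻¹ =
          img φ hφ ([0] ++ [0] ++ ([2, 3] ++ [2, 3])) := by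
        rw [inv_eq_iff_mul_eq_one, ← img_append]
        exact img_eq_one φ hφ (by decide +kernel)
      rw [hinv, ← img_append]
      exact img_eq_one φ hφ (by decide +kernel)
  have h8 : 4 * 2 ∣ Nat.card H := by
    have hA2 : img φ hφ [0, 1, 3] ^ (2 ^ 1) ≠ 1 := by
      rw [img_pow]
      exact img_ne_one φ hφ hinj (by decide +kernel)
    have hA4 : img φ hφ [0, 1, 3] ^ (2 ^ (1 + 1)) = 1 := by
      rw [img_pow]
      exact img_eq_one φ hφ (by decide +kernel)
    have : Fact (Nat.Prime 2) := ⟨Nat.prime_two⟩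
    have ho : orderOf (img φ hφ [0, 1, 3]) = 4 := by
      rw [orderOf_eq_prime_pow hA2 hA4]; norm_num
    have hp := pow_orderOf_eq_one (img φ hφ [0, 1, 3])
    rw [ho] at hp
    refine (mul_dvd_mul_right (dvd_of_eq ho.symm) 2).trans
      (orderOf_dvd_card_mul (img_mem φ hφ [0, 1, 3]) (img_mem φ hφ [1]) Nat.prime_two ?_ ?_ ?_)
    · rw [img_pow]; exact img_eq_one φ hφ (by decide +kernel)
    · refine not_mem_zpowers_of (by norm_num : 0 < 4) hp fun i hi => ?_
      rw [img_pow, ← img_append]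
      refine img_ne_one φ hφ hinj ?_
      interval_cases i <;> decide +kernel
    · have hb : (img φ hφ [1])⁻¹ = img φ hφ [1] := by
        rw [inv_eq_iff_mul_eq_one, ← img_append]
        exact img_eq_one φ hφ (by decide +kernel)
      rw [hb, ← img_append, ← img_append]
      refine Subgroup.mem_zpowers_iff.2 ⟨-1, ?_⟩
      rw [_root_.zpow_neg_one, inv_eq_iff_mul_eq_one, ← img_append]
      exact img_eq_one φ hφ (by decide +kernel)
  have h35 := Nat.Coprime.mul_dvd_of_dvd_of_dvd (show Nat.Coprime 5 7 by norm_num) h5 h7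
  have h72 := Nat.Coprime.mul_dvd_of_dvd_of_dvd (show Nat.Coprime (3 * 3) (4 * 2) by norm_num) h9 h8
  exact Nat.Coprime.mul_dvd_of_dvd_of_dvd (show Nat.Coprime (5 * 7) (3 * 3 * (4 * 2)) by norm_num)
    h35 h72

theorem two_nonsquare : ∀ x y : ZMod 5, x * x - 2 * (y * y) = 0 → x = 0 ∧ y = 0 := by decide

omit [CharP F 5] in
theorem exists_embedding (hF : Fintype.card F = 25) :
    ∃ φ : R25 →+* F, Function.Injective φ ∧ ∀ z, φ (star z) = φ z ^ 5 := by
  have : Fact (Nat.Prime 5) := ⟨Nat.prime_five⟩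
  have : CharP F 5 := by
    obtain ⟨p, hp⟩ := CharP.exists F
    obtain ⟨n, hpp, hn⟩ := FiniteField.card F p
    have h := hpp.dvd_of_dvd_pow (show p ∣ 5 ^ 2 by
      rw [show 5 ^ 2 = p ^ (n : ℕ) by rw [← hn, hF]; norm_num]; exact dvd_pow_self p n.ne_zero)
    rwa [(Nat.prime_dvd_prime_iff_eq hpp Nat.prime_five).1 h] at hp
  have h5 : (5 : F) = 0 := by exact_mod_cast CharP.cast_eq_zero F 5
  have h2 : IsSquare (2 : F) := by
    rw [FiniteField.isSquare_iff (by rw [ringChar.eq F 5]; norm_num) (fun h => ?_), hF]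
    · linear_combination (819 : F) * h5
    · apply one_ne_zero (α := F)
      linear_combination (h5 - 2 * h)
  obtain ⟨s, hs⟩ := h2
  let : Algebra (ZMod 5) F := ZMod.algebra F 5
  let ψ : R25 →ₐ[ZMod 5] F := QuadraticAlgebra.lift ⟨s, by simp [← hs, Algebra.smul_def, map_ofNat]⟩
  have hψ : ∀ z : R25, ψ z = algebraMap (ZMod 5) F z.re + algebraMap (ZMod 5) F z.im * s := by
    intro z
    simp [ψ, QuadraticAlgebra.lift, Algebra.smul_def]
  refine ⟨ψ.toRingHom, ?_, fun z => ?_⟩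
  · rw [injective_iff_map_eq_zero]
    intro z hz
    change ψ z = 0 at hz
    rw [hψ] at hz
    have h3 : algebraMap (ZMod 5) F (z.re * z.re - 2 * (z.im * z.im)) = 0 := by
      rw [map_sub, map_mul, map_mul, map_mul, map_ofNat]
      linear_combination
        (algebraMap (ZMod 5) F z.re - algebraMap (ZMod 5) F z.im * s) * hz -
          algebraMap (ZMod 5) F z.im * algebraMap (ZMod 5) F z.im * hs
    have h4 := (algebraMap (ZMod 5) F).injective (h3.trans (map_zero _).symm)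
    obtain ⟨e1, e2⟩ := two_nonsquare _ _ h4
    exact QuadraticAlgebra.ext e1 e2
  · show ψ (star z) = ψ z ^ 5
    have hx : ∀ x : ZMod 5, algebraMap (ZMod 5) F x ^ 5 = algebraMap (ZMod 5) F x := fun x => by
      rw [← map_pow, ZMod.pow_card]
    rw [hψ, hψ, add_pow_char, mul_pow, hx, hx]
    simp only [QuadraticAlgebra.re_star, QuadraticAlgebra.im_star, zero_mul, add_zero, map_neg]
    linear_combination algebraMap (ZMod 5) F z.im * (s * (s * s + 2)) * hs -
      algebraMap (ZMod 5) F z.im * s * h5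

omit [CharP F 5] in
theorem exists_index_fifty (hF : Fintype.card F = 25) :
    ∃ K : Subgroup (Cfsg.PSU 3 F 5), K.index = 50 := by
  obtain ⟨φ, hinj, hφ⟩ := exists_embedding hF
  have : CharP F 5 := by
    rw [CharP.charP_iff_prime_eq_zero Nat.prime_five]
    have h : φ 5 = 0 := by
      rw [show (5 : R25) = 0 by decide +kernel, map_zero]
    rwa [map_ofNat] at h
  set K := Present.firstGen (seq φ hφ) 5
  have hdvd := card_dvd_firstGen φ hφ hinj
  have hle := (Present.firstGen_bound (altRel_seq φ hφ) 5 le_rfl).2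
  have hcK : Nat.card K = 2520 := by
    have h1 : Nat.card K = (K : Set (Cfsg.PSU 3 F 5)).ncard := rfl
    rw [show Nat.factorial (5 + 2) = 5040 by decide] at hle
    have h2 : 2520 ≤ Nat.card K := Nat.le_of_dvd Nat.card_pos hdvd
    change 2 * (K : Set (Cfsg.PSU 3 F 5)).ncard ≤ 5040 at hle
    rw [h1] at h2 ⊢
    omega
  have hG : Nat.card (Cfsg.PSU 3 F 5) = 126000 := by
    have := Classical.Herm.card_psu (show Fintype.card F = 5 ^ 2 from hF) (n := 3) (by norm_num)
    simp [Finset.prod_range_succ, Nat.even_iff] at this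
    omega
  refine ⟨K, ?_⟩
  have := K.index_mul_card
  rw [hcK, hG] at this
  omega

end CfsgLib.MinIndexPSU
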