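import Mathlib.Tactic.Linarith
import Mathlib.Tactic.Ring
import Mathlib.Tactic.Positivity
import Mathlib.Algebra.Order.Ring.Pow

/-!
Inequalities between the orders and class sizes used for the smallest unitary degree.
-/

set_option autoImplicit false

namespace CfsgLib.MinIndexPSU.Arith

variable {q : ℤ}

theorem sq_sub_one (hq : 2 ≤ q) : 3 ≤ q ^ 2 - 1 := by nlinarith

theorem two_sq_le {P : ℤ} (hq : 2 ≤ q) (hP : q ^ 4 ≤ P) : 2 * q ^ 2 ≤ P := by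
  have h : 2 * q ^ 2 ≤ q ^ 2 * q ^ 2 := mul_le_mul_of_nonneg_right (by nlinarith) (sq_nonneg q)
  rw [← pow_add] at h
  norm_num at h
  linarith

theorem class_absurd {P C : ℤ} (hq : 2 ≤ q) (hP : q ^ 4 ≤ P) (hcl : (P - 1) * (P - q) ≤ q * C)
    (hC : C + 1 ≤ P) : False := by
  have h2 := two_sq_le hq hP
  have h3 : q * C ≤ q * (P - 1) := mul_le_mul_of_nonneg_left (by linarith) (by linarith)
  have h4 : 2 * q < 2 * q ^ 2 := by nlinarith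
  have h5 : 0 < (P - 1) * (P - q - q) := mul_pos (by nlinarith) (by linarith)
  linarith

theorem moved_four {I t M : ℤ} (hq : 2 ≤ q) (hI : q ^ 2 * I ≤ q * (q ^ 4 * q ^ 4 + q ^ 4 * q))
    (ht : q ^ 4 + q ^ 3 ≤ t) (hM : t * (q ^ 4 * q) ≤ M) :
    q ^ 2 * I + (q ^ 2 - 1) + (q ^ 2 - 1) * (q ^ 4 * q ^ 4 * q) ≤ M * (q ^ 2 - 1) := by
  have h21 := sq_sub_one hq
  have h1 : (q ^ 4 + q ^ 3) * (q ^ 4 * q) ≤ M :=
    le_trans (mul_le_mul_of_nonneg_right ht (by positivity)) hM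
  have h2 := mul_le_mul_of_nonneg_right h1 (show (0 : ℤ) ≤ q ^ 2 - 1 by linarith)
  have h3 : 0 ≤ q ^ 8 * (q ^ 2 - q - 2) := mul_nonneg (by positivity) (by nlinarith)
  have h4 : 4 * q ^ 6 ≤ q ^ 2 * q ^ 6 := mul_le_mul_of_nonneg_right (by linarith) (by positivity)
  have h5 : q ^ 2 ≤ q ^ 6 := pow_le_pow_right₀ (by linarith) (by norm_num)
  linarith [show (0 : ℤ) ≤ q ^ 8 by positivity]

theorem moved_five {P I t M : ℤ} (hq : 2 ≤ q) (hP : q ^ 4 ≤ P)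
    (hI : q ^ 2 * I ≤ q * (P * P + P * q)) (ht : P * P * (q ^ 2 - 1) ≤ t * (P * q))
    (hM : t * (P * q) ≤ M) :
    q ^ 2 * I + (q ^ 2 - 1) + (q ^ 2 - 1) * (P * P * q) ≤ M * (q ^ 2 - 1) := by
  have h21 := sq_sub_one hq
  have h2 := mul_le_mul_of_nonneg_right (le_trans ht hM) (show (0 : ℤ) ≤ q ^ 2 - 1 by linarith)
  have h3 : 0 ≤ q ^ 2 * ((q - 2) * (q + 1)) :=
    mul_nonneg (sq_nonneg q) (mul_nonneg (by linarith) (by linarith))
  have h4 : P * P * 1 ≤ P * P * (q ^ 4 - q ^ 3 - 2 * q ^ 2 + 1) :=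
    mul_le_mul_of_nonneg_left (by linarith) (mul_self_nonneg P)
  have hPs := two_sq_le hq hP
  have h5 : P * (2 * q ^ 2) ≤ P * P := mul_le_mul_of_nonneg_left hPs (by nlinarith)
  have h6 : q ^ 2 * 1 ≤ q ^ 2 * P := mul_le_mul_of_nonneg_left (by nlinarith) (sq_nonneg q)
  linarith

theorem five_translates {P X t : ℤ} (hq : 2 ≤ q) (hP : 0 ≤ P) (hX : q ^ 2 ≤ X)
    (h : P * P * X ≤ P * q * t + P * P) : P * P * (q ^ 2 - 1) ≤ t * (P * q) := by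
  have := mul_le_mul_of_nonneg_left hX (mul_nonneg hP hP)
  linarith

theorem small_omega {P I O : ℤ} (hq : 2 ≤ q) (hP : q ^ 4 ≤ P) (hI : q ^ 2 * I ≤ q * (P * P + P * q))
    (h : O * (q ^ 2 - 1) < q ^ 2 * I + (q ^ 2 - 1) + (q ^ 2 - 1) * (P * P * q)) :
    O < 2 * (P * P * q) := by
  have h21 := sq_sub_one hq
  have hPs := two_sq_le hq hP
  have hP0 : 0 < P := by nlinarith
  have h1 : 2 * (q * (P * P)) ≤ (q ^ 2 - 2) * (q * (P * P)) :=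
    mul_le_mul_of_nonneg_right (by linarith) (by positivity)
  have h2 : q * P * (2 * q ^ 2) ≤ q * P * P := mul_le_mul_of_nonneg_left hPs (by positivity)
  have h3 : q ^ 2 * P * 1 ≤ q ^ 2 * P * (2 * q) :=
    mul_le_mul_of_nonneg_left (by linarith) (by positivity)
  have h4 : q ^ 2 * 1 ≤ q ^ 2 * P := mul_le_mul_of_nonneg_left (by linarith) (sq_nonneg q)
  refine lt_of_mul_lt_mul_right ?_ (show (0 : ℤ) ≤ q ^ 2 - 1 by linarith)
  linarith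

theorem iso_four {I t : ℤ} (hq : 2 ≤ q) (hI : q ^ 2 * I ≤ q * (q ^ 4 * q ^ 4 + q ^ 4 * q))
    (ht : q ^ 4 + q ^ 3 ≤ t) : q ^ 2 * I ≤ q ^ 4 * t * (q ^ 2 - 1) := by
  have h21 := sq_sub_one hq
  have h1 := mul_le_mul_of_nonneg_left ht
    (show (0 : ℤ) ≤ q ^ 4 * (q ^ 2 - 1) from mul_nonneg (by positivity) (by linarith))
  have h3 : 0 ≤ q ^ 8 * (q ^ 2 - q - 2) := mul_nonneg (by positivity) (by nlinarith)
  have h4 : q ^ 6 ≤ q ^ 8 := pow_le_pow_right₀ (by linarith) (by norm_num)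
  have h5 : 0 ≤ q ^ 7 * (q ^ 2 - 1) := mul_nonneg (by positivity) (by linarith)
  linarith

theorem iso_five {P I t : ℤ} (hq : 2 ≤ q) (hP : q ^ 5 ≤ P) (hI : q ^ 2 * I ≤ q * (P * P + P * q))
    (ht : P * P ≤ q ^ 4 * t + P * q ^ 3) : q ^ 2 * I ≤ q ^ 4 * t * (q ^ 2 - 1) := by
  have h21 := sq_sub_one hq
  have hP0 : 0 ≤ P := le_trans (by positivity) hP
  have h1 := mul_le_mul_of_nonneg_right ht (show (0 : ℤ) ≤ q ^ 2 - 1 by linarith)
  have h2 : P * q ^ 5 ≤ P * P := mul_le_mul_of_nonneg_left hP hP0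
  have h3 : P * P * 1 ≤ P * P * (q ^ 2 - q - 1) :=
    mul_le_mul_of_nonneg_left (by nlinarith) (mul_self_nonneg P)
  have h4 : P * q ^ 2 ≤ P * q ^ 3 :=
    mul_le_mul_of_nonneg_left (pow_le_pow_right₀ (by linarith) (by norm_num)) hP0
  linarith

theorem fixed_pos {I Fx : ℤ} (hq : 2 ≤ q) (hI0 : 0 < q ^ 2 * I)
    (hcase : q ^ 2 * I ≤ Fx * (q ^ 2 - 1)) : 0 < Fx := by
  have h21 := sq_sub_one hq
  by_contra h
  push Not at h
  have := mul_nonpos_of_nonpos_of_nonneg h (show (0 : ℤ) ≤ q ^ 2 - 1 by linarith)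
  linarith

theorem delta_le {P I Fx M O : ℤ} (hq : 2 ≤ q) (hs : Fx + M = O) (hM : P * P * q ≤ M)
    (hcase : q ^ 2 * I ≤ Fx * (q ^ 2 - 1)) :
    q ^ 2 * I + (q ^ 2 - 1) + (q ^ 2 - 1) * (P * P * q) - O * (q ^ 2 - 1) ≤ q ^ 2 - 1 := by
  have h21 := sq_sub_one hq
  have h1 := mul_le_mul_of_nonneg_right hM (show (0 : ℤ) ≤ q ^ 2 - 1 by linarith)
  subst hs
  linarith

theorem fixed_lt {P I Fx M O : ℤ} (hq : 2 ≤ q) (hP : q ^ 4 ≤ P)
    (hI : q ^ 2 * I ≤ q * (P * P + P * q)) (hs : Fx + M = O) (hM : P * P * q ≤ M)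
    (h : O * (q ^ 2 - 1) < q ^ 2 * I + (q ^ 2 - 1) + (q ^ 2 - 1) * (P * P * q)) :
    Fx * (q ^ 2 - 1) < O := by
  have h21 := sq_sub_one hq
  have hP0 : 0 < P := lt_of_lt_of_le (by positivity) hP
  subst hs
  have h1 := mul_le_mul_of_nonneg_right hM (show (0 : ℤ) ≤ q ^ 2 - 1 by linarith)
  have hlt : Fx * (q ^ 2 - 1) < q ^ 2 * I + (q ^ 2 - 1) := by linarith
  have h2 := mul_lt_mul_of_pos_right hlt (show (0 : ℤ) < q ^ 2 - 2 by linarith)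
  have h3 := mul_le_mul_of_nonneg_left hI (show (0 : ℤ) ≤ q ^ 2 - 2 by linarith)
  have h4 : q * P * q ^ 4 ≤ q * P * P := mul_le_mul_of_nonneg_left hP (by positivity)
  have h5 : 2 * (P * q ^ 4) ≤ q * (P * q ^ 4) := mul_le_mul_of_nonneg_right hq (by positivity)
  have h6 : q ^ 2 * 1 ≤ q ^ 2 * P := mul_le_mul_of_nonneg_left (by linarith) (sq_nonneg q)
  have h7 := mul_le_mul_of_nonneg_left h6 (show (0 : ℤ) ≤ q ^ 2 - 2 by linarith)
  have h8 : 0 ≤ q ^ 2 * P := by positivity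
  refine lt_of_mul_lt_mul_right ?_ (show (0 : ℤ) ≤ q ^ 2 - 1 by linarith)
  linarith

end CfsgLib.MinIndexPSU.Arith
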