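import Mathlib.LinearAlgebra.Dimension.StrongRankCondition
import Mathlib.LinearAlgebra.FiniteDimensional.Lemmas
import Mathlib.GroupTheory.GroupAction.Quotient
import Mathlib.GroupTheory.Index
import Mathlib.Algebra.BigOperators.Ring.Finset
import Mathlib.Tactic.LinearCombination
import Mathlib.Tactic.Linarith

/-!
A Fisher-type inequality for two-transitive actions: a subgroup of index less than the degree is
transitive.
-/

set_option autoImplicit false

namespace CfsgLib.MinIndexPSU

open MulAction

/-- If `G` is two-transitive on `X` and `M` has index less than `|X|`, then `M` is transitive. -/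
theorem exists_smul_eq_of_index_lt {G X : Type*} [Group G] [Finite G] [MulAction G X] [Finite X]
    [IsPretransitive G X]
    (h2 : ∀ a b c d : X, a ≠ b → c ≠ d → ∃ g : G, g • a = c ∧ g • b = d)
    (M : Subgroup G) (hn : M.index < Nat.card X) (x₀ y₀ : X) : ∃ m ∈ M, m • x₀ = y₀ := by
  classical
  by_contra hcon
  push Not at hcon
  have := Fintype.ofFinite X
  have := Fintype.ofFinite G
  have : Finite (G ⧸ M) := inferInstance
  have := Fintype.ofFinite (G ⧸ M)
  -- incidence: the point `x` lies in the block of the coset `gM`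
  let inc : X → G ⧸ M → Prop := fun x ω => ∃ g : G, (g : G ⧸ M) = ω ∧ g • x₀ = x
  have hsmul : ∀ (h : G) (x : X) (ω : G ⧸ M), inc x ω → inc (h • x) (h • ω) := by
    rintro h x ω ⟨g, hg, hx⟩
    exact ⟨h * g, by rw [← hg]; rfl, by rw [mul_smul, hx]⟩
  have hsmul' : ∀ (h : G) (x : X) (ω : G ⧸ M), inc (h • x) (h • ω) ↔ inc x ω := fun h x ω =>
    ⟨fun hh => by simpa using hsmul h⁻¹ _ _ hh, hsmul h x ω⟩
  let col : X → G ⧸ M → ℚ := fun x ω => if inc x ω then 1 else 0
  have hinv : ∀ (h : G) (x y : X), ∑ ω, col (h • x) ω * col (h • y) ω = ∑ ω, col x ω * col y ω := by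
    intro h x y
    symm
    refine Fintype.sum_equiv (MulAction.toPerm h) _ _ fun ω => ?_
    simp only [col, MulAction.toPerm_apply, hsmul']
  have hmem : inc x₀ ((1 : G) : G ⧸ M) := ⟨1, rfl, one_smul _ _⟩
  have hnot : ¬ inc y₀ ((1 : G) : G ⧸ M) := by
    rintro ⟨g, hg, hx⟩
    have : g ∈ M := by
      rw [QuotientGroup.eq] at hg
      simpa using hg
    exact hcon g this hx
  have hne : x₀ ≠ y₀ := fun h => hnot (h ▸ hmem)
  set r : ℚ := ∑ ω, col x₀ ω * col x₀ ω with hr
  set l : ℚ := ∑ ω, col x₀ ω * col y₀ ω with hl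
  have hlr : l < r := by
    refine Finset.sum_lt_sum (fun ω _ => ?_) ⟨((1 : G) : G ⧸ M), Finset.mem_univ _, ?_⟩
    · simp only [col]
      split_ifs <;> norm_num
    · simp only [col, if_pos hmem, if_neg hnot]
      norm_num
  have hl0 : 0 ≤ l := Finset.sum_nonneg fun ω _ => by simp only [col]; split_ifs <;> norm_num
  have key : ∀ x y : X, ∑ ω, col x ω * col y ω = if x = y then r else l := by
    intro x y
    split_ifs with h
    · subst h
      obtain ⟨g, hg⟩ := exists_smul_eq G x₀ x
      rw [← hg, hinv]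
    · obtain ⟨g, hg1, hg2⟩ := h2 x₀ y₀ x y hne h
      rw [← hg1, ← hg2, hinv]
  let f : (X → ℚ) →ₗ[ℚ] (G ⧸ M → ℚ) :=
    { toFun := fun v ω => ∑ x, v x * col x ω
      map_add' := fun a b => funext fun ω => by simp [add_mul, Finset.sum_add_distrib]
      map_smul' := fun c a => funext fun ω => by simp [Finset.mul_sum, mul_assoc] }
  have hlt : Module.finrank ℚ (G ⧸ M → ℚ) < Module.finrank ℚ (X → ℚ) := by
    rw [Module.finrank_fintype_fun_eq_card, Module.finrank_fintype_fun_eq_card,
      ← Nat.card_eq_fintype_card, ← Nat.card_eq_fintype_card, ← Subgroup.index_eq_card]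
    exact hn
  obtain ⟨v, hv, hv0⟩ := Submodule.exists_mem_ne_zero_of_ne_bot (f.ker_ne_bot_of_finrank_lt hlt)
  have hfv : ∀ ω, ∑ x, v x * col x ω = 0 := fun ω => congrFun (LinearMap.mem_ker.1 hv) ω
  have hrow : ∀ y : X, (r - l) * v y + l * ∑ x, v x = 0 := by
    intro y
    have h1 : ∑ ω, (∑ x, v x * col x ω) * col y ω = 0 := by simp [hfv]
    simp only [Finset.sum_mul, mul_assoc] at h1
    rw [Finset.sum_comm] at h1
    simp only [← Finset.mul_sum, key, mul_ite] at h1
    have h3 : ∀ x, (if x = y then v x * r else v x * l) =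
        (if x = y then v x * (r - l) else 0) + v x * l := fun x => by split_ifs <;> ring
    simp only [h3, Finset.sum_add_distrib, Finset.sum_ite_eq', Finset.mem_univ, if_true,
      ← Finset.sum_mul] at h1
    linear_combination h1
  have hsum : ((r - l) + l * (Fintype.card X : ℚ)) * ∑ x, v x = 0 := by
    have := Finset.sum_congr rfl (fun y (_ : y ∈ Finset.univ) => hrow y)
    simp only [Finset.sum_add_distrib, ← Finset.mul_sum, Finset.sum_const, Finset.card_univ,
      nsmul_eq_mul, Finset.sum_const_zero] at this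
    linear_combination this
  have hX : (0 : ℚ) ≤ (Fintype.card X : ℚ) := Nat.cast_nonneg _
  have hpos : (0 : ℚ) < (r - l) + l * (Fintype.card X : ℚ) := by
    have := mul_nonneg hl0 hX
    linarith
  have hs0 : ∑ x, v x = 0 := by
    rcases mul_eq_zero.1 hsum with h | h
    · linarith
    · exact h
  refine hv0 (funext fun y => ?_)
  have := hrow y
  rw [hs0, mul_zero, add_zero] at this
  rcases mul_eq_zero.1 this with h | h
  · linarith
  · exact h

end CfsgLib.MinIndexPSU
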