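import Cfsg.Agent.Lib.MinIndexPSU.Frame
import Cfsg.Agent.Lib.MinIndexPSU.Fisher
import Cfsg.Agent.Lib.Classical.Herm.Simple
import Cfsg.Agent.Lib.Classical.Herm.Field

/-!
Subgroups of small index of a three-dimensional special unitary group: transitivity on isotropic
lines and the parameters of the stabiliser of an isotropic line.
-/

set_option autoImplicit false

namespace CfsgLib.MinIndexPSU

open Module CfsgLib.Classical.Herm CfsgLib.Classical.Herm.HermSpace

variable {F V : Type*} [Field F] [AddCommGroup V] [Module F V] {H : HermSpace F V}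

/-! ### The trace -/

/-- The trace to the fixed field. -/
def trace (H : HermSpace F V) : F →+ F where
  toFun x := x + H.conj x
  map_zero' := by simp
  map_add' x y := by rw [map_add]; ring

/-- The elements of trace zero. -/
def skew (H : HermSpace F V) : AddSubgroup F := (trace H).ker

theorem mem_skew {x : F} : x ∈ skew H ↔ x + H.conj x = 0 := Iff.rfl

section Field

variable [Fintype F] {q : ℕ} (hF : Fintype.card F = q ^ 2) (hc : ∀ a, H.conj a = a ^ q)
include hF hc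

open Polynomial in
theorem card_skew_le : Nat.card (skew H) ≤ q := by
  classical
  have hq := two_le_of_card hF
  have hdeg : (X ^ q + X : F[X]).natDegree = q := by
    rw [natDegree_add_eq_left_of_natDegree_lt]
    · exact natDegree_X_pow q
    · rw [natDegree_X_pow, natDegree_X]; omega
  have hne : (X ^ q + X : F[X]) ≠ 0 := fun h => by rw [h, natDegree_zero] at hdeg; omega
  let φ : skew H → (X ^ q + X : F[X]).roots.toFinset := fun x => ⟨x.1, by
    rw [Multiset.mem_toFinset, mem_roots hne, IsRoot, eval_add, eval_pow, eval_X]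
    have := mem_skew.1 x.2
    rw [hc] at this
    linear_combination this⟩
  calc Nat.card (skew H) ≤ Nat.card (X ^ q + X : F[X]).roots.toFinset :=
        Nat.card_le_card_of_injective φ fun a b h => Subtype.ext (congrArg (fun z => z.1) h :)
    _ = (X ^ q + X : F[X]).roots.toFinset.card := Nat.card_eq_finsetCard _
    _ ≤ _ := (Multiset.toFinset_card_le _).trans ((card_roots' _).trans hdeg.le)

open Polynomial in
theorem card_fixed_le : Nat.card {x : F // H.conj x = x} ≤ q := by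
  classical
  have hq := two_le_of_card hF
  have hdeg : (X ^ q - X : F[X]).natDegree = q := by
    rw [natDegree_sub_eq_left_of_natDegree_lt]
    · exact natDegree_X_pow q
    · rw [natDegree_X_pow, natDegree_X]; omega
  have hne : (X ^ q - X : F[X]) ≠ 0 := fun h => by rw [h, natDegree_zero] at hdeg; omega
  let φ : {x : F // H.conj x = x} → (X ^ q - X : F[X]).roots.toFinset := fun x => ⟨x.1, by
    rw [Multiset.mem_toFinset, mem_roots hne, IsRoot, eval_sub, eval_pow, eval_X, ← hc, x.2,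
      sub_self]⟩
  calc Nat.card {x : F // H.conj x = x} ≤ Nat.card (X ^ q - X : F[X]).roots.toFinset :=
        Nat.card_le_card_of_injective φ fun a b h => Subtype.ext (congrArg (fun z => z.1) h :)
    _ = (X ^ q - X : F[X]).roots.toFinset.card := Nat.card_eq_finsetCard _
    _ ≤ _ := (Multiset.toFinset_card_le _).trans ((card_roots' _).trans hdeg.le)

theorem card_skew : Nat.card (skew H) = q := by
  have h1 : Nat.card (F ⧸ skew H) ≤ Nat.card {x : F // H.conj x = x} := by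
    let φ : (trace H).range → {x : F // H.conj x = x} := fun y => ⟨y.1, by
      obtain ⟨x, hx⟩ := y.2
      rw [← hx]
      show H.conj (x + H.conj x) = x + H.conj x
      rw [map_add, H.conj_conj, add_comm]⟩
    rw [show Nat.card (F ⧸ skew H) = Nat.card (trace H).range from
      Nat.card_congr (QuotientAddGroup.quotientKerEquivRange (trace H)).toEquiv]
    exact Nat.card_le_card_of_injective φ fun a b h => Subtype.ext (congrArg (fun z => z.1) h :)
  have h2 := AddSubgroup.card_eq_card_quotient_mul_card_addSubgroup (skew H)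
  rw [Nat.card_eq_fintype_card (α := F), hF] at h2
  have h3 := card_skew_le hF hc
  have h4 := h1.trans (card_fixed_le hF hc)
  have hq := two_le_of_card hF
  by_contra hne
  have h5 : Nat.card (F ⧸ skew H) * Nat.card (skew H) < q * q :=
    Nat.mul_lt_mul_of_le_of_lt h4 (lt_of_le_of_ne h3 hne) (by omega)
  rw [← h2, sq] at h5
  exact lt_irrefl _ h5

theorem card_isPar : Nat.card {p : F × F // Frame.IsPar H p.1 p.2} = q ^ 3 := by
  have hex : ∀ a : F, ∃ l, Frame.IsPar H a l := fun a => by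
    obtain ⟨t, ht⟩ := H.exists_trace (c := -(a * H.conj a))
      (by rw [map_neg, map_mul, H.conj_conj, mul_comm])
    exact ⟨t, by unfold Frame.IsPar; linear_combination ht⟩
  choose σ hσ using hex
  let φ : F × skew H ≃ {p : F × F // Frame.IsPar H p.1 p.2} :=
    { toFun := fun x => ⟨(x.1, σ x.1 + x.2.1), by
        have h2 := mem_skew.1 x.2.2
        have h1 := hσ x.1
        unfold Frame.IsPar at *
        simp only [map_add]
        linear_combination h1 + h2⟩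
      invFun := fun p => (p.1.1, ⟨p.1.2 - σ p.1.1, by
        have h2 := p.2
        have h1 := hσ p.1.1
        unfold Frame.IsPar at *
        rw [mem_skew, map_sub]
        linear_combination h2 - h1⟩)
      left_inv := fun x => by ext <;> simp
      right_inv := fun p => by ext <;> simp }
  rw [← Nat.card_congr φ, Nat.card_prod, Nat.card_eq_fintype_card (α := F), hF, card_skew hF hc]
  ring

end Field

/-! ### The stabiliser of an isotropic line -/

namespace Frame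

variable [FiniteDimensional F V] (Φ : Frame H)

/-- The isometries of determinant one fixing the line of `e`. -/
def B : Subgroup (Unit' H) where
  carrier := {g | g ∈ (detHom H).ker ∧ ∃ c : F, g.1 Φ.e = c • Φ.e}
  one_mem' := ⟨one_mem _, 1, by rw [one_smul]; rfl⟩
  mul_mem' := by
    rintro a b ⟨ha, c, hca⟩ ⟨hb, d, hdb⟩
    exact ⟨mul_mem ha hb, d * c, by rw [mul_apply, hdb, map_smul, hca, smul_smul]⟩
  inv_mem' := by
    rintro a ⟨ha, c, hca⟩
    refine ⟨inv_mem ha, c⁻¹, ?_⟩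
    have hc0 : c ≠ 0 := fun h => unit_ne_zero a Φ.e_ne (by rw [hca, h, zero_smul])
    conv_lhs => rw [← inv_smul_smul₀ hc0 Φ.e, map_smul, ← hca, inv_apply_self]

theorem mem_B {g : Unit' H} : g ∈ Φ.B ↔ g ∈ (detHom H).ker ∧ ∃ c : F, g.1 Φ.e = c • Φ.e :=
  Iff.rfl

theorem B_le : Φ.B ≤ (detHom H).ker := fun _ h => h.1

theorem B_spec (g : Φ.B) : g.1.1 Φ.e = H.h (g.1.1 Φ.e) Φ.f • Φ.e := by
  obtain ⟨c, hc⟩ := g.2.2
  rw [hc, H.smul_left, Φ.ef, mul_one]

/-- The eigenvalue at `e`. -/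
noncomputable def chi : Φ.B →* Fˣ where
  toFun g := Units.mk0 (H.h (g.1.1 Φ.e) Φ.f) fun h => unit_ne_zero g.1 Φ.e_ne (by
    rw [Φ.B_spec g, h, zero_smul])
  map_one' := Units.ext (Φ.ef)
  map_mul' a b := Units.ext (by
    show H.h ((a * b).1.1 Φ.e) Φ.f = _ * _
    rw [Subgroup.coe_mul, mul_apply]
    conv_lhs => rw [Φ.B_spec b, map_smul, H.smul_left, mul_comm]
    rfl)

theorem chi_spec (g : Φ.B) : g.1.1 Φ.e = (Φ.chi g : F) • Φ.e := Φ.B_spec g

theorem chi_eq (g : Φ.B) {c : F} (h : g.1.1 Φ.e = c • Φ.e) : (Φ.chi g : F) = c := by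
  show H.h (g.1.1 Φ.e) Φ.f = c
  rw [h, H.smul_left, Φ.ef, mul_one]

theorem uel_mem_B {a l : F} (h : IsPar H a l) : Φ.uel a l h ∈ Φ.B :=
  ⟨Φ.uel_mem_ker h, 1, by rw [Φ.uel_apply_e, one_smul]⟩

theorem isPar_neg {a l : F} (h : IsPar H a l) : IsPar H (-a) (H.conj l) := by
  unfold IsPar at *
  rw [map_neg, H.conj_conj]
  linear_combination h

theorem uel_inv {a l : F} (h : IsPar H a l) :
    (Φ.uel a l h)⁻¹ = Φ.uel (-a) (H.conj l) (isPar_neg h) := by
  rw [inv_eq_iff_mul_eq_one, Φ.uel_mul, ← Φ.uel_zero]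
  refine Φ.uel_congr _ _ (add_neg_cancel a) ?_
  unfold IsPar at h
  linear_combination h

theorem isPar_zero_iff {l : F} : IsPar H 0 l ↔ l ∈ skew H := by
  simp [IsPar, mem_skew]

variable (M : Subgroup (Unit' H))

/-- The parameters of the root elements at `e` lying in `M`. -/
def rset : Set (F × F) := {p | ∃ h : IsPar H p.1 p.2, Φ.uel p.1 p.2 h ∈ M}

/-- The first parameters. -/
def A : AddSubgroup F where
  carrier := {a | ∃ l, ∃ h : IsPar H a l, Φ.uel a l h ∈ M}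
  zero_mem' := ⟨0, isPar_zero, by rw [Φ.uel_zero]; exact one_mem M⟩
  add_mem' := by
    rintro a b ⟨l, h, hl⟩ ⟨m, h', hm⟩
    exact ⟨_, isPar_add h h', Φ.uel_mul h h' ▸ mul_mem hl hm⟩
  neg_mem' := by
    rintro a ⟨l, h, hl⟩
    exact ⟨_, isPar_neg h, Φ.uel_inv h ▸ inv_mem hl⟩

/-- The parameters of the transvections. -/
def Z : AddSubgroup F where
  carrier := {l | ∃ h : IsPar H 0 l, Φ.uel 0 l h ∈ M}
  zero_mem' := ⟨isPar_zero, by rw [Φ.uel_zero]; exact one_mem M⟩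
  add_mem' := by
    rintro l m ⟨h, hl⟩ ⟨h', hm⟩
    have h2 : IsPar H 0 (l + m) := isPar_zero_iff.2 (add_mem (isPar_zero_iff.1 h) (isPar_zero_iff.1 h'))
    refine ⟨h2, ?_⟩
    rw [← Φ.uel_congr (isPar_add h h') h2 (add_zero 0) (by simp), ← Φ.uel_mul h h']
    exact mul_mem hl hm
  neg_mem' := by
    rintro l ⟨h, hl⟩
    have h2 : IsPar H 0 (-l) := isPar_zero_iff.2 (neg_mem (isPar_zero_iff.1 h))
    refine ⟨h2, ?_⟩
    rw [← Φ.uel_congr (isPar_neg h) h2 neg_zero (by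
      unfold IsPar at h
      simp only [map_zero, mul_zero, add_zero] at h
      linear_combination h), ← Φ.uel_inv h]
    exact inv_mem hl

theorem Z_le_skew : Φ.Z M ≤ skew H := fun _ ⟨h, _⟩ => isPar_zero_iff.1 h

theorem mem_A {a : F} : a ∈ Φ.A M ↔ ∃ l, ∃ h : IsPar H a l, Φ.uel a l h ∈ M := Iff.rfl

theorem mem_Z {l : F} : l ∈ Φ.Z M ↔ ∃ h : IsPar H 0 l, Φ.uel 0 l h ∈ M := Iff.rfl

theorem card_rset : Nat.card (Φ.rset M) = Nat.card (Φ.A M) * Nat.card (Φ.Z M) := by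
  rw [← Nat.card_prod]
  have hσ : ∀ a : Φ.A M, ∃ l, ∃ h : IsPar H a.1 l, Φ.uel a.1 l h ∈ M := fun a => a.2
  choose σ hσ1 hσ2 using hσ
  symm
  refine Nat.card_congr
    { toFun := fun x => ⟨(x.1.1, σ x.1 + x.2.1), ?_⟩
      invFun := fun p => (⟨p.1.1, ⟨p.1.2, p.2⟩⟩, ⟨p.1.2 - σ ⟨p.1.1, ⟨p.1.2, p.2⟩⟩, ?_⟩)
      left_inv := ?_
      right_inv := ?_ }
  · obtain ⟨hz, hzm⟩ := x.2.2
    have := mul_mem (hσ2 x.1) hzm
    rw [Φ.uel_mul] at this
    have e2 : σ x.1 + (x.2.1 : F) - 0 * H.conj x.1.1 = σ x.1 + x.2.1 := by ring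
    refine ⟨?_, ?_⟩
    · have := isPar_add (hσ1 x.1) hz
      rwa [add_zero, e2] at this
    · rw [← Φ.uel_congr (isPar_add (hσ1 x.1) hz) _ (add_zero _) e2]
      exact this
  · obtain ⟨h, hm⟩ := p.2
    set a : Φ.A M := ⟨p.1.1, ⟨p.1.2, h, hm⟩⟩
    have := mul_mem (inv_mem (hσ2 a)) hm
    rw [Φ.uel_inv, Φ.uel_mul] at this
    have hp : IsPar H 0 (p.1.2 - σ a) := by
      have h1 := hσ1 a
      unfold IsPar at *
      simp only [map_sub, map_zero, mul_zero, add_zero]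
      linear_combination h - h1
    refine ⟨hp, ?_⟩
    rw [← Φ.uel_congr _ hp (neg_add_cancel a.1) ?_]
    · exact this
    · have h1 := hσ1 a
      unfold IsPar at h1
      rw [map_neg]
      linear_combination h1
  · intro x
    ext <;> simp
  · intro p
    ext <;> simp

/-- `chi` on `M ⊓ B`. -/
noncomputable def chiM : ↥(M ⊓ Φ.B) →* Fˣ := Φ.chi.comp (Subgroup.inclusion inf_le_right)

/-- The eigenvalues at `e` of `M ⊓ B`. -/
noncomputable def K : Subgroup Fˣ := (Φ.chiM M).range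

theorem mem_K {t : Fˣ} : t ∈ Φ.K M ↔ ∃ g ∈ M, g ∈ Φ.B ∧ g.1 Φ.e = (t : F) • Φ.e := by
  constructor
  · rintro ⟨g, rfl⟩
    exact ⟨g.1, g.2.1, g.2.2, Φ.chi_spec ⟨g.1, g.2.2⟩⟩
  · rintro ⟨g, hgM, hgB, hg⟩
    exact ⟨⟨g, hgM, hgB⟩, Units.ext (Φ.chi_eq ⟨g, hgB⟩ hg)⟩

variable (hd : finrank F V = 3)
include hd

theorem tor_mem_B (t : Fˣ) : Φ.tor hd t ∈ Φ.B := ⟨Φ.tor_mem_ker hd t, t, Φ.tor_e hd t⟩

theorem tor_one : Φ.tor hd 1 = 1 := unit_ext fun x => by
  rw [Φ.tor_apply, Φ.torFun_one hd]; rfl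

theorem exists_mem_of_mem_K {t : Fˣ} (ht : t ∈ Φ.K M) :
    ∃ a l, ∃ h : IsPar H a l, Φ.uel a l h * Φ.tor hd t ∈ M := by
  obtain ⟨g, hgM, hgB, hg⟩ := (Φ.mem_K M).1 ht
  obtain ⟨a, l, h, t', ht', rfl⟩ := Φ.exists_uel_mul_tor hd hgB.1 hg
  exact ⟨a, l, h, (Units.ext ht' : t' = t) ▸ hgM⟩

theorem card_inf_B : Nat.card ↥(M ⊓ Φ.B) = Nat.card (Φ.rset M) * Nat.card (Φ.K M) := by
  rw [← Subgroup.index_mul_card (Φ.chiM M).ker, Subgroup.index_ker, mul_comm]
  congr 1
  let φ : Φ.rset M → (Φ.chiM M).ker := fun p =>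
    ⟨⟨Φ.uel p.1.1 p.1.2 p.2.fst, p.2.snd, Φ.uel_mem_B p.2.fst⟩, Units.ext
      ((Φ.chi_eq ⟨_, Φ.uel_mem_B p.2.fst⟩ (c := 1)
        (by rw [Φ.uel_apply_e, one_smul])).trans Units.val_one.symm)⟩
  refine (Nat.card_congr (Equiv.ofBijective φ ⟨?_, ?_⟩)).symm
  · intro p p' h
    have := Φ.uel_inj p.2.fst p'.2.fst (congrArg (fun z : (Φ.chiM M).ker => z.1.1) h)
    exact Subtype.ext (Prod.ext this.1 this.2)
  · rintro ⟨g, hg⟩
    have h1 : g.1.1 Φ.e = (1 : F) • Φ.e := by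
      rw [Φ.chi_spec ⟨g.1, g.2.2⟩]
      exact congrArg (fun z : Fˣ => (z : F) • Φ.e) hg
    obtain ⟨a, l, h, t, ht, hgt⟩ := Φ.exists_uel_mul_tor hd g.2.2.1 h1
    rw [(Units.ext ht : t = 1), Φ.tor_one hd, mul_one] at hgt
    exact ⟨⟨(a, l), h, hgt ▸ g.2.1⟩, Subtype.ext (Subtype.ext hgt.symm)⟩

theorem A_stable {t : Fˣ} (ht : t ∈ Φ.K M) {a : F} (ha : a ∈ Φ.A M) :
    H.conj t * (H.conj t / t) * a ∈ Φ.A M := by
  obtain ⟨l, h, hl⟩ := ha
  obtain ⟨a₀, l₀, h₀, hg⟩ := Φ.exists_mem_of_mem_K M hd ht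
  have := mul_mem (mul_mem hg hl) (inv_mem hg)
  rw [mul_inv_rev, show Φ.uel a₀ l₀ h₀ * Φ.tor hd t * Φ.uel a l h * ((Φ.tor hd t)⁻¹ * (Φ.uel a₀ l₀ h₀)⁻¹)
    = Φ.uel a₀ l₀ h₀ * (Φ.tor hd t * Φ.uel a l h * (Φ.tor hd t)⁻¹) * (Φ.uel a₀ l₀ h₀)⁻¹ by group,
    Φ.tor_conj, Φ.uel_inv, Φ.uel_mul, Φ.uel_mul] at this
  have hA : a₀ + H.conj t * (H.conj t / t) * a + -a₀ ∈ Φ.A M := ⟨_, _, this⟩
  rwa [add_neg_cancel_comm] at hA

theorem Z_stable {t : Fˣ} (ht : t ∈ Φ.K M) {l : F} (hlZ : l ∈ Φ.Z M) :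
    (t : F) * H.conj t * l ∈ Φ.Z M := by
  obtain ⟨h, hl⟩ := hlZ
  obtain ⟨a₀, l₀, h₀, hg⟩ := Φ.exists_mem_of_mem_K M hd ht
  have := mul_mem (mul_mem hg hl) (inv_mem hg)
  rw [mul_inv_rev, show Φ.uel a₀ l₀ h₀ * Φ.tor hd t * Φ.uel 0 l h * ((Φ.tor hd t)⁻¹ * (Φ.uel a₀ l₀ h₀)⁻¹)
    = Φ.uel a₀ l₀ h₀ * (Φ.tor hd t * Φ.uel 0 l h * (Φ.tor hd t)⁻¹) * (Φ.uel a₀ l₀ h₀)⁻¹ by group,
    Φ.tor_conj, Φ.uel_inv, Φ.uel_mul, Φ.uel_mul] at this
  have hp : IsPar H 0 ((t : F) * H.conj t * l) := by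
    have := isPar_conj t h
    rwa [mul_zero] at this
  refine ⟨hp, ?_⟩
  rw [← Φ.uel_congr _ hp (show a₀ + H.conj t * (H.conj t / t) * 0 + -a₀ = 0 by ring) ?_]
  · exact this
  · unfold IsPar at h₀
    simp only [mul_zero, add_zero, map_neg, zero_mul, sub_zero]
    linear_combination h₀

omit hd in
theorem comm_mem_Z {a b : F} (ha : a ∈ Φ.A M) (hb : b ∈ Φ.A M) :
    a * H.conj b - b * H.conj a ∈ Φ.Z M := by
  obtain ⟨l, h, hl⟩ := ha
  obtain ⟨m, h', hm⟩ := hb
  have hd' : IsPar H 0 (a * H.conj b - b * H.conj a) := by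
    simp only [IsPar, map_sub, map_mul, H.conj_conj, map_zero, mul_zero, add_zero]
    ring
  refine ⟨hd', ?_⟩
  have he : Φ.uel 0 _ hd' * (Φ.uel b m h' * Φ.uel a l h) = Φ.uel a l h * Φ.uel b m h' := by
    rw [Φ.uel_mul h', Φ.uel_mul, Φ.uel_mul]
    refine Φ.uel_congr _ _ (by ring) ?_
    simp only [map_zero, mul_zero, sub_zero]
    ring
  rw [← eq_mul_inv_iff_mul_eq] at he
  rw [he]
  exact mul_mem (mul_mem hl hm) (inv_mem (mul_mem hm hl))

omit hd in
theorem norm_mem_Z (h2 : (2 : F) = 0) {a : F} (ha : a ∈ Φ.A M) : a * H.conj a ∈ Φ.Z M := by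
  obtain ⟨l, h, hl⟩ := ha
  have := mul_mem hl hl
  rw [Φ.uel_mul] at this
  have hp : IsPar H 0 (a * H.conj a) := by
    simp only [IsPar, map_mul, H.conj_conj, map_zero, mul_zero, add_zero]
    linear_combination (a * H.conj a) * h2
  refine ⟨hp, ?_⟩
  rw [← Φ.uel_congr _ hp (show a + a = 0 by linear_combination a * h2)
    (show l + l - a * H.conj a = a * H.conj a by linear_combination (l - a * H.conj a) * h2)]
  exact this

end Frame

/-! ### Transitivity and the index -/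

theorem relIndex_congr_of_forall_exists {G : Type*} [Group G] {B M L : Subgroup G} (hM : M ≤ L)
    (h : ∀ g ∈ L, ∃ m ∈ M, g⁻¹ * m ∈ B) : B.relIndex M = B.relIndex L := by
  refine Nat.card_congr (Equiv.ofBijective _
    ⟨(Subgroup.quotientSubgroupOfEmbeddingOfLE B hM).injective, fun z => ?_⟩)
  induction z using QuotientGroup.induction_on with
  | H g =>
  obtain ⟨m, hm, hgm⟩ := h g.1 g.2
  refine ⟨((⟨m, hm⟩ : M) : M ⧸ B.subgroupOf M), ?_⟩
  rw [Subgroup.quotientSubgroupOfEmbeddingOfLE_apply_mk, QuotientGroup.eq, Subgroup.mem_subgroupOf]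
  simpa using inv_mem hgm

variable [Fintype F] [FiniteDimensional F V] (hd : finrank F V = 3)
include hd

omit [Fintype F] in
theorem Frame.exists_swap (Φ : Frame H) : ∃ w ∈ (detHom H).ker, w.1 Φ.e = Φ.f := by
  obtain ⟨g, hg, h⟩ := rootGen_transitive (big_of_finrank (H := H) hd.ge) Φ.ee Φ.e_ne Φ.ff Φ.f_ne
  exact ⟨g, rootGen_le_ker_det hg, h⟩

omit [Fintype F] in
/-- An isotropic vector off the line of `e` is a scalar multiple of a root translate of `f`. -/
theorem Frame.exists_uel_apply_f (Φ : Frame H) {x : V} (hx : H.h x x = 0)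
    (hne : ∀ c : F, x ≠ c • Φ.e) :
    ∃ (a l : F) (h : Frame.IsPar H a l) (c : F), c ≠ 0 ∧ x = c • (Φ.uel a l h).1 Φ.f := by
  have hxe : H.h x Φ.e ≠ 0 := fun h => by
    obtain ⟨c, hc⟩ := eq_smul_of_isotropic hd Φ.e_ne Φ.ee hx (H.h_comm_zero h)
    exact hne c hc
  set c := H.h x Φ.e with hc
  set y := c⁻¹ • x with hy
  have hye : H.h y Φ.e = 1 := by rw [hy, H.smul_left, ← hc, inv_mul_cancel₀ hxe]
  have hyy : H.h y y = 0 := by rw [hy, H.smul_left, H.smul_right, hx, mul_zero, mul_zero]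
  have hv : y = Φ.vec (H.h y Φ.f) 1 (H.h y Φ.k) := by rw [← hye]; exact Φ.eq_vec hd y
  have hp : Frame.IsPar H (H.h y Φ.k) (H.h y Φ.f) := by
    have h := hyy
    rw [hv, Φ.h_vec_vec, map_one] at h
    unfold Frame.IsPar
    linear_combination h
  refine ⟨_, _, hp, c, hxe, ?_⟩
  rw [Φ.uel_apply_f hp, ← hv, hy, smul_inv_smul₀ hxe]

theorem finite_unit' : Finite (Unit' H) := by
  have : Finite V := Module.finite_of_finite F
  have : Finite (V ≃ₗ[F] V) := Finite.of_injective (fun g => (g : V → V)) DFunLike.coe_injective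
  infer_instance

variable {q : ℕ} (hF : Fintype.card F = q ^ 2) (hc : ∀ a, H.conj a = a ^ q)
include hF hc

omit hd in
theorem natCard_units : Nat.card Fˣ = q ^ 2 - 1 := by
  rw [Nat.card_units, Nat.card_eq_fintype_card, hF]

theorem Frame.card_B (Φ : Frame H) : Nat.card Φ.B = q ^ 3 * (q ^ 2 - 1) := by
  have h1 := Φ.card_inf_B ⊤ hd
  rw [top_inf_eq] at h1
  have hK : Φ.K ⊤ = ⊤ := eq_top_iff.2 fun t _ => (Φ.mem_K ⊤).2
    ⟨Φ.tor hd t, Subgroup.mem_top _, Φ.tor_mem_B hd t, Φ.tor_e hd t⟩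
  rw [h1, hK, Subgroup.card_top, natCard_units hF hc, ← card_isPar hF hc]
  congr 1
  exact Nat.card_congr (Equiv.subtypeEquivRight fun p => ⟨fun h => h.1, fun h => ⟨h, Subgroup.mem_top _⟩⟩)

theorem Frame.relIndex_B (Φ : Frame H) : Φ.B.relIndex (detHom H).ker = q ^ 3 + 1 := by
  obtain ⟨w, hw, hwe⟩ := Φ.exists_swap hd
  set G := (detHom H).ker
  have := finite_unit' (H := H) hd
  let φ : Option {p : F × F // Frame.IsPar H p.1 p.2} → G ⧸ Φ.B.subgroupOf G := fun o =>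
    o.elim ((1 : G) : G ⧸ Φ.B.subgroupOf G) fun p =>
      ((⟨Φ.uel _ _ p.2 * w, mul_mem (Φ.uel_mem_ker p.2) hw⟩ : G) : G ⧸ Φ.B.subgroupOf G)
  have happ : ∀ {a l : F} (h : Frame.IsPar H a l), (Φ.uel a l h * w).1 Φ.e = Φ.vec l 1 a := by
    intro a l h
    rw [mul_apply, hwe, Φ.uel_apply_f]
  have heq : ∀ g g' : G, (g : G ⧸ Φ.B.subgroupOf G) = g' ↔ ∃ c : F, g'.1.1 Φ.e = c • g.1.1 Φ.e := by
    intro g g'
    rw [QuotientGroup.eq, Subgroup.mem_subgroupOf, Φ.mem_B]
    constructor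
    · rintro ⟨-, c, hc'⟩
      rw [Subgroup.coe_mul, InvMemClass.coe_inv, mul_apply] at hc'
      exact ⟨c, by rw [← map_smul, ← hc', self_apply_inv]⟩
    · rintro ⟨c, hc'⟩
      refine ⟨(g⁻¹ * g').2, c, ?_⟩
      rw [Subgroup.coe_mul, InvMemClass.coe_inv, mul_apply, hc', map_smul, inv_apply_self]
  have hbij : Function.Bijective φ := by
    constructor
    · rintro (_ | p) (_ | p') h
      · rfl
      · exfalso
        obtain ⟨c, hc'⟩ := (heq _ _).1 h
        rw [happ, OneMemClass.coe_one, one_apply] at hc'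
        have := congrArg (fun z => H.h z Φ.e) hc'
        simp [Φ.h_vec_e, H.smul_left, Φ.ee] at this
      · exfalso
        obtain ⟨c, hc'⟩ := (heq _ _).1 h.symm
        rw [happ, OneMemClass.coe_one, one_apply] at hc'
        have := congrArg (fun z => H.h z Φ.e) hc'
        simp [Φ.h_vec_e, H.smul_left, Φ.ee] at this
      · obtain ⟨c, hc'⟩ := (heq _ _).1 h
        rw [happ, happ] at hc'
        have h1 := congrArg (fun z => H.h z Φ.e) hc'
        simp only [H.smul_left, Φ.h_vec_e, mul_one] at h1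
        rw [← h1, one_smul] at hc'
        have h2 := congrArg (fun z => H.h z Φ.f) hc'
        have h3 := congrArg (fun z => H.h z Φ.k) hc'
        simp only [Φ.h_vec_f, Φ.h_vec_k] at h2 h3
        exact congrArg some (Subtype.ext (Prod.ext h3.symm h2.symm))
    · intro z
      induction z using QuotientGroup.induction_on with
      | H g =>
      by_cases he : ∃ c : F, g.1.1 Φ.e = c • Φ.e
      · exact ⟨none, (heq _ _).2 (by simpa using he)⟩
      · push Not at he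
        obtain ⟨a, l, h, c, -, hx⟩ := Φ.exists_uel_apply_f hd (x := g.1.1 Φ.e)
          (by rw [unit_h, Φ.ee]) he
        refine ⟨some ⟨(a, l), h⟩, (heq _ _).2 ⟨c, ?_⟩⟩
        rw [hx, happ, Φ.uel_apply_f]
  rw [Subgroup.relIndex, Subgroup.index, ← Nat.card_congr (Equiv.ofBijective φ hbij),
    Finite.card_option, card_isPar hF hc]

variable (M : Subgroup (Unit' H)) (hM : M ≤ (detHom H).ker)
  (hn : M.relIndex (detHom H).ker ≤ q ^ 3)
include hM hn

/-- A subgroup of small index is transitive on isotropic lines. -/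
theorem exists_mem_map_line {x y : V} (hx0 : x ≠ 0) (hx : H.h x x = 0) (hy0 : y ≠ 0)
    (hy : H.h y y = 0) : ∃ m ∈ M, ∃ c : F, c ≠ 0 ∧ m.1 x = c • y := by
  have hB := big_of_finrank (H := H) hd.ge
  obtain ⟨z, pz⟩ := exists_isotropic_partner (H := H) hx hx0
  obtain ⟨Φ, hΦe, -⟩ := exists_frame hd pz
  obtain ⟨γ, hγ, hγx⟩ := rootGen_transitive hB hx hx0 hy hy0
  have := finite_unit' (H := H) hd
  set G := (detHom H).ker
  set S := Φ.B.subgroupOf G
  have heq : ∀ g g' : G, (g : G ⧸ S) = g' ↔ ∃ c : F, g'.1.1 Φ.e = c • g.1.1 Φ.e := by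
    intro g g'
    rw [QuotientGroup.eq, Subgroup.mem_subgroupOf, Φ.mem_B]
    constructor
    · rintro ⟨-, c, hc'⟩
      rw [Subgroup.coe_mul, InvMemClass.coe_inv, mul_apply] at hc'
      exact ⟨c, by rw [← map_smul, ← hc', self_apply_inv]⟩
    · rintro ⟨c, hc'⟩
      refine ⟨(g⁻¹ * g').2, c, ?_⟩
      rw [Subgroup.coe_mul, InvMemClass.coe_inv, mul_apply, hc', map_smul, inv_apply_self]
  have hpair : ∀ a b : G, (a : G ⧸ S) ≠ b →
      IsHPair H (a.1.1 Φ.e) ((H.h (b.1.1 Φ.e) (a.1.1 Φ.e))⁻¹ • b.1.1 Φ.e) := by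
    intro a b hab
    have hne : H.h (b.1.1 Φ.e) (a.1.1 Φ.e) ≠ 0 := fun h => by
      obtain ⟨c, hc'⟩ := eq_smul_of_isotropic hd (unit_ne_zero a.1 Φ.e_ne)
        (by rw [unit_h, Φ.ee]) (by rw [unit_h, Φ.ee]) (H.h_comm_zero h)
      exact hab ((heq a b).2 ⟨c, hc'⟩)
    exact ⟨by rw [unit_h, Φ.ee], by rw [H.smul_left, H.smul_right, unit_h, Φ.ee, mul_zero, mul_zero],
      by rw [H.smul_left, inv_mul_cancel₀ hne]⟩
  have h2 : ∀ a b c d : G ⧸ S, a ≠ b → c ≠ d → ∃ g : G, g • a = c ∧ g • b = d := by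
    intro A₁ B₁ C₁ D₁
    induction A₁ using QuotientGroup.induction_on with
    | H a =>
    induction B₁ using QuotientGroup.induction_on with
    | H b =>
    induction C₁ using QuotientGroup.induction_on with
    | H c =>
    induction D₁ using QuotientGroup.induction_on with
    | H d =>
    intro hab hcd
    obtain ⟨g, hg, hga, hgb⟩ := rootGen_map_hpair hB (hpair a b hab) (hpair c d hcd)
    refine ⟨⟨g, rootGen_le_ker_det hg⟩, ?_, ?_⟩
    · rw [MulAction.Quotient.smul_mk, smul_eq_mul, heq]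
      exact ⟨1, by rw [one_smul, Subgroup.coe_mul, mul_apply, hga]⟩
    · rw [MulAction.Quotient.smul_mk, smul_eq_mul, heq]
      set r := (H.h (b.1.1 Φ.e) (a.1.1 Φ.e))⁻¹
      set s := (H.h (d.1.1 Φ.e) (c.1.1 Φ.e))⁻¹ with hs
      have hs0 : s ≠ 0 := fun h0 => by
        have := (hpair c d hcd).2.2
        rw [← hs, h0, zero_smul, H.zero_left] at this
        exact zero_ne_one this
      refine ⟨s⁻¹ * r, ?_⟩
      rw [Subgroup.coe_mul, mul_apply]
      rw [map_smul] at hgb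
      rw [← smul_smul, hgb, inv_smul_smul₀ hs0]
  have hcard : Nat.card (G ⧸ S) = q ^ 3 + 1 := Φ.relIndex_B hd hF hc
  obtain ⟨m, hm, hmx⟩ := exists_smul_eq_of_index_lt h2 (M.subgroupOf G)
    (by rw [hcard]; exact Nat.lt_succ_of_le hn) ((1 : G) : G ⧸ S)
    ((⟨γ, rootGen_le_ker_det hγ⟩ : G) : G ⧸ S)
  rw [MulAction.Quotient.smul_mk, smul_eq_mul, mul_one, heq] at hmx
  obtain ⟨c, hc'⟩ := hmx
  rw [hΦe] at hc'
  have hc'' : y = c • m.1.1 x := by rw [← hγx]; exact hc'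
  have hc0 : c ≠ 0 := fun h => hy0 (by rw [hc'', h, zero_smul])
  exact ⟨m.1, hm, c⁻¹, inv_ne_zero hc0, by rw [hc'', inv_smul_smul₀ hc0]⟩

/-- The index formula. -/
theorem Frame.relIndex_mul_card (Φ : Frame H) :
    M.relIndex (detHom H).ker * (Nat.card (Φ.A M) * Nat.card (Φ.Z M)) * Nat.card (Φ.K M) =
      q ^ 3 * (q ^ 2 - 1) := by
  have := finite_unit' (H := H) hd
  set G := (detHom H).ker
  set S := Φ.B.subgroupOf G
  have hmul : M.relIndex G * Nat.card M = Φ.B.relIndex G * Nat.card Φ.B := by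
    rw [Subgroup.relIndex, Subgroup.relIndex,
      ← Nat.card_congr (Subgroup.subgroupOfEquivOfLe hM).toEquiv,
      ← Nat.card_congr (Subgroup.subgroupOfEquivOfLe Φ.B_le).toEquiv,
      Subgroup.index_mul_card, Subgroup.index_mul_card]
  have htr : Φ.B.relIndex M = Φ.B.relIndex G := by
    refine relIndex_congr_of_forall_exists hM fun g hg => ?_
    obtain ⟨m, hm, c, -, hmc⟩ := exists_mem_map_line hd hF hc M hM hn Φ.e_ne Φ.ee
      (unit_ne_zero g Φ.e_ne) (by rw [unit_h, Φ.ee])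
    refine ⟨m, hm, ?_, c, ?_⟩
    · exact mul_mem (inv_mem hg) (hM hm)
    · rw [mul_apply, hmc, map_smul, inv_apply_self]
  have hcardM : Nat.card M = Φ.B.relIndex M * Nat.card ↥(M ⊓ Φ.B) := by
    rw [← Subgroup.inf_relIndex_left, ← Subgroup.relIndex_bot_left, ← Subgroup.relIndex_bot_left,
      mul_comm, Subgroup.relIndex_mul_relIndex _ _ _ bot_le inf_le_left]
  rw [hcardM, htr, Φ.relIndex_B hd hF hc, Φ.card_B hd hF hc, Φ.card_inf_B M hd, Φ.card_rset M] at hmul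
  refine Nat.eq_of_mul_eq_mul_left (show 0 < q ^ 3 + 1 by omega) ?_
  rw [← hmul]
  ring

theorem root_mem_transport {e v : V} (he0 : e ≠ 0) (he : H.h e e = 0) (hv0 : v ≠ 0)
    (hv : H.h v v = 0) : ∃ c : F, c ≠ 0 ∧ ∀ (l : F) (cd : RootCond H e 0 l), root H e 0 l cd ∈ M →
      ∃ cd' : RootCond H v 0 (c * H.conj c * l), root H v 0 (c * H.conj c * l) cd' ∈ M := by
  obtain ⟨m, hm, c, hc0, hmc⟩ := exists_mem_map_line hd hF hc M hM hn he0 he hv0 hv
  refine ⟨c, hc0, fun l cd hl => ?_⟩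
  have h1 := mul_mem (mul_mem hm hl) (inv_mem hm)
  rw [root_conj] at h1
  have cd1 : RootCond H (c • v) 0 l := by
    have := cd.map m
    rwa [hmc, map_zero] at this
  rw [root_congr _ cd1 hmc (map_zero _) rfl, root_smul c hc0 cd1] at h1
  have cd2 : RootCond H v 0 (c * H.conj c * l) := by
    have := cd1.smul c hc0
    rwa [smul_zero] at this
  exact ⟨cd2, root_congr (cd1.smul c hc0) cd2 rfl (smul_zero _) rfl ▸ h1⟩

/-- A subgroup of small index containing a full transvection group is everything. -/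
theorem eq_of_Z_eq (hP : Perfectable H) (Φ : Frame H) (hZ : Φ.Z M = skew H) :
    M = (detHom H).ker := by
  have hB := big_of_finrank (H := H) hd.ge
  refine le_antisymm hM ?_
  rw [← rootGen_eq_ker_det hB Φ.pair, ← closure_transvectionSet hB hP Φ.pair, Subgroup.closure_le]
  rintro _ ⟨v, l, hl, hv, rfl⟩
  by_cases hv0 : v = 0
  · have : shear H v l hl = 1 := unit_ext fun x => by
      rw [shear_apply, hv0, smul_zero, add_zero]; rfl
    rw [this]; exact one_mem M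
  · obtain ⟨c, hc0, h⟩ := root_mem_transport hd hF hc M hM hn Φ.e_ne Φ.ee hv0 hv
    have hN : c * H.conj c ≠ 0 := mul_ne_zero hc0 (H.conj_ne_zero hc0)
    have hsk : (c * H.conj c)⁻¹ * l ∈ Φ.Z M := by
      rw [hZ, mem_skew, map_mul, map_inv₀, map_mul, H.conj_conj, mul_comm (H.conj c) c, ← mul_add]
      have := hl.eq
      rw [hv, mul_zero] at this
      rw [show l + H.conj l = 0 by linear_combination this, mul_zero]
    obtain ⟨hp, hmem⟩ := hsk
    have cd : RootCond H Φ.e 0 ((c * H.conj c)⁻¹ * l) := by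
      have := Φ.rootCond hp
      rwa [zero_smul] at this
    obtain ⟨cd', h'⟩ := h _ cd (root_congr (Φ.rootCond hp) cd rfl (zero_smul F _) rfl ▸ hmem)
    rw [shear_isotropic_eq_root hl hv]
    exact root_congr cd' _ rfl rfl (mul_inv_cancel_left₀ hN l) ▸ h'

end CfsgLib.MinIndexPSU
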