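import Cfsg.Agent.Lib.MinIndexPSU.Translates

/-!
Rough lower bounds for non-trivial transitive actions of special unitary groups.
-/

set_option autoImplicit false
set_option linter.unusedSectionVars false

namespace CfsgLib.MinIndexPSU

open Module CfsgLib.Classical.Herm CfsgLib.Classical.Herm.HermSpace
open scoped Pointwise

variable {F V : Type*} [Field F] [Fintype F] [AddCommGroup V] [Module F V] [FiniteDimensional F V]
  {H : HermSpace F V} {e f : V} [hp : Fact (IsHPair H e f)]
  {Ω : Type*} [Finite Ω] [MulAction (rootGen H) Ω] {q : ℕ} (hQ : IsQ H q)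

include hp

omit [Fintype F] [Finite Ω] in
/-- Some point is moved by the transvections at `e`. -/
theorem exists_moved (hd : 4 ≤ finrank F V) [MulAction.IsPretransitive (rootGen H) Ω]
    (hΩ : 1 < Nat.card Ω) : ∃ x : Ω, ¬ ZFix H e x := by
  by_contra hcon
  push Not at hcon
  have hB := big_of_finrank (H := H) (by omega)
  have key : ∀ (g : rootGen H) (x : Ω), g • x = x := by
    intro g x
    have hg : g.1 ∈ Subgroup.closure (transvectionSet H) := by
      rw [closure_transvectionSet hB (perfectable_of_finrank hd) hp.out]; exact g.2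
    suffices h : ∀ k ∈ Subgroup.closure (transvectionSet H),
        ∃ hk : k ∈ rootGen H, (⟨k, hk⟩ : rootGen H) • x = x from (h g.1 hg).2
    intro k hk
    induction hk using Subgroup.closure_induction with
    | mem k hk =>
      obtain ⟨v, c, hc, hv, rfl⟩ := hk
      rw [shear_isotropic_eq_root hc hv]
      refine ⟨root_mem _, ?_⟩
      have hc' : c ∈ skew H := by
        rw [mem_skew]; linear_combination hc.eq - c * H.conj c * hv
      have e' : (⟨root H v 0 c _, root_mem (rootCond_skew hv hc')⟩ : rootGen H) = rootG H v 0 c :=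
        Subtype.ext (rootG_coe (rootCond_skew hv hc')).symm
      rw [e']
      by_cases hv0 : v = 0
      · have : rootG H v 0 c = 1 := by
          refine Subtype.ext ?_
          rw [rootG_coe (rootCond_skew hv hc')]
          exact unit_ext fun y => by subst hv0; simp [root_apply, H.zero_right]
        rw [this, one_smul]
      · obtain ⟨g, hg, hge⟩ := rootGen_transitive hB hp.out.1 hp.out.left_ne_zero hv hv0
        have h1 := (zFix_map (H := H) ⟨g, hg⟩ e ((⟨g, hg⟩ : rootGen H)⁻¹ • x)).2
          (hcon ((⟨g, hg⟩ : rootGen H)⁻¹ • x))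
        rw [smul_inv_smul, hge] at h1
        exact h1 c hc'
    | one => exact ⟨one_mem _, one_smul _ x⟩
    | mul a b _ _ ha hb =>
      obtain ⟨ha', ha⟩ := ha
      obtain ⟨hb', hb⟩ := hb
      refine ⟨mul_mem ha' hb', ?_⟩
      rw [show (⟨a * b, mul_mem ha' hb'⟩ : rootGen H) = ⟨a, ha'⟩ * ⟨b, hb'⟩ from rfl, mul_smul, hb, ha]
    | inv a _ ha =>
      obtain ⟨ha', ha⟩ := ha
      refine ⟨inv_mem ha', ?_⟩
      rw [show (⟨a⁻¹, inv_mem ha'⟩ : rootGen H) = (⟨a, ha'⟩ : rootGen H)⁻¹ from rfl, inv_smul_eq_iff, ha]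
  haveI : Finite Ω := Nat.finite_of_card_ne_zero (by omega)
  obtain ⟨x, y, hxy⟩ := Finite.one_lt_card_iff_nontrivial.1 hΩ
  obtain ⟨g, hg⟩ := MulAction.exists_smul_eq (rootGen H) x y
  exact hxy ((key g x).symm.trans hg)

omit [Fintype F] hp [Finite Ω] in
/-- The root group is transitive on vectors of a non-zero value. -/
theorem exists_rootGen_value (hd : 3 ≤ finrank F V) {u w : V} (hu : H.h u u ≠ 0)
    (he : H.h u u = H.h w w) : ∃ g ∈ rootGen H, g.1 u = w := by
  have hB := big_of_finrank (H := H) hd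
  obtain ⟨s, hs⟩ := H.exists_trace (H.conj_diag u)
  obtain ⟨a, b, p, hab⟩ := exists_pair_of_nonisotropic hB hu hs
  obtain ⟨a', b', p', hab'⟩ := exists_pair_of_nonisotropic hB (he ▸ hu) (hs.trans he)
  obtain ⟨g, hg, h1, h2⟩ := rootGen_map_hpair hB p p'
  exact ⟨g, hg, by rw [hab, hab', map_add, map_smul, h1, h2]⟩

include hQ

/-- Every class of non-zero complement vectors of one value is large. -/
theorem class_lower (hm : 2 ≤ finrank F (perp2 H e f)) {a : perp2 H e f} (ha : a ≠ 0) :
    ((q : ℤ) ^ finrank F (perp2 H e f) - 1) * ((q : ℤ) ^ finrank F (perp2 H e f) - q) ≤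
      (q : ℤ) * {x : perp2 H e f | x ≠ 0 ∧ H.h x.1 x.1 = H.h a.1 a.1}.ncard := by
  have hq := hQ.two_le
  have hA : H.h a.1 a.1 ≠ 0 → {x : perp2 H e f | x ≠ 0 ∧ H.h x.1 x.1 = H.h a.1 a.1}.ncard =
      valCard H e f (H.h a.1 a.1) := fun hne => by
    rw [valCard]
    congr 1
    ext x
    exact ⟨fun h => h.2, fun h => ⟨fun h0 => hne (by
      have h' : H.h x.1 x.1 = H.h a.1 a.1 := h
      rw [← h', h0, Submodule.coe_zero, H.zero_left]), h⟩⟩
  set m := finrank F (perp2 H e f) with hmdef
  have hqm : (q : ℤ) ≤ (q : ℤ) ^ m :=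
    le_trans (le_of_eq (pow_one _).symm) (pow_le_pow_right₀ (by omega) (by omega))
  have hsg : -(q : ℤ) ^ m ≤ (-(q : ℤ)) ^ m ∧ (-(q : ℤ)) ^ m ≤ (q : ℤ) ^ m := by
    rcases Nat.even_or_odd m with he | ho
    · rw [he.neg_pow]; omega
    · rw [ho.neg_pow]; omega
  by_cases h0 : H.h a.1 a.1 = 0
  · have hI := isoCard_mul hQ (e := e) (f := f)
    rw [← hmdef, two_mul, pow_add] at hI
    rw [h0, show {x : perp2 H e f | x ≠ 0 ∧ H.h x.1 x.1 = 0}.ncard = isoCard H e f from rfl]
    nlinarith [mul_le_mul_of_nonneg_right hsg.1 (show (0 : ℤ) ≤ (q : ℤ) - 1 by omega)]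
  · have hA' := valCard_mul hQ (e := e) (f := f) (H.conj_diag a.1) h0
    rw [← hmdef, two_mul, pow_add] at hA'
    rw [hA h0]
    nlinarith [mul_le_mul_of_nonneg_left hqm (show (0 : ℤ) ≤ (q : ℤ) by omega)]

/-- The rough bound in dimension at least five. -/
theorem rough_bound (hd : 5 ≤ finrank F V) [MulAction.IsPretransitive (rootGen H) Ω]
    (hΩ : 1 < Nat.card Ω) :
    q ^ (2 * finrank F (perp2 H e f)) ≤ Nat.card Ω + q ^ (finrank F (perp2 H e f) + 1) := by
  have hq := hQ.two_le
  have hfd := finrank_perp2 hp.out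
  obtain ⟨x, hx⟩ := exists_moved (e := e) (f := f) (H := H) (by omega) hΩ
  have hM := card_moved_mul_ge hQ (f := f) (by omega) x hx
  have hMle : {y : Ω | ¬ ZFix H e y}.ncard ≤ Nat.card Ω := Set.ncard_le_card _
  have hR2 := card_Rb_sq_le (f := f) hx
  rw [card_perp2' hQ] at hM hR2
  set m := finrank F (perp2 H e f) with hm
  set t := Nat.card (MulAction.orbit (Lz H e f) (Rb H e f x))
  set R := Nat.card (Rb H e f x) with hR
  set M := {y : Ω | ¬ ZFix H e y}.ncard
  haveI : Finite V := Module.finite_of_finite F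
  have ht : 1 ≤ t := by
    have : Nonempty (MulAction.orbit (Lz H e f) (Rb H e f x)) :=
      ⟨⟨_, MulAction.mem_orbit_self _⟩⟩
    exact Nat.card_pos
  by_cases hbot : Rb H e f x = ⊥
  · rw [hR, hbot, AddSubgroup.card_bot, mul_one] at hM
    have : q ^ (2 * m) ≤ t * (q ^ (2 * m) * q) :=
      le_trans (Nat.le_mul_of_pos_right _ (by omega)) (Nat.le_mul_of_pos_left _ ht)
    omega
  · obtain ⟨a, haR, ha⟩ : ∃ a ∈ Rb H e f x, a ≠ 0 := by
      by_contra hcon
      push Not at hcon
      exact hbot ((AddSubgroup.eq_bot_iff_forall _).2 hcon)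
    have hC : {y : perp2 H e f | y ≠ 0 ∧ H.h y.1 y.1 = H.h a.1 a.1}.ncard ≤ t * (R - 1) :=
      card_cover (G := Lz H e f) (Rb H e f x) _ fun y hy => ⟨hy.1, by
      by_cases h0 : H.h a.1 a.1 = 0
      · obtain ⟨g, hg⟩ := exists_lz_iso hd ha hy.1 h0 (hy.2.trans h0)
        exact ⟨g, hg ▸ AddSubgroup.smul_mem_pointwise_smul _ g _ haR⟩
      · obtain ⟨g, hg⟩ := exists_lz_value (by omega) h0 hy.2.symm
        exact ⟨g, hg ▸ AddSubgroup.smul_mem_pointwise_smul _ g _ haR⟩⟩
    have hcl := class_lower hQ (by omega) ha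
    rw [← hm] at hcl
    have hR1 : 1 < R := AddSubgroup.one_lt_card_iff_ne_bot _ |>.2 hbot
    have hRP : R ≤ q ^ m := by
      rw [two_mul, pow_add] at hR2
      exact Nat.mul_self_le_mul_self_iff.1 hR2
    zify [show 1 ≤ R by omega] at hC hM hMle hRP hR1 ⊢
    rw [two_mul, pow_add] at hM ⊢
    rw [pow_succ]
    set P : ℤ := (q : ℤ) ^ m
    have hqP : (q : ℤ) ≤ P := by
      rw [← pow_one (q : ℤ)]; exact pow_le_pow_right₀ (by omega) (by omega)
    suffices P * P - P * q ≤ M by linarith
    refine le_of_mul_le_mul_right ?_ (show (0 : ℤ) < R * ((R : ℤ) - 1) by nlinarith)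
    calc (P * P - P * q) * (R * ((R : ℤ) - 1))
        ≤ (P * P - P * q) * (P * (P - 1)) :=
          mul_le_mul_of_nonneg_left (mul_le_mul hRP (by linarith) (by linarith) (by linarith))
            (by nlinarith)
      _ = P * P * ((P - 1) * (P - q)) := by ring
      _ ≤ P * P * ((q : ℤ) * (t * ((R : ℤ) - 1))) := by
          refine mul_le_mul_of_nonneg_left (le_trans hcl ?_) (by nlinarith)
          exact mul_le_mul_of_nonneg_left hC (by omega)
      _ = t * (P * P * q) * ((R : ℤ) - 1) := by ring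
      _ ≤ M * R * ((R : ℤ) - 1) := mul_le_mul_of_nonneg_right hM (by linarith)
      _ = M * (R * ((R : ℤ) - 1)) := by ring

omit hQ in
theorem lz_smul_comm (g : Lz H e f) (r : F) (a : perp2 H e f) : g • (r • a) = r • g • a :=
  Subtype.ext (by
    rw [lz_smul_coe, Submodule.coe_smul, Submodule.coe_smul, lz_smul_coe, map_smul, smul_comm])

/-- Dimension four, isotropic invariant. -/
theorem four_moved_iso (hd : finrank F V = 4) (x : Ω) (hx : ¬ ZFix H e x)
    (hbot : Rb H e f x ≠ ⊥) (hall : ∀ a ∈ Rb H e f x, H.h a.1 a.1 = 0) :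
    q ^ 4 + q ^ 3 ≤ {y : Ω | ¬ ZFix H e y}.ncard := by
  classical
  have hq := hQ.two_le
  have hB := big_of_finrank (H := H) (by omega)
  have hfd := finrank_perp2 hp.out
  have hm : finrank F (perp2 H e f) = 2 := by omega
  haveI : Finite V := Module.finite_of_finite F
  have hM := card_moved_mul_ge hQ (f := f) (by omega) x hx
  have hR2 := card_Rb_sq_le (f := f) hx
  rw [card_perp2' hQ, hm] at hM hR2
  set S := Rb H e f x with hS
  set t := Nat.card (MulAction.orbit (Lz H e f) S)
  set R := Nat.card S with hR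
  set M := {y : Ω | ¬ ZFix H e y}.ncard
  have hRq : R ≤ q ^ 2 := by
    rw [show q ^ (2 * 2) = q ^ 2 * q ^ 2 by ring] at hR2
    exact Nat.mul_self_le_mul_self_iff.1 hR2
  have finish : q + 1 ≤ t → q ^ 4 + q ^ 3 ≤ M := fun ht => by
    refine Nat.le_of_mul_le_mul_right ?_ (show 0 < q ^ 2 from pow_pos (by omega) 2)
    calc (q ^ 4 + q ^ 3) * q ^ 2 = (q + 1) * (q ^ (2 * 2) * q) := by ring
      _ ≤ t * (q ^ (2 * 2) * q) := Nat.mul_le_mul_right _ ht
      _ ≤ M * R := hM
      _ ≤ M * q ^ 2 := Nat.mul_le_mul_left _ hRq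
  obtain ⟨a, haR, ha⟩ : ∃ a ∈ S, a ≠ 0 := by
    by_contra hcon
    push Not at hcon
    exact hbot ((AddSubgroup.eq_bot_iff_forall _).2 hcon)
  have haa := hall a haR
  obtain ⟨a', pa⟩ := exists_isotropic_partner (H := res hp.out) haa ha
  have ha'a' : H.h a'.1 a'.1 = 0 := pa.2.1
  have ha'a : H.h a'.1 a.1 = 1 := pa.2.2
  have haa' : H.h a.1 a'.1 = 1 := H.h_comm_one ha'a
  -- translates of `a` on all isotropic lines
  let zv : Option (skew H) → perp2 H e f := fun o => o.elim a fun c => a' + c.1 • a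
  have hz : ∀ o, ∃ (k : Lz H e f) (r : F), r ≠ 0 ∧ k • a = r • zv o := by
    rintro (_ | c)
    · exact ⟨1, 1, one_ne_zero, by rw [one_smul, one_smul]; rfl⟩
    · obtain ⟨τ, hτ0, hτ⟩ := H.exists_skew
      have hτs : τ ∈ skew H := mem_skew.2 hτ
      have hτi : -τ⁻¹ ∈ skew H := by
        rw [mem_skew, map_neg, map_inv₀, eq_neg_of_add_eq_zero_right hτ, inv_neg]
        ring
      obtain ⟨r₁, hr₁⟩ := exists_lz_root (u := a') (w := 0) (l := τ) (rootCond_skew ha'a' hτs)
      obtain ⟨r₂, hr₂⟩ := exists_lz_root (u := a) (w := 0) (l := -τ⁻¹) (rootCond_skew haa hτi)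
      obtain ⟨r₃, hr₃⟩ := exists_lz_root (u := a) (w := 0) (l := c.1) (rootCond_skew haa c.2)
      refine ⟨r₃ * (r₂ * r₁), τ, hτ0, Subtype.ext ?_⟩
      rw [mul_smul, mul_smul, hr₃, hr₂, hr₁]
      simp only [zv, Option.elim_some, Submodule.coe_zero, H.zero_right, Submodule.coe_add,
        Submodule.coe_smul, smul_zero, add_zero, neg_zero, zero_add, haa', haa, ha'a, mul_one,
        H.add_left, H.smul_left, neg_mul, inv_mul_cancel₀ hτ0]
      module
  choose kz rz hrz hkz using hz
  have hzind : ∀ o o' (r : F), r • zv o = zv o' → o = o' := by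
    rintro (_ | c) (_ | c') r hr <;>
      have h1 := congrArg (fun v : perp2 H e f => H.h v.1 a.1) hr <;>
      have h2 := congrArg (fun v : perp2 H e f => H.h v.1 a'.1) hr <;>
      simp only [zv, Option.elim_none, Option.elim_some, Submodule.coe_add, Submodule.coe_smul,
        H.add_left, H.smul_left, haa, haa', ha'a, ha'a', mul_zero, mul_one, zero_add,
        add_zero] at h1 h2
    · rfl
    · exact absurd h1.symm one_ne_zero
    · rw [h1, zero_mul] at h2; exact absurd h2 zero_ne_one
    · rw [h1, one_mul] at h2; exact congrArg some (Subtype.ext h2)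
  have hcardZ : Nat.card (Option (skew H)) = q + 1 := by rw [Finite.card_option, card_skew hQ]
  by_cases hline : ∀ b ∈ S, ∃ r : F, r • a = b
  · refine finish ?_
    rw [← hcardZ]
    refine Nat.card_le_card_of_injective
      (fun o => (⟨kz o • S, MulAction.mem_orbit _ _⟩ : MulAction.orbit (Lz H e f) S)) fun o o' h => ?_
    have h0 : kz o • S = kz o' • S := congrArg Subtype.val h
    have h1 : kz o • a ∈ kz o' • S := h0 ▸ AddSubgroup.smul_mem_pointwise_smul _ _ _ haR
    obtain ⟨b, hb, hb'⟩ := h1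
    obtain ⟨r, rfl⟩ := hline b hb
    change kz o' • (r • a) = kz o • a at hb'
    rw [lz_smul_comm, hkz, hkz, smul_smul] at hb'
    refine (hzind o' o ((rz o)⁻¹ * (r * rz o')) ?_).symm
    rw [← smul_smul, hb', smul_smul, inv_mul_cancel₀ (hrz o), one_smul]
  · push Not at hline
    obtain ⟨b, hbR, hb⟩ := hline
    have hbb := hall b hbR
    have hperp : ∀ v : perp2 H e f, v = H.h v.1 a'.1 • a + H.h v.1 a.1 • a' := by
      intro v
      have h2 : finrank F (perp2 (res hp.out) a a') = 0 := by
        have := finrank_perp2 pa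
        omega
      have h1 : (proj2 pa v).1 = 0 := by
        rw [Submodule.finrank_eq_zero] at h2
        exact (Submodule.eq_bot_iff _).1 h2 _ (proj2 pa v).2
      conv_lhs => rw [decomp2 pa v, h1, add_zero]
      rfl
    have hab : H.h a.1 b.1 ≠ 0 := fun h0 => hb _ (by
      conv_rhs => rw [hperp b, H.h_comm_zero h0, zero_smul, add_zero])
    have hba : H.h b.1 a.1 ≠ 0 := fun h0 => hab (H.h_comm_zero h0)
    have hskew : ∀ c ∈ S, ∀ d ∈ S, H.h c.1 d.1 + H.h d.1 c.1 = 0 := by
      intro c hc d hd'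
      have h1 := hall _ (S.add_mem hc hd')
      rw [Submodule.coe_add, H.add_left, H.add_right, H.add_right, hall c hc, hall d hd'] at h1
      linear_combination h1
    have hcoord : ∀ c ∈ S, ∃ x y : F, H.conj x = x ∧ H.conj y = y ∧ x • a + y • b = c := by
      intro c hc
      have hk := eq_neg_of_add_eq_zero_right (hskew a haR b hbR)
      refine ⟨H.h c.1 b.1 / H.h a.1 b.1, H.h c.1 a.1 / H.h b.1 a.1, ?_, ?_, ?_⟩
      · rw [map_div₀, H.symm', H.symm', eq_neg_of_add_eq_zero_right (hskew c hc b hbR), hk,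
          neg_div_neg_eq]
      · rw [map_div₀, H.symm', H.symm', eq_neg_of_add_eq_zero_right (hskew c hc a haR),
          eq_neg_of_add_eq_zero_right (hskew b hbR a haR), neg_div_neg_eq]
      · rw [← sub_eq_zero]
        refine (res hp.out).nondeg _ fun v => ?_
        have hv : ∀ w : perp2 H e f, H.h w.1 a.1 = 0 → H.h w.1 b.1 = 0 → w = 0 := by
          intro w h1 h2
          have h3 := hperp w
          rw [h1, zero_smul, add_zero] at h3
          rw [h3, Submodule.coe_smul, H.smul_left, mul_eq_zero, or_iff_left hab] at h2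
          rw [h3, h2, zero_smul]
        rw [hv (_ - c) ?_ ?_]
        · exact (res hp.out).zero_left v
        · simp only [AddSubgroupClass.coe_sub, Submodule.coe_add, Submodule.coe_smul, H.sub_left,
            H.add_left, H.smul_left, haa, mul_zero, zero_add, div_mul_cancel₀ _ hba, sub_self]
        · simp only [AddSubgroupClass.coe_sub, Submodule.coe_add, Submodule.coe_smul, H.sub_left,
            H.add_left, H.smul_left, hbb, mul_zero, add_zero, div_mul_cancel₀ _ hab, sub_self]
    by_cases h2 : (2 : F) = 0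
    · -- even characteristic: scalar translates
      refine finish ?_
      rw [← card_normOne_units hQ.card]
      have hN : ∀ ζ : (powMonoidHom (q + 1) : Fˣ →* Fˣ).ker,
          ((ζ.1 : Fˣ) : F) * H.conj ((ζ.1 : Fˣ) : F) = 1 := fun ζ => by
        have := congrArg Units.val (MonoidHom.mem_ker.1 ζ.2)
        rw [powMonoidHom_apply, Units.val_pow_eq_pow_val, Units.val_one] at this
        rw [hQ.pow, ← pow_succ', this]
      have hk : ∀ ζ : (powMonoidHom (q + 1) : Fˣ →* Fˣ).ker, ∃ k : Lz H e f, ∀ y : perp2 H e f,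
          k • y = (H.conj ((ζ.1 : Fˣ) : F)) ^ 2 • y := by
        intro ζ
        set z := ((ζ.1 : Fˣ) : F) with hzdef
        have hzn : z * H.conj z = 1 := hN ζ
        have hz0 : z ≠ 0 := left_ne_zero_of_mul_eq_one hzn
        have hcz : H.conj z = z⁻¹ := eq_inv_of_mul_eq_one_right hzn
        obtain ⟨sc, hsd, hsa⟩ := exists_scalar (H := H) (μ := z⁻¹)
          (by rw [map_inv₀, ← mul_inv, hzn, inv_one])
        obtain ⟨dl, hdd, hde, hdf, hdfix⟩ := exists_dil hp.out (pow_ne_zero 2 hz0)
        obtain ⟨g, hg⟩ := exists_rootGen hB hp.out (sc * dl) (by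
          rw [map_mul, Units.val_mul, hsd, hdd, hd, map_pow, hcz]
          field_simp)
        have hlev : Lev g e f z := by
          refine ⟨?_, ?_⟩ <;> rw [hg, mul_apply]
          · rw [hde, hsa, smul_smul, pow_two, inv_mul_cancel_left₀ hz0]
          · rw [hdf, hsa, smul_smul, map_pow, hcz]
            congr 1
            field_simp
        refine ⟨⟨g, z, hzn, hlev⟩, fun y => Subtype.ext ?_⟩
        have hco : coef (⟨g, z, hzn, hlev⟩ : Lz H e f) = z := by
          rw [coef, hlev.1, H.smul_left, h_e_f hp.out, mul_one]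
        rw [lz_smul_coe, hco, hg, mul_apply, hdfix _ (mem_perp2.1 y.2).1 (mem_perp2.1 y.2).2, hsa,
          Submodule.coe_smul, smul_smul, hcz, pow_two]
      choose k hk using hk
      refine Nat.card_le_card_of_injective
        (fun ζ => (⟨k ζ • S, MulAction.mem_orbit _ _⟩ : MulAction.orbit (Lz H e f) S)) fun ζ ζ' h => ?_
      have h0 : k ζ • S = k ζ' • S := congrArg Subtype.val h
      obtain ⟨c, hc, hc'⟩ := (h0 ▸ AddSubgroup.smul_mem_pointwise_smul _ _ _ haR :
        k ζ • a ∈ k ζ' • S)
      obtain ⟨u, w, hu, hw, rfl⟩ := hcoord c hc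
      change k ζ' • (u • a + w • b) = k ζ • a at hc'
      rw [hk, hk] at hc'
      have h1 := congrArg (fun v : perp2 H e f => H.h v.1 b.1) hc'
      simp only [Submodule.coe_smul, Submodule.coe_add, H.smul_left, H.add_left, hbb, mul_zero,
        add_zero] at h1
      rw [← mul_assoc] at h1
      have h3 : (H.conj (ζ'.1 : F)) ^ 2 * u = (H.conj (ζ.1 : F)) ^ 2 := mul_right_cancel₀ hab h1
      have h4 := congrArg H.conj h3
      rw [map_mul, map_pow, map_pow, hu, H.conj_conj, H.conj_conj] at h4
      have hone : ∀ z w : F, z ^ 2 = w ^ 2 → z = w := fun z w hzw => by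
        have : (z - w) ^ 2 = 0 := by linear_combination hzw + (w ^ 2 - z * w) * h2
        exact sub_eq_zero.1 (pow_eq_zero_iff two_ne_zero |>.1 this)
      have hu1 : u = 1 := by
        refine hone u 1 ?_
        have e1 := hN ζ
        have e2 := hN ζ'
        calc u ^ 2 = u ^ 2 * ((ζ'.1 : F) * H.conj (ζ'.1 : F)) ^ 2 := by rw [e2]; ring
          _ = ((ζ'.1 : F) ^ 2 * u) * (H.conj (ζ'.1 : F) ^ 2 * u) := by ring
          _ = ((ζ.1 : F) * H.conj (ζ.1 : F)) ^ 2 := by rw [h3, h4]; ring
          _ = 1 ^ 2 := by rw [e1]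
      rw [hu1, mul_one] at h4
      exact (Subtype.ext (Units.ext (hone _ _ h4))).symm
    · -- odd characteristic
      obtain ⟨τ, hτ0, hτ⟩ := H.exists_skew
      obtain ⟨χ, hχ, hc⟩ := exists_char (H := H) (Wc (H := H) e x) fun h =>
        hx ((zFix_iff e x).2 (le_antisymm (Wc_le e x) h))
      have hRq' : R ≤ q := by
        let φ : S × ({k : F // H.conj k = k} × {k : F // H.conj k = k}) → annR χ S := fun z =>
          ⟨z.1.1 + τ • (z.2.1.1 • a + z.2.2.1 • b), fun r hr => by
            rw [pairing_add, AddChar.mul_apply, pairing_apply,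
              hχ _ (comm_mem_Wc z.1.2 hr), one_mul, pairing_apply]
            refine hχ _ ?_
            have hz : H.h (τ • (z.2.1.1 • a + z.2.2.1 • b) : perp2 H e f).1 r.1 -
                H.h r.1 (τ • (z.2.1.1 • a + z.2.2.1 • b) : perp2 H e f).1 = 0 := by
              simp only [Submodule.coe_smul, Submodule.coe_add, H.smul_left, H.smul_right,
                H.add_left, H.add_right, z.2.1.2, z.2.2.2,
                eq_neg_of_add_eq_zero_right hτ,
                eq_neg_of_add_eq_zero_right (hskew a haR r hr),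
                eq_neg_of_add_eq_zero_right (hskew b hbR r hr)]
              ring
            rw [hz]
            exact zero_mem _⟩
        have hφ : Function.Injective φ := by
          intro z z' h
          have h0 : z.1.1 + τ • (z.2.1.1 • a + z.2.2.1 • b) =
              z'.1.1 + τ • (z'.2.1.1 • a + z'.2.2.1 • b) := congrArg Subtype.val h
          obtain ⟨u, w, hu, hw, huw⟩ := hcoord _ (S.sub_mem z.1.2 z'.1.2)
          have h3 : (u + τ * (z.2.1.1 - z'.2.1.1)) • a + (w + τ * (z.2.2.1 - z'.2.2.1)) • b = 0 := by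
            linear_combination (norm := module) h0 + huw
          have h4 : ∀ s t : F, s • a + t • b = 0 → s = 0 ∧ t = 0 := fun s t hst => by
            have ht : t = 0 := by
              by_contra ht
              exact hb (-t⁻¹ * s) (by
                linear_combination (norm := skip) (-t⁻¹) • hst
                match_scalars <;> field_simp <;> ring)
            rw [ht, zero_smul, add_zero, smul_eq_zero, or_iff_left ha] at hst
            exact ⟨hst, ht⟩
          have hsplit : ∀ u k k' : F, H.conj u = u → H.conj k = k → H.conj k' = k' →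
              u + τ * (k - k') = 0 → k = k' := fun u k k' hu hk hk' h => by
            have h' := congrArg H.conj h
            rw [map_add, map_mul, map_sub, hu, hk, hk', eq_neg_of_add_eq_zero_right hτ, map_zero] at h'
            have : (2 * τ) * (k - k') = 0 := by linear_combination h - h'
            exact sub_eq_zero.1 ((mul_eq_zero.1 this).resolve_left (mul_ne_zero h2 hτ0))
          obtain ⟨h5, h6⟩ := h4 _ _ h3
          have e1 : z.2.1 = z'.2.1 := Subtype.ext (hsplit u _ _ hu z.2.1.2 z'.2.1.2 h5)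
          have e2 : z.2.2 = z'.2.2 := Subtype.ext (hsplit w _ _ hw z.2.2.2 z'.2.2.2 h6)
          rw [e1, e2, add_left_inj] at h0
          exact Prod.ext (Subtype.ext h0) (Prod.ext e1 e2)
        have h1 := Nat.card_le_card_of_injective φ hφ
        rw [Nat.card_prod, Nat.card_prod, card_fixed hQ, ← hR] at h1
        have h3 : R * Nat.card (annR χ S) = q ^ (2 * 2) := by
          rw [hR, card_annR_mul hc, card_perp2' hQ, hm]
        refine Nat.mul_self_le_mul_self_iff.1 (Nat.le_of_mul_le_mul_right ?_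
          (show 0 < q * q from Nat.mul_pos (by omega) (by omega)))
        calc R * R * (q * q) = R * (R * (q * q)) := by ring
          _ ≤ R * Nat.card (annR χ S) := Nat.mul_le_mul_left _ h1
          _ = q * q * (q * q) := by rw [h3]; ring
      have hC : Nat.card (Bool × Option (skew H)) ≤ t * (R - 1) := by
        have h2' : (-1 : F) ≠ 1 := fun h => h2 (by linear_combination -h)
        let z : Bool × Option (skew H) → perp2 H e f := fun w =>
          (bif w.1 then (1 : F) else -1) • kz w.2 • a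
        have hzinj : Function.Injective z := by
          rintro ⟨s, o⟩ ⟨s', o'⟩ h
          simp only [z, hkz, smul_smul] at h
          have hs0 : ∀ s : Bool, (bif s then (1 : F) else -1) ≠ 0 := fun s => by cases s <;> simp
          have ho : o = o' := hzind o o'
            (((bif s' then (1 : F) else -1) * rz o')⁻¹ * ((bif s then (1 : F) else -1) * rz o))
            (by rw [← smul_smul, h, smul_smul, inv_mul_cancel₀ (mul_ne_zero (hs0 s') (hrz o')),
              one_smul])
          subst ho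
          have hz0 : zv o ≠ 0 := by
            intro h0
            have h1 : kz o • a = 0 := by rw [hkz, h0, smul_zero]
            rw [smul_eq_zero_iff_eq] at h1
            exact ha h1
          have h1 := mul_right_cancel₀ (hrz o) (smul_left_injective F hz0 h)
          cases s <;> cases s' <;> simp only [cond_true, cond_false] at h1
          · rfl
          · exact absurd h1 h2'
          · exact absurd h1.symm h2'
          · rfl
        rw [← Nat.card_range_of_injective hzinj, Nat.card_coe_set_eq]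
        refine card_cover S _ ?_
        rintro _ ⟨⟨s, o⟩, rfl⟩
        have hs0 : (bif s then (1 : F) else -1) ≠ 0 := by cases s <;> simp
        refine ⟨smul_ne_zero hs0 (by rw [ne_eq, smul_eq_zero_iff_eq]; exact ha), kz o, ?_⟩
        cases s
        · simp only [z, cond_false, neg_one_smul]
          exact neg_mem (AddSubgroup.smul_mem_pointwise_smul _ _ _ haR)
        · simp only [z, cond_true, one_smul]
          exact AddSubgroup.smul_mem_pointwise_smul _ _ _ haR
      rw [Nat.card_prod, hcardZ, Nat.card_eq_fintype_card, Fintype.card_bool] at hC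
      have hR1 : 1 < R := AddSubgroup.one_lt_card_iff_ne_bot _ |>.2 hbot
      refine Nat.le_of_mul_le_mul_right ?_ (show 0 < R * (R - 1) from Nat.mul_pos (by omega) (by omega))
      calc (q ^ 4 + q ^ 3) * (R * (R - 1)) ≤ (q ^ 4 + q ^ 3) * (q * q) :=
            Nat.mul_le_mul_left _ (Nat.mul_le_mul hRq' (le_trans (Nat.sub_le _ _) hRq'))
        _ = q ^ 5 * (q + 1) := by ring
        _ ≤ q ^ 5 * (2 * (q + 1)) := Nat.mul_le_mul_left _ (by omega)
        _ ≤ q ^ 5 * (t * (R - 1)) := Nat.mul_le_mul_left _ hC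
        _ = t * (q ^ (2 * 2) * q) * (R - 1) := by ring
        _ ≤ M * R * (R - 1) := Nat.mul_le_mul_right _ hM
        _ = M * (R * (R - 1)) := by ring

/-- Dimension four, anisotropic invariant. -/
theorem four_moved_aniso (hd : finrank F V = 4) (x : Ω) (hx : ¬ ZFix H e x) {a : perp2 H e f}
    (haR : a ∈ Rb H e f x) (ha : H.h a.1 a.1 ≠ 0) :
    q ^ 4 + q ^ 3 ≤ {y : Ω | ¬ ZFix H e y}.ncard := by
  classical
  have hq := hQ.two_le
  have hB := big_of_finrank (H := H) (by omega)
  have hfd := finrank_perp2 hp.out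
  have hm : finrank F (perp2 H e f) = 2 := by omega
  haveI : Finite V := Module.finite_of_finite F
  have hM := card_moved_mul_ge hQ (f := f) (by omega) x hx
  have hR2 := card_Rb_sq_le (f := f) hx
  rw [card_perp2' hQ, hm] at hM hR2
  set S := Rb H e f x with hS
  set t := Nat.card (MulAction.orbit (Lz H e f) S)
  set R := Nat.card S with hR
  set M := {y : Ω | ¬ ZFix H e y}.ncard
  have hRq : R ≤ q ^ 2 := by
    rw [show q ^ (2 * 2) = q ^ 2 * q ^ 2 by ring] at hR2
    exact Nat.mul_self_le_mul_self_iff.1 hR2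
  have finish : q + 1 ≤ t → q ^ 4 + q ^ 3 ≤ M := fun ht => by
    refine Nat.le_of_mul_le_mul_right ?_ (show 0 < q ^ 2 from pow_pos (by omega) 2)
    calc (q ^ 4 + q ^ 3) * q ^ 2 = (q + 1) * (q ^ (2 * 2) * q) := by ring
      _ ≤ t * (q ^ (2 * 2) * q) := Nat.mul_le_mul_right _ ht
      _ ≤ M * R := hM
      _ ≤ M * q ^ 2 := Nat.mul_le_mul_left _ hRq
  have hbot : S ≠ ⊥ := fun h => by
    rw [h, AddSubgroup.mem_bot] at haR
    exact ha (by rw [haR, Submodule.coe_zero, H.zero_left])
  set c := H.h a.1 a.1 with hc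
  have hA := valCard_mul hQ (e := e) (f := f) (c := c) (H.conj_diag _) ha
  rw [hm] at hA
  have hA' : valCard H e f c + q = q ^ 3 := by
    have : (q : ℤ) * ((valCard H e f c : ℤ) + q) = (q : ℤ) * (q : ℤ) ^ 3 := by linear_combination hA
    exact_mod_cast mul_left_cancel₀ (show (q : ℤ) ≠ 0 by omega) this
  have hcovA : ∀ x : perp2 H e f, H.h x.1 x.1 = c → x ≠ 0 ∧ ∃ g : Lz H e f, x ∈ g • S := by
    intro y hy
    refine ⟨fun h => ha (by rw [← hy, h, Submodule.coe_zero, H.zero_left]), ?_⟩
    obtain ⟨g, hg⟩ := exists_lz_value (by omega) ha hy.symm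
    exact ⟨g, hg ▸ AddSubgroup.smul_mem_pointwise_smul _ g S haR⟩
  have hAt : valCard H e f c ≤ t * (R - 1) := card_cover S _ hcovA
  rcases eq_or_lt_of_le hRq with hRe | hRlt
  · refine finish (not_lt.1 fun hlt => ?_)
    have hup : t * (R - 1) ≤ q * (q ^ 2 - 1) := by
      rw [hRe]; exact Nat.mul_le_mul_right _ (by omega)
    have hqq : q * (q ^ 2 - 1) + q = q ^ 3 := by
      rw [← Nat.mul_succ, Nat.succ_eq_add_one, Nat.sub_add_cancel (Nat.one_le_pow _ _ (by omega))]
      ring
    by_cases hlev : ∀ b ∈ S, b ≠ 0 → H.h b.1 b.1 = c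
    · have h4 := card_le_four_of_level ha hlev
      rw [← hR, hRe] at h4
      have hq2 : q = 2 := by nlinarith
      have h2 : (2 : F) = 0 := by
        have h := FiniteField.cast_card_eq_zero F
        rw [hQ.card, hq2] at h
        push_cast at h
        exact pow_eq_zero_iff two_ne_zero |>.1 (show (2 : F) ^ 2 = 0 by linear_combination h)
      obtain ⟨b, hbR, hb0, hba⟩ : ∃ b ∈ S, b ≠ 0 ∧ b ≠ a := by
        by_contra hcon
        push Not at hcon
        have h1 : R ≤ Nat.card (Option Unit) := Nat.card_le_card_of_injective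
          (fun b : S => if b.1 = 0 then none else some ()) fun b b' h => by
            by_cases h1 : b.1 = 0 <;> by_cases h2 : b'.1 = 0 <;> simp [h1, h2] at h
            · exact Subtype.ext (h1.trans h2.symm)
            · exact Subtype.ext ((hcon _ b.2 h1).trans (hcon _ b'.2 h2).symm)
        simp at h1
        rw [hRe, hq2] at h1
        omega
      have hW : Wc (H := H) e x = ⊥ := by
        have h1 := card_skew hQ
        rw [hq2] at h1
        by_contra hne
        have h3 := AddSubgroup.one_lt_card_iff_ne_bot _ |>.2 hne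
        refine hx ((zFix_iff e x).2 (AddSubgroup.eq_of_le_of_card_ge (Wc_le e x) ?_))
        omega
      have h5 := comm_mem_Wc haR hbR
      rw [hW, AddSubgroup.mem_bot, sub_eq_zero] at h5
      have ha0 : a ≠ 0 := fun h => ha (by rw [hc, h, Submodule.coe_zero, H.zero_left])
      have h6 := hlev _ (S.add_mem haR hbR) fun h => hba (by
        have hb' : b = -a := eq_neg_of_add_eq_zero_right h
        rw [hb', ← neg_one_smul F a, show (-1 : F) = 1 by linear_combination -h2, one_smul])
      rw [Submodule.coe_add, H.add_left, H.add_right, H.add_right, hlev a haR ha0,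
        hlev b hbR hb0, ← h5] at h6
      exact ha (by linear_combination h6 - (H.h a.1 b.1) * h2)
    · push Not at hlev
      obtain ⟨b, hbR, hb0, hb⟩ := hlev
      have h1 : valCard H e f c + 1 ≤ t * (R - 1) := by
        rw [valCard, ← Set.ncard_insert_of_notMem (s := {y : perp2 H e f | H.h y.1 y.1 = c}) hb
          (Set.toFinite _)]
        refine card_cover S _ ?_
        rintro y (rfl | hy)
        · exact ⟨hb0, 1, by rw [one_smul]; exact hbR⟩
        · exact hcovA y hy
      omega
  · have hR2' : 2 * R ≤ q ^ 2 := by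
      obtain ⟨p, j, hpp, -, hqp⟩ := exists_charP_pow hQ.card
      have hdvd : R ∣ p ^ (j * 4) := by
        rw [pow_mul, ← hqp, show q ^ 4 = Nat.card (perp2 H e f) by rw [card_perp2' hQ, hm]]
        exact AddSubgroup.card_addSubgroup_dvd_card S
      obtain ⟨i, -, hi⟩ := (Nat.dvd_prime_pow hpp).1 hdvd
      rw [hqp, ← pow_mul, hi] at hRlt ⊢
      have hlt4 := (Nat.pow_lt_pow_iff_right hpp.one_lt).1 hRlt
      calc 2 * p ^ i ≤ p * p ^ i := Nat.mul_le_mul_right _ hpp.two_le
        _ = p ^ (i + 1) := by rw [pow_succ, mul_comm]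
        _ ≤ p ^ (j * 2) := Nat.pow_le_pow_right hpp.pos hlt4
    have hR1 : 1 < R := AddSubgroup.one_lt_card_iff_ne_bot _ |>.2 hbot
    zify [show 1 ≤ R by omega] at hM hAt hR1 hR2' ⊢
    have hA'' : (valCard H e f c : ℤ) = (q : ℤ) ^ 3 - q := by
      have : ((valCard H e f c + q : ℕ) : ℤ) = ((q ^ 3 : ℕ) : ℤ) := by rw [hA']
      push_cast at this
      linarith
    rw [hA''] at hAt
    refine le_of_mul_le_mul_right ?_ (show (0 : ℤ) < R * ((R : ℤ) - 1) by nlinarith)
    have hq' : (2 : ℤ) ≤ q := by omega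
    have h1 : 4 * ((R : ℤ) * ((R : ℤ) - 1)) ≤ (q : ℤ) ^ 4 := by
      nlinarith [mul_le_mul hR2' hR2' (by linarith) (sq_nonneg _)]
    have h2 : ((q : ℤ) ^ 4 + (q : ℤ) ^ 3) * (4 * ((R : ℤ) * ((R : ℤ) - 1))) ≤
        ((q : ℤ) ^ 4 + (q : ℤ) ^ 3) * (q : ℤ) ^ 4 := mul_le_mul_of_nonneg_left h1 (by positivity)
    have h3 : ((q : ℤ) ^ 4 + (q : ℤ) ^ 3) * (q : ℤ) ^ 4 ≤
        4 * ((q : ℤ) ^ 5 * ((q : ℤ) ^ 3 - q)) := by
      have : (0 : ℤ) ≤ (q : ℤ) ^ 6 * (3 * (q : ℤ) ^ 2 - q - 4) :=
        mul_nonneg (by positivity) (by nlinarith)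
      nlinarith
    have h4 : (q : ℤ) ^ 5 * ((q : ℤ) ^ 3 - q) ≤ (M : ℤ) * ((R : ℤ) * ((R : ℤ) - 1)) := by
      calc (q : ℤ) ^ 5 * ((q : ℤ) ^ 3 - q) ≤ (q : ℤ) ^ 5 * (t * ((R : ℤ) - 1)) :=
            mul_le_mul_of_nonneg_left hAt (by positivity)
        _ = t * ((q : ℤ) ^ (2 * 2) * q) * ((R : ℤ) - 1) := by ring
        _ ≤ M * R * ((R : ℤ) - 1) := mul_le_mul_of_nonneg_right hM (by linarith)
        _ = M * (R * ((R : ℤ) - 1)) := by ring
    linarith


/-- The rough bound in dimension four. -/
theorem rough_bound_four (hd : finrank F V = 4) [MulAction.IsPretransitive (rootGen H) Ω]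
    (hΩ : 1 < Nat.card Ω) : q ^ 4 + q ^ 3 ≤ Nat.card Ω := by
  classical
  have hq := hQ.two_le
  have hB := big_of_finrank (H := H) (by omega)
  have hfd := finrank_perp2 hp.out
  have hm : finrank F (perp2 H e f) = 2 := by omega
  haveI : Finite V := Module.finite_of_finite F
  obtain ⟨x, hx⟩ := exists_moved (e := e) (f := f) (H := H) (by omega) hΩ
  have hM := card_moved_mul_ge hQ (f := f) (by omega) x hx
  have hMle : {y : Ω | ¬ ZFix H e y}.ncard ≤ Nat.card Ω := Set.ncard_le_card _
  have hR2 := card_Rb_sq_le (f := f) hx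
  rw [card_perp2' hQ, hm] at hM hR2
  refine le_trans ?_ hMle
  set S := Rb H e f x with hS
  set t := Nat.card (MulAction.orbit (Lz H e f) S)
  set R := Nat.card S with hR
  set M := {y : Ω | ¬ ZFix H e y}.ncard
  have hRq : R ≤ q ^ 2 := by
    rw [show q ^ (2 * 2) = q ^ 2 * q ^ 2 by ring] at hR2
    exact Nat.mul_self_le_mul_self_iff.1 hR2
  by_cases hbot : S = ⊥
  · rw [hR, hbot, AddSubgroup.card_bot, mul_one] at hM
    have ht : 1 ≤ t := by
      have : Nonempty (MulAction.orbit (Lz H e f) S) := ⟨⟨_, MulAction.mem_orbit_self _⟩⟩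
      exact Nat.card_pos
    refine le_trans ?_ hM
    refine le_trans ?_ (Nat.le_mul_of_pos_left _ ht)
    rw [show q ^ (2 * 2) * q = q ^ 3 * q ^ 2 by ring, show q ^ 4 + q ^ 3 = q ^ 3 * (q + 1) by ring]
    exact Nat.mul_le_mul_left _ (by nlinarith)
  by_cases hall : ∀ a ∈ S, H.h a.1 a.1 = 0
  · exact four_moved_iso hQ hd x hx hbot hall
  · push Not at hall
    obtain ⟨a, haR, ha⟩ := hall
    exact four_moved_aniso hQ hd x hx haR ha

end CfsgLib.MinIndexPSU
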