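import Cfsg.Agent.Lib.MinIndexPSU.Dual

/-!
Lower bounds for the number of points moved by a transvection group.
-/

set_option autoImplicit false
set_option linter.unusedSectionVars false

namespace CfsgLib.MinIndexPSU

open Module CfsgLib.Classical.Herm CfsgLib.Classical.Herm.HermSpace
open scoped Pointwise

variable {F V : Type*} [Field F] [Fintype F] [AddCommGroup V] [Module F V] [FiniteDimensional F V]
  {H : HermSpace F V} {e f : V} [hp : Fact (IsHPair H e f)]
  {Ω : Type*} [Finite Ω] [MulAction (rootGen H) Ω] {q : ℕ} (hQ : IsQ H q)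

theorem lz_mul_norm (g : Lz H e f) : coef g * H.conj (coef g) = 1 := (coef_spec g).1

theorem Rb_lz (g : Lz H e f) (x : Ω) : Rb H e f (g.1 • x) = g • Rb H e f x := by
  ext a
  rw [AddSubgroup.mem_pointwise_smul_iff_inv_smul_mem, ← (coef_spec g).2.Rb_smul x (g⁻¹ • a),
    ← lz_smul, smul_inv_smul]

theorem Wc_lz (g : Lz H e f) (x : Ω) : Wc (H := H) e (g.1 • x) = Wc (H := H) e x := by
  ext c
  conv_rhs => rw [← (coef_spec g).2.Wc_smul x c, (coef_spec g).1, one_mul]

/-- The number of elements of the complement. -/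
theorem card_perp2 : Nat.card (perp2 H e f) = (Fintype.card F) ^ (finrank F V - 2) := by
  haveI : Finite V := Module.finite_of_finite F
  rw [Module.natCard_eq_pow_finrank (K := F), Nat.card_eq_fintype_card, ← finrank_perp2 hp.out,
    Nat.add_sub_cancel]

include hQ hp

theorem card_Qs : Nat.card (Qs H e f) = Nat.card (perp2 H e f) * q := by
  classical
  haveI : Finite V := Module.finite_of_finite F
  have : Fintype (perp2 H e f) := Fintype.ofFinite _
  let e' : (Σ a : perp2 H e f, {l : F // Cd a l}) → Qs H e f := fun z =>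
    ⟨qx z.1 z.2.1, z.1, z.2.1, z.2.2, rfl⟩
  have he : Function.Bijective e' := by
    refine ⟨fun z z' h => ?_, fun g => ?_⟩
    · obtain ⟨h1, h2⟩ := qx_injective z.2.2 z'.2.2 (congrArg Subtype.val h)
      exact Sigma.subtype_ext h1 h2
    · obtain ⟨a, l, h, hg⟩ := g.2
      exact ⟨⟨a, l, h⟩, Subtype.ext hg.symm⟩
  have h3 : ∀ a : perp2 H e f, Nat.card {l : F // Cd a l} = q := fun a =>
    card_trace_fibre hQ (H.conj_diag a.1)
  rw [← Nat.card_congr (Equiv.ofBijective e' he), Nat.card_sigma,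
    Finset.sum_congr rfl fun a _ => h3 a, Finset.sum_const, smul_eq_mul, Finset.card_univ,
    Nat.card_eq_fintype_card]

/-- Orbit-stabiliser for the radical. -/
theorem card_orbit_mul (x : Ω) :
    Nat.card (MulAction.orbit (Qs H e f) x) *
      (Nat.card (Rb H e f x) * Nat.card (Wc (H := H) e x)) = Nat.card (perp2 H e f) * q := by
  classical
  haveI : Finite V := Module.finite_of_finite F
  rw [← card_Qs hQ (e := e) (f := f), ← (MulAction.stabilizer (Qs H e f) x).card_mul_index,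
    MulAction.index_stabilizer, ← Nat.card_coe_set_eq, mul_comm]
  congr 1
  choose l₀ hl₀ using fun a : Rb H e f x => mem_Rb.1 a.2
  have key : ∀ (a : Rb H e f x) (c : F), c ∈ Wc (H := H) e x →
      Cd a.1 (c + l₀ a) ∧ qx a.1 (c + l₀ a) • x = x := by
    intro a c hc
    have h0 : Cd (0 : perp2 H e f) c := cd_zero_iff.2 hc.1
    have h1 := h0.add (hl₀ a).1
    have h2 := qx_mul h0 (hl₀ a).1
    rw [zero_add, Submodule.coe_zero, H.zero_right, sub_zero] at h1 h2
    refine ⟨h1, ?_⟩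
    rw [← h2, mul_smul, (hl₀ a).2]
    simpa [qx] using hc.2
  let e' : Rb H e f x × Wc (H := H) e x → MulAction.stabilizer (Qs H e f) x := fun z =>
    ⟨⟨qx z.1.1 (z.2.1 + l₀ z.1), _, _, (key z.1 z.2.1 z.2.2).1, rfl⟩,
      (key z.1 z.2.1 z.2.2).2⟩
  have he : Function.Bijective e' := by
    refine ⟨fun z z' h => ?_, fun g => ?_⟩
    · obtain ⟨h1, h2⟩ := qx_injective (key z.1 z.2.1 z.2.2).1 (key z'.1 z'.2.1 z'.2.2).1
        (congrArg (fun g : MulAction.stabilizer (Qs H e f) x => g.1.1) h)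
      have h1' : z.1 = z'.1 := Subtype.ext h1
      rw [h1', add_left_inj] at h2
      exact Prod.ext h1' (Subtype.ext h2)
    · obtain ⟨a, l, h, hg⟩ := g.1.2
      have hx : qx a l • x = x := by rw [← hg]; exact g.2
      have ha : a ∈ Rb H e f x := ⟨l, h, hx⟩
      have hd : l - l₀ ⟨a, ha⟩ ∈ skew H := by
        have h' : l + H.conj l + H.h a.1 a.1 = 0 := h
        have h'' : l₀ ⟨a, ha⟩ + H.conj (l₀ ⟨a, ha⟩) + H.h a.1 a.1 = 0 := (hl₀ ⟨a, ha⟩).1
        rw [mem_skew, map_sub]; linear_combination h' - h''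
      have h0 : Cd (0 : perp2 H e f) (l - l₀ ⟨a, ha⟩) := cd_zero_iff.2 hd
      have hm := qx_mul h0 (hl₀ ⟨a, ha⟩).1
      rw [zero_add, Submodule.coe_zero, H.zero_right, sub_zero, sub_add_cancel] at hm
      rw [← hm, mul_smul, (hl₀ ⟨a, ha⟩).2] at hx
      refine ⟨(⟨a, ha⟩, ⟨l - l₀ ⟨a, ha⟩, hd, by simpa [qx] using hx⟩), Subtype.ext (Subtype.ext ?_)⟩
      show qx a (l - l₀ ⟨a, ha⟩ + l₀ ⟨a, ha⟩) = _
      rw [sub_add_cancel, hg]
  rw [← Nat.card_congr (Equiv.ofBijective e' he), Nat.card_prod]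

/-- The points with a given pair of invariants at `e`, up to Levi translation. -/
theorem card_fib_ge (x : Ω) :
    Nat.card (MulAction.orbit (Lz H e f) (Rb H e f x)) * (Nat.card (perp2 H e f) * q) ≤
      {y : Ω | Wc (H := H) e y = Wc (H := H) e x}.ncard *
        (Nat.card (Rb H e f x) * Nat.card (Wc (H := H) e x)) := by
  classical
  rw [← card_orbit_mul hQ x, ← mul_assoc]
  refine Nat.mul_le_mul_right _ ?_
  rw [← Nat.card_prod, ← Nat.card_coe_set_eq]
  choose g hg using fun T : MulAction.orbit (Lz H e f) (Rb H e f x) => T.2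
  have hq : ∀ y ∈ MulAction.orbit (Qs H e f) x,
      Rb H e f y = Rb H e f x ∧ Wc (H := H) e y = Wc (H := H) e x := by
    rintro _ ⟨k, rfl⟩
    exact Rb_smul_Qs k.2 x
  refine Nat.card_le_card_of_injective (fun z => (⟨(g z.1).1 • z.2.1, ?_⟩ :
    {y : Ω | Wc (H := H) e y = Wc (H := H) e x})) fun z z' h => ?_
  · show Wc (H := H) e _ = _
    rw [Wc_lz, (hq _ z.2.2).2]
  · have h0 : (g z.1).1 • z.2.1 = (g z'.1).1 • z'.2.1 := congrArg Subtype.val h
    have hR := congrArg (Rb H e f) h0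
    rw [Rb_lz, Rb_lz, (hq _ z.2.2).1, (hq _ z'.2.2).1] at hR
    have h1 : z.1 = z'.1 := Subtype.ext ((hg z.1).symm.trans (hR.trans (hg z'.1)))
    rw [h1, smul_left_cancel_iff] at h0
    exact Prod.ext h1 (Subtype.ext h0)

/-- Torus translates: the points sharing their transvection stabiliser are few among the moved ones. -/
theorem card_moved_ge (hd : 3 ≤ finrank F V) (x : Ω) (hx : ¬ ZFix H e x) :
    Nat.card (Wc (H := H) e x) * {y : Ω | Wc (H := H) e y = Wc (H := H) e x}.ncard ≤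
      {y : Ω | ¬ ZFix H e y}.ncard := by
  classical
  have hB := big_of_finrank (H := H) hd
  set W := Wc (H := H) e x with hW
  have hWlt : ∃ x₀ ∈ skew H, x₀ ∉ W := SetLike.not_le_iff_exists.1 fun h =>
    hx ((zFix_iff e x).2 (le_antisymm (Wc_le e x) h))
  obtain ⟨x₀, hx₀, hx₀W⟩ := hWlt
  have hWs : W ≤ skew H := Wc_le e x
  set Kx := (powMonoidHom (q - 1) : Fˣ →* Fˣ).ker with hKx
  have hfix : ∀ u ∈ Kx, H.conj (u : F) = u := fun u hu => by
    rw [hQ.conj_eq]; exact (qPow_fixed_unit_iff hQ.card u).2 hu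
  haveI : Finite (AddSubgroup F) := Finite.of_injective (fun S => (S : Set F)) SetLike.coe_injective
  set M := MulAction.stabilizer Kx W with hM
  set O := MulAction.orbit Kx W
  have hOM : Nat.card O * Nat.card M = q - 1 := by
    rw [← card_fixed_units hQ.card, ← hKx, ← M.card_mul_index, MulAction.index_stabilizer,
      ← Nat.card_coe_set_eq, mul_comm]
  have hcK : ∀ {c : F} (u : Kx), c ∈ skew H → (u.1 : F) * c ∈ skew H := fun {c} u hc => by
    rw [mem_skew, map_mul, hfix u.1 u.2]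
    linear_combination (u.1 : F) * (mem_skew.1 hc)
  have hMW : ∀ u ∈ M, ∀ w ∈ W, (u.1 : F) * w ∈ W := fun u hu w hw => by
    rw [← MulAction.mem_stabilizer_iff.1 hu]
    exact AddSubgroup.smul_mem_pointwise_smul w u W hw
  have hMle : (Nat.card M + 1) * Nat.card W ≤ q := by
    rw [← card_skew hQ, ← Finite.card_option, ← Nat.card_prod]
    let φ : Option M × W → skew H := fun z =>
      ⟨z.1.elim 0 (fun u => ((u.1.1 : Fˣ) : F) * x₀) + z.2.1, by
        rcases z with ⟨_ | u, w⟩
        · simpa using hWs w.2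
        · exact add_mem (hcK u.1 hx₀) (hWs w.2)⟩
    refine Nat.card_le_card_of_injective φ ?_
    have hnot : ∀ u : M, ((u.1.1 : Fˣ) : F) * x₀ ∉ W := fun u hu => hx₀W (by
      have := hMW _ (M.inv_mem u.2) _ hu
      simpa using this)
    intro z z' hz
    have hz' : z.1.elim 0 (fun u => ((u.1.1 : Fˣ) : F) * x₀) + z.2.1 =
        z'.1.elim 0 (fun u => ((u.1.1 : Fˣ) : F) * x₀) + z'.2.1 := congrArg Subtype.val hz
    rcases z with ⟨_ | u, w⟩ <;> rcases z' with ⟨_ | u', w'⟩ <;>
      simp only [Option.elim_none, Option.elim_some, zero_add] at hz'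
    · exact Prod.ext rfl (Subtype.ext hz')
    · exact absurd (show _ ∈ W by rw [eq_sub_of_add_eq hz'.symm]; exact sub_mem w.2 w'.2) (hnot u')
    · exact absurd (show _ ∈ W by rw [eq_sub_of_add_eq hz']; exact sub_mem w'.2 w.2) (hnot u)
    · by_cases huu : u = u'
      · subst huu
        exact Prod.ext rfl (Subtype.ext (add_left_cancel hz'))
      · exfalso
        set d : M := u'⁻¹ * u with hdef
        have hd1 : ((d.1.1 : Fˣ) : F) - 1 ≠ 0 := fun h => huu (by
          have : d = 1 := Subtype.ext (Subtype.ext (Units.ext (sub_eq_zero.1 h)))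
          rwa [hdef, inv_mul_eq_one, eq_comm] at this)
        have hdx : (((d.1.1 : Fˣ) : F) - 1) * x₀ ∈ W := by
          have h1 : (((d.1.1 : Fˣ) : F) - 1) * x₀ =
              (((u'⁻¹ : M).1.1 : Fˣ) : F) * (w'.1 - w.1) := by
            rw [hdef, Subgroup.coe_mul, Subgroup.coe_mul, Units.val_mul, Subgroup.coe_inv,
              Subgroup.coe_inv, Units.val_inv_eq_inv_val]
            have := (u'.1.1 : Fˣ).ne_zero
            field_simp
            linear_combination hz'
          rw [h1]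
          exact hMW _ (M.inv_mem u'.2) _ (sub_mem w'.2 w.2)
        let ψ : W → W := fun v => ⟨(((d.1.1 : Fˣ) : F) - 1) * v.1, by
          rw [sub_mul, one_mul]; exact sub_mem (hMW _ d.2 _ v.2) v.2⟩
        have hψ : Function.Injective ψ := fun a b h =>
          Subtype.ext (mul_left_cancel₀ hd1 (congrArg Subtype.val h))
        obtain ⟨v, hv⟩ := (Finite.injective_iff_surjective.1 hψ) ⟨_, hdx⟩
        exact hx₀W (mul_left_cancel₀ hd1 (congrArg Subtype.val hv) ▸ v.2)
  have hkW : Nat.card W ≤ Nat.card O := by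
    by_contra hlt
    push Not at hlt
    have hM1 : 1 ≤ Nat.card M := Nat.card_pos
    have h1 : (Nat.card M + 1) * (Nat.card O + 1) ≤ q :=
      le_trans (Nat.mul_le_mul_left _ hlt) hMle
    have hq := hQ.two_le
    have h2 : Nat.card O * Nat.card M + 1 = q := by omega
    nlinarith
  refine le_trans (Nat.mul_le_mul_right _ hkW) ?_
  rw [← Nat.card_coe_set_eq, ← Nat.card_coe_set_eq, ← Nat.card_prod]
  have hsel : ∀ T : O, ∃ g : rootGen H, ∀ y : Ω, Wc (H := H) e y = W →
      Wc (H := H) e (g • y) = (T : AddSubgroup F) := by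
    rintro ⟨_, u, rfl⟩
    obtain ⟨t, ht⟩ := H.norm_surj (u.1 : F) (hfix u.1 u.2)
    have ht0 : t ≠ 0 := fun h => u.1.ne_zero (by rw [← ht, h, zero_mul])
    obtain ⟨g, hg⟩ := exists_lev (e := e) (f := f) hB ht0
    refine ⟨g, fun y hy => ?_⟩
    ext c
    show c ∈ Wc (H := H) e (g • y) ↔ c ∈ u.1 • W
    constructor
    · intro hc
      refine ⟨(u.1 : F)⁻¹ * c, ?_, mul_inv_cancel_left₀ u.1.ne_zero c⟩
      rw [SetLike.mem_coe, ← hy, ← hg.Wc_smul y, ht, mul_inv_cancel_left₀ u.1.ne_zero]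
      exact hc
    · rintro ⟨w, hw, rfl⟩
      show (u.1 : F) * w ∈ _
      rw [← ht, hg.Wc_smul y, hy]
      exact hw
  choose g hg using hsel
  refine Nat.card_le_card_of_injective (fun z : O × {y : Ω | Wc (H := H) e y = W} =>
    (⟨g z.1 • z.2.1, ?_⟩ : {y : Ω | ¬ ZFix H e y})) fun z z' h => ?_
  · intro hfz
    rw [zFix_iff, hg z.1 _ z.2.2] at hfz
    obtain ⟨u, hu⟩ := z.1.2
    have : u • W = skew H := hu.trans hfz
    have h2 : (u.1 : F) * x₀ ∈ u • W := this ▸ hcK u hx₀
    obtain ⟨w, hw, hw'⟩ := h2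
    exact hx₀W ((mul_left_cancel₀ u.1.ne_zero hw') ▸ hw)
  · have h0 : g z.1 • z.2.1 = g z'.1 • z'.2.1 := congrArg Subtype.val h
    have hWe := congrArg (Wc (H := H) e) h0
    rw [hg _ _ z.2.2, hg _ _ z'.2.2] at hWe
    have h1 : z.1 = z'.1 := Subtype.ext hWe
    rw [h1, smul_left_cancel_iff] at h0
    exact Prod.ext h1 (Subtype.ext h0)

/-- The main counting inequality. -/
theorem card_moved_mul_ge (hd : 3 ≤ finrank F V) (x : Ω) (hx : ¬ ZFix H e x) :
    Nat.card (MulAction.orbit (Lz H e f) (Rb H e f x)) * (Nat.card (perp2 H e f) * q) ≤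
      {y : Ω | ¬ ZFix H e y}.ncard * Nat.card (Rb H e f x) := by
  refine le_trans (card_fib_ge hQ x) ?_
  refine le_trans (le_of_eq ?_) (Nat.mul_le_mul_right _ (card_moved_ge hQ (f := f) hd x hx))
  ring

omit hQ in
theorem card_Rb_sq_le {x : Ω} (hx : ¬ ZFix H e x) :
    Nat.card (Rb H e f x) * Nat.card (Rb H e f x) ≤ Nat.card (perp2 H e f) := by
  obtain ⟨χ, hχ, hc⟩ := exists_char (H := H) (Wc (H := H) e x) fun h =>
    hx ((zFix_iff e x).2 (le_antisymm (Wc_le e x) h))
  exact card_sq_le hc fun a ha b hb => hχ _ (comm_mem_Wc ha hb)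

/-- Two orbits of the radical with the same invariants. -/
theorem card_moved_two (hd : 3 ≤ finrank F V) {x x' : Ω} (hx : ¬ ZFix H e x)
    (hW : Wc (H := H) e x' = Wc (H := H) e x) (hR : Rb H e f x = ⊥) (hR' : Rb H e f x' = ⊥)
    (hne : x' ∉ MulAction.orbit (Qs H e f) x) :
    2 * (Nat.card (perp2 H e f) * q) ≤ {y : Ω | ¬ ZFix H e y}.ncard := by
  have h1 := card_orbit_mul hQ (e := e) (f := f) x
  have h2 := card_orbit_mul hQ (e := e) (f := f) x'
  rw [hR, AddSubgroup.card_bot, one_mul] at h1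
  rw [hR', AddSubgroup.card_bot, one_mul, hW] at h2
  have hsub : MulAction.orbit (Qs H e f) x ∪ MulAction.orbit (Qs H e f) x' ⊆
      {y : Ω | Wc (H := H) e y = Wc (H := H) e x} := by
    rintro _ (⟨k, rfl⟩ | ⟨k, rfl⟩)
    · exact (Rb_smul_Qs k.2 x).2
    · exact (Rb_smul_Qs k.2 x').2.trans hW
  have hdis : Disjoint (MulAction.orbit (Qs H e f) x) (MulAction.orbit (Qs H e f) x') :=
    Set.disjoint_left.2 fun y hy hy' => hne (by
      rw [← MulAction.orbit_eq_iff.2 hy, MulAction.orbit_eq_iff.2 hy']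
      exact MulAction.mem_orbit_self x')
  have h3 := Set.ncard_le_ncard hsub (Set.toFinite _)
  rw [Set.ncard_union_eq hdis (Set.toFinite _) (Set.toFinite _), ← Nat.card_coe_set_eq,
    ← Nat.card_coe_set_eq] at h3
  refine le_trans ?_ (card_moved_ge hQ (f := f) hd x hx)
  rw [two_mul]
  nth_rewrite 1 [← h1]
  rw [← h2, ← add_mul, mul_comm]
  exact Nat.mul_le_mul_left _ h3

end CfsgLib.MinIndexPSU
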