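import Cfsg.Agent.Lib.MinIndexPSU.UnitaryBound

/-!
The smallest non-trivial transitive action of a special unitary group in dimension five.
-/

set_option autoImplicit false
set_option linter.unusedSectionVars false

namespace CfsgLib.MinIndexPSU

open Module CfsgLib.Classical.Herm CfsgLib.Classical.Herm.HermSpace
open scoped Pointwise

section Incidence

variable {G X : Type*} [Group G] [AddCommGroup X] [DistribMulAction G X] [Finite X]

/-- Incidences between the translates of a subgroup and an orbit of vectors. -/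
theorem orbit_incidence (S : AddSubgroup X) (C : Set X) (hC : ∀ c ∈ C, ∀ g : G, g • c ∈ C)
    {a : X} (ha : a ∈ C) (htr : ∀ c ∈ C, ∃ g : G, g • a = c) :
    Nat.card (MulAction.orbit G S) * {c | c ∈ C ∧ c ∈ S}.ncard =
      C.ncard * Nat.card {T : MulAction.orbit G S // a ∈ (T : AddSubgroup X)} := by
  classical
  haveI : Finite (AddSubgroup X) := Finite.of_injective (fun S => (S : Set X)) SetLike.coe_injective
  have : Fintype (MulAction.orbit G S) := Fintype.ofFinite _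
  have : Fintype C := Fintype.ofFinite _
  let e : (Σ T : MulAction.orbit G S, {c : C // c.1 ∈ (T : AddSubgroup X)}) ≃
      (Σ c : C, {T : MulAction.orbit G S // c.1 ∈ (T : AddSubgroup X)}) :=
    { toFun := fun z => ⟨z.2.1, z.1, z.2.2⟩
      invFun := fun z => ⟨z.2.1, z.1, z.2.2⟩
      left_inv := fun z => rfl
      right_inv := fun z => rfl }
  have h := Nat.card_congr e
  have h1 : ∀ T : MulAction.orbit G S, Nat.card {c : C // c.1 ∈ (T : AddSubgroup X)} =
      {c | c ∈ C ∧ c ∈ S}.ncard := by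
    rintro ⟨_, g, rfl⟩
    rw [← Nat.card_coe_set_eq]
    exact Nat.card_congr
      { toFun := fun c => ⟨g⁻¹ • c.1.1, hC _ c.1.2 _,
          AddSubgroup.mem_pointwise_smul_iff_inv_smul_mem.1 c.2⟩
        invFun := fun c => ⟨⟨g • c.1, hC _ c.2.1 _⟩, AddSubgroup.smul_mem_pointwise_smul _ g S c.2.2⟩
        left_inv := fun c => Subtype.ext (Subtype.ext (smul_inv_smul g _))
        right_inv := fun c => Subtype.ext (inv_smul_smul g _) }
  have h2 : ∀ c : C, Nat.card {T : MulAction.orbit G S // c.1 ∈ (T : AddSubgroup X)} =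
      Nat.card {T : MulAction.orbit G S // a ∈ (T : AddSubgroup X)} := by
    intro c
    obtain ⟨g, hg⟩ := htr c.1 c.2
    refine Nat.card_congr (Equiv.subtypeEquiv (MulAction.toPerm g⁻¹) fun T => ?_)
    show c.1 ∈ (T : AddSubgroup X) ↔ a ∈ g⁻¹ • (T : AddSubgroup X)
    rw [AddSubgroup.mem_pointwise_smul_iff_inv_smul_mem, inv_inv, hg]
  rw [Nat.card_sigma, Nat.card_sigma, Finset.sum_const_nat fun T _ => h1 T,
    Finset.sum_const_nat fun c _ => h2 c, Finset.card_univ, Finset.card_univ] at h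
  rw [Nat.card_eq_fintype_card, ← Nat.card_coe_set_eq C, Nat.card_eq_fintype_card]
  exact h

end Incidence

namespace Arith

theorem five_moved {q R t n₀ k₀ K p j : ℕ} (hp : p.Prime) (hq : 2 ≤ q) (hqp : q = p ^ j)
    (hR6 : R ∣ q ^ 6) (hR3 : R ≤ q ^ 3) (hR1 : 1 < R) (ht : 1 ≤ t)
    (h0 : t * n₀ = (q ^ 3 + 1) * (q ^ 2 - 1) * k₀)
    (hs : t * (R - 1) = t * n₀ + q ^ 2 * (q ^ 3 + 1) * K) :
    (q ^ 5 + 1) * (q ^ 2 + 1) * R ≤ t * q ^ 7 ∨ (R = q ^ 3 ∧ k₀ = 1) := by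
  have hq2 : 1 ≤ q ^ 2 := Nat.one_le_pow _ _ (by omega)
  zify [hq2, hR1.le] at h0 hs
  set Y : ℤ := (q : ℤ) ^ 2 * K + ((q : ℤ) ^ 2 - 1) * k₀ with hY
  have he : (t : ℤ) * ((R : ℤ) - 1) = ((q : ℤ) ^ 3 + 1) * Y := by
    rw [hY]; linear_combination hs + h0
  have hq' : (2 : ℤ) ≤ q := by exact_mod_cast hq
  have hq4 : (4 : ℤ) ≤ (q : ℤ) ^ 2 := by nlinarith
  have hR1' : (1 : ℤ) < R := by exact_mod_cast hR1
  have ht' : (1 : ℤ) ≤ t := by exact_mod_cast ht
  have hYpos : 0 < Y := pos_of_mul_pos_right (lt_of_lt_of_eq (mul_pos (by omega) (by omega)) he) (by positivity)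
  have hYk : ((q : ℤ) ^ 2 - 1) * k₀ ≤ Y := by
    rw [hY]; exact le_add_of_nonneg_left (by positivity)
  by_cases hR2 : R ≤ q ^ 2
  · left
    have hY1 : (q : ℤ) ^ 2 - 1 ≤ Y := by
      rcases Nat.eq_zero_or_pos k₀ with h | h
      · subst h
        rw [hY, Nat.cast_zero, mul_zero, add_zero] at hYpos ⊢
        have hK : (1 : ℤ) ≤ K := by
          by_contra hK
          have hK0 : K = 0 := by omega
          simp [hK0] at hYpos
        nlinarith
      · refine le_trans (le_mul_of_one_le_right (by omega) ?_) hYk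
        exact_mod_cast h
    have hR2' : (R : ℤ) ≤ (q : ℤ) ^ 2 := by exact_mod_cast hR2
    have h1 : ((q : ℤ) ^ 3 + 1) * ((q : ℤ) ^ 2 - 1) ≤ (t : ℤ) * ((q : ℤ) ^ 2 - 1) :=
      le_trans (mul_le_mul_of_nonneg_left hY1 (by positivity))
        (le_trans (le_of_eq he.symm) (mul_le_mul_of_nonneg_left (by omega) (by omega)))
    have h2 : (q : ℤ) ^ 3 + 1 ≤ t := le_of_mul_le_mul_right h1 (by omega)
    zify
    calc ((q : ℤ) ^ 5 + 1) * ((q : ℤ) ^ 2 + 1) * R
        ≤ ((q : ℤ) ^ 5 + 1) * ((q : ℤ) ^ 2 + 1) * (q : ℤ) ^ 2 :=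
          mul_le_mul_of_nonneg_left hR2' (by positivity)
      _ ≤ ((q : ℤ) ^ 3 + 1) * (q : ℤ) ^ 7 := by
          have h3 : (q : ℤ) ^ 9 * 2 ≤ (q : ℤ) ^ 9 * q :=
            mul_le_mul_of_nonneg_left hq' (by positivity)
          have h4 : (q : ℤ) ^ 7 * 4 ≤ (q : ℤ) ^ 7 * (q : ℤ) ^ 2 :=
            mul_le_mul_of_nonneg_left hq4 (by positivity)
          have h5 : (q : ℤ) ^ 4 ≤ (q : ℤ) ^ 7 := pow_le_pow_right₀ (by omega) (by norm_num)
          have h6 : (q : ℤ) ^ 2 ≤ (q : ℤ) ^ 7 := pow_le_pow_right₀ (by omega) (by norm_num)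
          linarith
      _ ≤ (t : ℤ) * (q : ℤ) ^ 7 := mul_le_mul_of_nonneg_right h2 (by positivity)
  push Not at hR2
  obtain ⟨r, -, rfl⟩ : ∃ r, r ≤ j * 6 ∧ R = p ^ r := by
    rw [hqp, ← pow_mul] at hR6
    exact (Nat.dvd_prime_pow hp).1 hR6
  subst hqp
  rw [← pow_mul] at hR3 hR2
  have hr1 := (Nat.pow_lt_pow_iff_right hp.one_lt).1 hR2
  have hr3 := (Nat.pow_le_pow_iff_right hp.one_lt).1 hR3
  obtain ⟨c, hc⟩ := Nat.exists_eq_add_of_le hr3
  obtain ⟨d, hd⟩ := Nat.exists_eq_add_of_le hr1.le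
  have hσ : ((p ^ r : ℕ) : ℤ) * (p : ℤ) ^ c = ((p ^ j : ℕ) : ℤ) ^ 3 := by
    push_cast; rw [← pow_add, ← hc, ← pow_mul]
  have hρ : ((p ^ r : ℕ) : ℤ) = ((p ^ j : ℕ) : ℤ) ^ 2 * (p : ℤ) ^ d := by
    push_cast; rw [← pow_mul, ← pow_add, ← hd]
  generalize ((p : ℤ) ^ d) = ρ at hρ
  have hσ1 : (1 : ℤ) ≤ (p : ℤ) ^ c := one_le_pow₀ (by exact_mod_cast hp.one_lt.le)
  generalize ((p : ℤ) ^ c) = σ at hσ hσ1
  generalize hqe : p ^ j = q at *
  generalize p ^ r = R at *
  have hR3' : (R : ℤ) ≤ (q : ℤ) ^ 3 := by rw [← hσ]; exact le_mul_of_one_le_right (by omega) hσ1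
  set i : ℤ := t - σ * Y with hi
  have h1 : (σ + 1) * Y = i * ((R : ℤ) - 1) := by
    rw [hi]; linear_combination -he + Y * hσ
  have h2 : (t : ℤ) * (σ + 1) = i * ((q : ℤ) ^ 3 + 1) := by
    linear_combination σ * h1 - (σ + 1) * hi + i * hσ
  have hi0 : 0 < i := by
    refine pos_of_mul_pos_left (lt_of_lt_of_eq (mul_pos (by omega) hYpos) h1) (by omega)
  by_cases hi1 : i = 1
  · exfalso
    rw [hi1, one_mul] at h1
    have hz : (σ + 1) * k₀ - 1 = (q : ℤ) ^ 2 * ((σ + 1) * ((K : ℤ) + k₀) - ρ) := by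
      rw [hY] at h1; linear_combination -h1 - hρ
    generalize ((σ + 1) * ((K : ℤ) + k₀) - ρ) = z at hz
    rcases Nat.eq_zero_or_pos k₀ with h | h
    · rw [h, Nat.cast_zero, mul_zero, zero_sub] at hz
      rcases le_or_gt 0 z with hz0 | hz0
      · have := mul_nonneg (sq_nonneg (q : ℤ)) hz0; omega
      · have : (q : ℤ) ^ 2 * z ≤ (q : ℤ) ^ 2 * (-1) := mul_le_mul_of_nonneg_left (by omega) (by positivity)
        omega
    · have hk : (2 : ℤ) ≤ (σ + 1) * k₀ := by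
        calc (2 : ℤ) = 2 * 1 := by norm_num
          _ ≤ (σ + 1) * k₀ := mul_le_mul (by omega) (by exact_mod_cast h) (by norm_num) (by omega)
      have hz1 : 1 ≤ z := by
        by_contra hz1
        have : (q : ℤ) ^ 2 * z ≤ 0 := mul_nonpos_of_nonneg_of_nonpos (by positivity) (by omega)
        omega
      have h3 : (q : ℤ) ^ 2 * 1 ≤ (q : ℤ) ^ 2 * z := mul_le_mul_of_nonneg_left hz1 (by positivity)
      have h4 := mul_le_mul_of_nonneg_left hYk (show 0 ≤ σ + 1 by omega)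
      have h5 : ((q : ℤ) ^ 2 - 1) * ((q : ℤ) ^ 2 + 1) ≤ ((q : ℤ) ^ 2 - 1) * ((σ + 1) * k₀) :=
        mul_le_mul_of_nonneg_left (by omega) (by omega)
      have h6 : (q : ℤ) ^ 3 * 2 ≤ (q : ℤ) ^ 3 * q := mul_le_mul_of_nonneg_left hq' (by positivity)
      have h7 : (q : ℤ) ^ 2 * 2 ≤ (q : ℤ) ^ 2 * q := mul_le_mul_of_nonneg_left hq' (by positivity)
      linarith
  by_cases hex : i = 2 ∧ σ = 1
  · right
    obtain ⟨hi2, rfl⟩ := hex
    rw [mul_one] at hσ
    rw [hi2, hσ] at h1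
    refine ⟨by exact_mod_cast hσ, ?_⟩
    have hY' : Y = (q : ℤ) ^ 3 - 1 := by linarith
    rw [hY'] at hYk
    have hk : (k₀ : ℤ) ≤ (q : ℤ) + 1 := by
      by_contra hk
      have h3 : ((q : ℤ) ^ 2 - 1) * ((q : ℤ) + 2) ≤ ((q : ℤ) ^ 2 - 1) * k₀ :=
        mul_le_mul_of_nonneg_left (by omega) (by omega)
      have h4 : (q : ℤ) * 2 ≤ (q : ℤ) * q := mul_le_mul_of_nonneg_left hq' (by omega)
      linarith
    have hz : (k₀ : ℤ) - 1 = (q : ℤ) ^ 2 * ((K : ℤ) + k₀ - q) := by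
      rw [hY'] at hY; linear_combination hY
    generalize ((K : ℤ) + k₀ - q) = z at hz
    have hqq : (q : ℤ) * 2 ≤ (q : ℤ) ^ 2 := by nlinarith
    rcases lt_trichotomy z 0 with hz0 | hz0 | hz0
    · have : (q : ℤ) ^ 2 * z ≤ (q : ℤ) ^ 2 * (-1) := mul_le_mul_of_nonneg_left (by omega) (by positivity)
      omega
    · subst hz0; omega
    · have : (q : ℤ) ^ 2 * 1 ≤ (q : ℤ) ^ 2 * z := mul_le_mul_of_nonneg_left (by omega) (by positivity)
      omega
  left
  have h3 : 4 * (σ + 1) ≤ 3 * i * σ := by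
    rcases (show i = 2 ∨ 3 ≤ i by omega) with h | h
    · have : σ ≠ 1 := fun h' => hex ⟨h, h'⟩
      rw [h]
      omega
    · have : 3 * 3 * σ ≤ 3 * i * σ :=
        mul_le_mul_of_nonneg_right (by omega) (by omega)
      omega
  have h4 : 3 * (((q : ℤ) ^ 5 + 1) * ((q : ℤ) ^ 2 + 1)) * (q : ℤ) ^ 3 ≤
      4 * ((q : ℤ) ^ 3 + 1) * (q : ℤ) ^ 7 := by
    have h5 : (q : ℤ) ^ 5 * 4 ≤ (q : ℤ) ^ 5 * (q : ℤ) ^ 2 := mul_le_mul_of_nonneg_left hq4 (by positivity)
    have h6 : 3 * (q : ℤ) ^ 2 + 3 ≤ 4 * (q : ℤ) ^ 4 := by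
      have : (q : ℤ) ^ 2 * 4 ≤ (q : ℤ) ^ 2 * (q : ℤ) ^ 2 := mul_le_mul_of_nonneg_left hq4 (by positivity)
      linarith
    have h8 : (0 : ℤ) ≤ (q : ℤ) ^ 5 := by positivity
    have h7 := mul_le_mul_of_nonneg_left
      (show 3 * (((q : ℤ) ^ 5 + 1) * ((q : ℤ) ^ 2 + 1)) ≤ 4 * ((q : ℤ) ^ 7 + (q : ℤ) ^ 4) by linarith)
      (show (0 : ℤ) ≤ (q : ℤ) ^ 3 by positivity)
    linarith
  zify
  refine le_of_mul_le_mul_right ?_ (show (0 : ℤ) < 3 * σ * (σ + 1) from
    mul_pos (by omega) (by omega))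
  calc ((q : ℤ) ^ 5 + 1) * ((q : ℤ) ^ 2 + 1) * R * (3 * σ * (σ + 1))
      = 3 * (((q : ℤ) ^ 5 + 1) * ((q : ℤ) ^ 2 + 1)) * (q : ℤ) ^ 3 * (σ + 1) := by
        linear_combination (3 * (((q : ℤ) ^ 5 + 1) * ((q : ℤ) ^ 2 + 1)) * (σ + 1)) * hσ
    _ ≤ 4 * ((q : ℤ) ^ 3 + 1) * (q : ℤ) ^ 7 * (σ + 1) := mul_le_mul_of_nonneg_right h4 (by omega)
    _ = ((q : ℤ) ^ 3 + 1) * (q : ℤ) ^ 7 * (4 * (σ + 1)) := by ring
    _ ≤ ((q : ℤ) ^ 3 + 1) * (q : ℤ) ^ 7 * (3 * i * σ) := mul_le_mul_of_nonneg_left h3 (by positivity)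
    _ = (t : ℤ) * (q : ℤ) ^ 7 * (3 * σ * (σ + 1)) := by
        linear_combination (-(3 * σ * (q : ℤ) ^ 7)) * h2

end Arith

variable {F V : Type*} [Field F] [Fintype F] [AddCommGroup V] [Module F V] [FiniteDimensional F V]
  {H : HermSpace F V} {e f : V} [hp : Fact (IsHPair H e f)] {q : ℕ} (hQ : IsQ H q)

include hp

omit [Fintype F] in
/-- A Levi element stretching an isotropic vector and turning a vector orthogonal to it. -/
theorem exists_line_dil (hd : 3 ≤ finrank F V) {v v' w : perp2 H e f}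
    (pv : IsHPair (res hp.out) v v') (hwv : H.h w.1 v.1 = 0) (hwv' : H.h w.1 v'.1 = 0)
    (hww : H.h w.1 w.1 ≠ 0) {η : F} (hη : η * H.conj η = 1) :
    ∃ (g : Lz H e f) (α : F), g • v = α • v ∧ g • w = η • w := by
  have hB := big_of_finrank (H := H) hd
  obtain ⟨t, ht, htη⟩ : ∃ t : F, t ≠ 0 ∧ H.conj t = η * t := by
    by_cases h : 1 + H.conj η = 0
    · obtain ⟨τ, hτ0, hτ⟩ := H.exists_skew
      refine ⟨τ, hτ0, ?_⟩
      have h' := congrArg H.conj h
      rw [map_add, map_one, H.conj_conj, map_zero] at h'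
      linear_combination hτ - τ * h'
    · exact ⟨1 + H.conj η, h, by rw [map_add, map_one, H.conj_conj]; linear_combination -hη⟩
  obtain ⟨d, hd', hdv, -, hdfix⟩ := exists_dil (H := H) (e := v.1) (f := v'.1)
    ⟨pv.1, pv.2.1, pv.2.2⟩ ht
  obtain ⟨s, hs, hsw, hsfix⟩ := exists_qrefl hww hη
  obtain ⟨k, hk⟩ := exists_rootGen hB hp.out (d * s) (by
    rw [map_mul, Units.val_mul, hd', hs, htη]
    have := left_ne_zero_of_mul_eq_one hη
    field_simp)
  have hve := (mem_perp2.1 v.2).1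
  have hvf := (mem_perp2.1 v.2).2
  obtain ⟨g, -, hg⟩ := exists_lz (e := e) (f := f) (g := k)
    (by rw [hk, mul_apply, hsfix e (H.h_comm_zero (mem_perp2.1 w.2).1),
      hdfix e (H.h_comm_zero hve) (H.h_comm_zero (mem_perp2.1 v'.2).1)])
    (by rw [hk, mul_apply, hsfix f (H.h_comm_zero (mem_perp2.1 w.2).2),
      hdfix f (H.h_comm_zero hvf) (H.h_comm_zero (mem_perp2.1 v'.2).2)])
  refine ⟨g, t, Subtype.ext ?_, Subtype.ext ?_⟩
  · rw [hg, hk, mul_apply, hsfix _ (H.h_comm_zero hwv), hdv, Submodule.coe_smul]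
  · rw [hg, hk, mul_apply, hsw, map_smul, hdfix _ hwv hwv', Submodule.coe_smul]

include hQ

/-- An invariant of the largest size is not preserved by the stabiliser of an isotropic vector. -/
theorem absurd_line (hm : finrank F (perp2 H e f) = 3) {S : AddSubgroup (perp2 H e f)}
    (hR : Nat.card S = q ^ 3) {v : perp2 H e f} (hvS : v ∈ S) (hv0 : v ≠ 0)
    (hvv : H.h v.1 v.1 = 0) (huniq : ∀ g : Lz H e f, g • v ∈ S → g • S = S) : False := by
  classical
  have hq := hQ.two_le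
  haveI : Finite V := Module.finite_of_finite F
  have hfd := finrank_perp2 hp.out
  obtain ⟨v', pv⟩ := exists_isotropic_partner (H := res hp.out) (u := v) hvv hv0
  have h1 : finrank F (perp2 (res hp.out) v v') = 1 := by
    have := finrank_perp2 pv
    omega
  obtain ⟨w', hw'0, hw'⟩ := finrank_eq_one_iff'.1 h1
  set w : perp2 H e f := w'.1 with hwdef
  have hwv : H.h w.1 v.1 = 0 := (mem_perp2.1 w'.2).1
  have hwv' : H.h w.1 v'.1 = 0 := (mem_perp2.1 w'.2).2
  have hdec : ∀ s : perp2 H e f, ∃ ξ : F, s = H.h s.1 v'.1 • v + H.h s.1 v.1 • v' + ξ • w := by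
    intro s
    obtain ⟨ξ, hξ⟩ := hw' (proj2 pv s)
    refine ⟨ξ, ?_⟩
    conv_lhs => rw [decomp2 pv s, ← hξ]
    rfl
  have hww : H.h w.1 w.1 ≠ 0 := by
    intro h0
    refine hw'0 (Subtype.ext ((res hp.out).nondeg w fun s => ?_))
    obtain ⟨ξ, hξ⟩ := hdec s
    show H.h w.1 s.1 = 0
    rw [hξ]
    simp [Submodule.coe_add, Submodule.coe_smul, H.add_right, H.smul_right, hwv, hwv', h0]
  have hroot : ∀ s ∈ S, ∀ x : F, ∃ ρ : F,
      (H.h s.1 v.1 * x) • w + (ρ * H.h s.1 v.1 - H.conj x * H.h s.1 w.1) • v ∈ S := by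
    intro s hs x
    obtain ⟨l, hl⟩ := H.exists_trace (c := -H.h (x • w).1 (x • w).1) (by rw [map_neg, H.conj_diag])
    have c : RootCond H v.1 (x • w).1 l := by
      refine ⟨hvv, by rw [Submodule.coe_smul, H.smul_left, hwv, mul_zero], ?_⟩
      linear_combination hl
    obtain ⟨k, hk⟩ := exists_lz_root c
    have hkv : k • v = v := Subtype.ext (by
      rw [hk, hvv, Submodule.coe_smul, H.smul_right, H.h_comm_zero hwv]; simp)
    have hks : k • s ∈ S := by
      rw [← huniq k (by rw [hkv]; exact hvS)]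
      exact AddSubgroup.smul_mem_pointwise_smul _ _ _ hs
    refine ⟨l, ?_⟩
    have h2 := S.sub_mem hks hs
    rwa [show k • s - s = (H.h s.1 v.1 * x) • w + (l * H.h s.1 v.1 - H.conj x * H.h s.1 w.1) • v
      from Subtype.ext (by
        rw [AddSubgroupClass.coe_sub, hk, Submodule.coe_add, Submodule.coe_smul, Submodule.coe_smul,
          Submodule.coe_smul, H.smul_right]
        module)] at h2
  have hcardF : Nat.card F = q ^ 2 := by rw [Nat.card_eq_fintype_card, hQ.card]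
  have hind : ∀ a b : F, a • v + b • w = 0 → a = 0 ∧ b = 0 := by
    intro a b h
    have h2 := congrArg (fun z : perp2 H e f => H.h z.1 w.1) h
    simp only [Submodule.coe_add, Submodule.coe_smul, H.add_left, H.smul_left,
      H.h_comm_zero hwv, mul_zero, zero_add, Submodule.coe_zero, H.zero_left] at h2
    have hb : b = 0 := (mul_eq_zero.1 h2).resolve_right hww
    rw [hb, zero_smul, add_zero] at h
    exact ⟨(smul_eq_zero.1 h).resolve_right hv0, hb⟩
  -- all of `S` is orthogonal to `v`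
  have hperp : ∀ s ∈ S, H.h s.1 v.1 = 0 := by
    intro s hs
    by_contra hβ
    set β := H.h s.1 v.1 with hβdef
    obtain ⟨ρ₁, hρ₁⟩ := hroot s hs 1
    rw [mul_one, map_one, one_mul] at hρ₁
    have hFv : ∀ a : F, a • v ∈ S := by
      intro a
      obtain ⟨ρ, hρ⟩ := hroot _ hρ₁ (H.conj (-(a / (β * H.h w.1 w.1))))
      simp only [Submodule.coe_add, Submodule.coe_smul, H.add_left, H.smul_left, hwv, hvv,
        H.h_comm_zero hwv, mul_zero, zero_mul, add_zero, zero_add, zero_smul, zero_sub,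
        H.conj_conj] at hρ
      rwa [neg_mul, neg_neg, div_mul_cancel₀ _ (mul_ne_zero hβ hww)] at hρ
    have hFw : ∀ b : F, b • w ∈ S := by
      intro b
      obtain ⟨ρ, hρ⟩ := hroot s hs (b / β)
      rw [mul_div_cancel₀ _ hβ] at hρ
      exact (add_sub_cancel_right (b • w) _) ▸ S.sub_mem hρ (hFv _)
    have hle := Nat.card_le_card_of_injective
      (fun z : F × F => (⟨z.1 • v + z.2 • w, S.add_mem (hFv _) (hFw _)⟩ : S)) fun z z' h => by
        have h0 : z.1 • v + z.2 • w = z'.1 • v + z'.2 • w := congrArg Subtype.val h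
        obtain ⟨h2, h3⟩ := hind (z.1 - z'.1) (z.2 - z'.2) (by
          linear_combination (norm := module) h0)
        exact Prod.ext (sub_eq_zero.1 h2) (sub_eq_zero.1 h3)
    rw [Nat.card_prod, hcardF, hR, ← pow_add] at hle
    exact absurd hle (not_le.2 (Nat.pow_lt_pow_right (by omega) (by norm_num)))
  have hdec' : ∀ s ∈ S, ∃ ξ : F, s = H.h s.1 v'.1 • v + ξ • w := by
    intro s hs
    obtain ⟨ξ, hξ⟩ := hdec s
    rw [hperp s hs, zero_smul, add_zero] at hξ
    exact ⟨ξ, hξ⟩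
  obtain ⟨s₀, hs₀, ξ₀, hξ₀0, hξ₀⟩ : ∃ s₀ ∈ S, ∃ ξ : F, ξ ≠ 0 ∧ s₀ = H.h s₀.1 v'.1 • v + ξ • w := by
    by_contra hcon
    push Not at hcon
    have hle := Nat.card_le_card_of_injective (fun s : S => H.h s.1.1 v'.1) fun s s' h => by
      obtain ⟨a, ha⟩ := hdec' s.1 s.2
      obtain ⟨a', ha'⟩ := hdec' s'.1 s'.2
      have ha0 : a = 0 := by by_contra h0; exact hcon _ s.2 a h0 ha
      have ha'0 : a' = 0 := by by_contra h0; exact hcon _ s'.2 a' h0 ha'
      refine Subtype.ext ?_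
      rw [ha, ha', ha0, ha'0]
      congr 2
    rw [hcardF, hR] at hle
    exact absurd hle (not_le.2 (Nat.pow_lt_pow_right (by omega) (by norm_num)))
  have hFv : ∀ a : F, a • v ∈ S := by
    intro a
    obtain ⟨ρ, hρ⟩ := hroot s₀ hs₀ (H.conj (-(a / (ξ₀ * H.h w.1 w.1))))
    have hsw : H.h s₀.1 w.1 = ξ₀ * H.h w.1 w.1 := by
      conv_lhs => rw [hξ₀]
      simp [H.add_left, H.smul_left, H.h_comm_zero hwv]
    rw [hperp s₀ hs₀, zero_mul, zero_smul, zero_add, mul_zero, zero_sub, H.conj_conj, hsw,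
      neg_mul, neg_neg, div_mul_cancel₀ _ (mul_ne_zero hξ₀0 hww)] at hρ
    exact hρ
  let P := {ξ : F | ξ • w ∈ S}
  have hP : Nat.card P ≤ q := by
    have hle := Nat.card_le_card_of_injective
      (fun z : F × P => (⟨z.1 • v + z.2.1 • w, S.add_mem (hFv _) z.2.2⟩ : S)) fun z z' h => by
        have h0 : z.1 • v + z.2.1 • w = z'.1 • v + z'.2.1 • w := congrArg Subtype.val h
        obtain ⟨h2, h3⟩ := hind (z.1 - z'.1) (z.2.1 - z'.2.1) (by
          linear_combination (norm := module) h0)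
        exact Prod.ext (sub_eq_zero.1 h2) (Subtype.ext (sub_eq_zero.1 h3))
    rw [Nat.card_prod, hcardF, hR, pow_succ q 2] at hle
    exact Nat.le_of_mul_le_mul_left hle (pow_pos (by omega) 2)
  have hξ₀P : ξ₀ • w ∈ S := by
    have h2 := S.sub_mem hs₀ (hFv (H.h s₀.1 v'.1))
    rwa [show s₀ - H.h s₀.1 v'.1 • v = ξ₀ • w by
      conv_lhs => arg 1; rw [hξ₀]
      abel] at h2
  have hnorm : ∀ η : F, η * H.conj η = 1 → η * ξ₀ ∈ P := by
    intro η hη
    obtain ⟨g, α, hgv, hgw⟩ := exists_line_dil (by omega) pv hwv hwv' hww hη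
    have hS := huniq g (by rw [hgv]; exact hFv α)
    show (η * ξ₀) • w ∈ S
    rw [← hS, mul_comm, ← smul_smul, ← hgw, ← lz_smul_comm]
    exact AddSubgroup.smul_mem_pointwise_smul _ _ _ hξ₀P
  have hker : ∀ ζ : (powMonoidHom (q + 1) : Fˣ →* Fˣ).ker,
      ((ζ.1 : Fˣ) : F) * H.conj ((ζ.1 : Fˣ) : F) = 1 := fun ζ => by
    have := congrArg Units.val (MonoidHom.mem_ker.1 ζ.2)
    rw [powMonoidHom_apply, Units.val_pow_eq_pow_val, Units.val_one] at this
    rw [hQ.pow, ← pow_succ', this]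
  have hle := Nat.card_le_card_of_injective
    (fun ζ : (powMonoidHom (q + 1) : Fˣ →* Fˣ).ker =>
      (⟨((ζ.1 : Fˣ) : F) * ξ₀, hnorm _ (hker ζ)⟩ : P)) fun ζ ζ' h =>
      Subtype.ext (Units.ext (mul_right_cancel₀ hξ₀0 (congrArg Subtype.val h)))
  rw [card_normOne_units hQ.card] at hle
  exact absurd (le_trans hle hP) (by omega)

/-- In an isotropic invariant there are at most `q ^ 2` elements. -/
theorem card_le_sq_of_isotropic (hm : finrank F (perp2 H e f) = 3) {S : AddSubgroup (perp2 H e f)}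
    (hiso : ∀ a ∈ S, H.h a.1 a.1 = 0) : Nat.card S ≤ q ^ 2 := by
  classical
  have hq := hQ.two_le
  haveI : Finite V := Module.finite_of_finite F
  by_cases hbot : S = ⊥
  · rw [hbot, AddSubgroup.card_bot]; exact Nat.one_le_pow _ _ (by omega)
  obtain ⟨a, ha, ha0⟩ : ∃ a ∈ S, a ≠ 0 := by
    by_contra hcon
    push Not at hcon
    exact hbot ((AddSubgroup.eq_bot_iff_forall _).2 hcon)
  have hskew : ∀ c ∈ S, ∀ d ∈ S, H.h c.1 d.1 + H.h d.1 c.1 = 0 := by
    intro c hc d hd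
    have h1 := hiso _ (S.add_mem hc hd)
    rw [Submodule.coe_add, H.add_left, H.add_right, H.add_right, hiso c hc, hiso d hd] at h1
    linear_combination h1
  have hcardF : Nat.card F = q ^ 2 := by rw [Nat.card_eq_fintype_card, hQ.card]
  -- a partner, taken inside `S` when possible
  obtain ⟨b, pb, hb⟩ : ∃ b : perp2 H e f, IsHPair (res hp.out) a b ∧
      ((∀ c ∈ S, H.h c.1 a.1 = 0) ∨ ∃ τ : F, τ ≠ 0 ∧ H.conj τ = -τ ∧ τ • b ∈ S) := by
    by_cases hall : ∀ c ∈ S, H.h c.1 a.1 = 0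
    · obtain ⟨b, pb⟩ := exists_isotropic_partner (H := res hp.out) (u := a) (hiso a ha) ha0
      exact ⟨b, pb, Or.inl hall⟩
    · push Not at hall
      obtain ⟨c, hc, hca⟩ := hall
      refine ⟨(H.h c.1 a.1)⁻¹ • c, ⟨hiso a ha, ?_, ?_⟩, Or.inr ⟨H.h c.1 a.1, hca, ?_, ?_⟩⟩
      · show H.h _ _ = 0
        rw [Submodule.coe_smul, H.smul_left, H.smul_right, hiso c hc, mul_zero, mul_zero]
      · show H.h _ _ = 1
        rw [Submodule.coe_smul, H.smul_left, inv_mul_cancel₀ hca]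
      · rw [H.symm']; linear_combination hskew a ha c hc
      · rwa [smul_smul, mul_inv_cancel₀ hca, one_smul]
  have h1 : finrank F (perp2 (res hp.out) a b) = 1 := by
    have := finrank_perp2 pb
    omega
  obtain ⟨w', hw'0, hw'⟩ := finrank_eq_one_iff'.1 h1
  have hwa : H.h w'.1.1 a.1 = 0 := (mem_perp2.1 w'.2).1
  have hwb : H.h w'.1.1 b.1 = 0 := (mem_perp2.1 w'.2).2
  have hdec : ∀ s : perp2 H e f, ∃ ξ : F, s = H.h s.1 b.1 • a + H.h s.1 a.1 • b + ξ • w'.1 := by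
    intro s
    obtain ⟨ξ, hξ⟩ := hw' (proj2 pb s)
    refine ⟨ξ, ?_⟩
    conv_lhs => rw [decomp2 pb s, ← hξ]
    rfl
  have hww : H.h w'.1.1 w'.1.1 ≠ 0 := by
    intro h0
    refine hw'0 (Subtype.ext ((res hp.out).nondeg w'.1 fun s => ?_))
    obtain ⟨ξ, hξ⟩ := hdec s
    show H.h w'.1.1 s.1 = 0
    rw [hξ]
    simp [Submodule.coe_add, Submodule.coe_smul, H.add_right, H.smul_right, hwa, hwb, h0]
  have hsplit : ∀ c ∈ S, c = H.h c.1 b.1 • a + H.h c.1 a.1 • b := by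
    intro c hc
    obtain ⟨ξ, hξ⟩ := hdec c
    have hy : H.h c.1 a.1 + H.conj (H.h c.1 a.1) = 0 := by rw [H.symm']; exact hskew c hc a ha
    have hxy : H.h c.1 b.1 * H.conj (H.h c.1 a.1) + H.h c.1 a.1 * H.conj (H.h c.1 b.1) = 0 := by
      rcases hb with hall | ⟨τ, hτ0, hτ, hτb⟩
      · rw [hall c hc]; simp
      · have h3 := hskew c hc _ hτb
        rw [Submodule.coe_smul, H.smul_left, H.smul_right, hτ, ← H.symm' c.1 b.1] at h3
        have hx : H.conj (H.h c.1 b.1) = H.h c.1 b.1 :=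
          mul_left_cancel₀ hτ0 (by linear_combination h3)
        rw [hx]
        linear_combination H.h c.1 b.1 * hy
    have h0 := hiso c hc
    rw [hξ] at h0
    simp only [Submodule.coe_add, Submodule.coe_smul, H.add_left, H.add_right, H.smul_left,
      H.smul_right, show H.h a.1 a.1 = 0 from hiso a ha, show H.h b.1 b.1 = 0 from pb.2.1,
      show H.h b.1 a.1 = 1 from pb.2.2, show H.h a.1 b.1 = 1 from H.h_comm_one pb.2.2, hwa, hwb,
      H.h_comm_zero hwa, H.h_comm_zero hwb, mul_zero, mul_one, add_zero, zero_add] at h0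
    have hξ0 : ξ = 0 := by
      have : ξ * H.conj ξ * H.h w'.1.1 w'.1.1 = 0 := by linear_combination h0 - hxy
      by_contra hne
      exact mul_ne_zero (mul_ne_zero hne (H.conj_ne_zero hne)) hww this
    rw [hξ0, zero_smul, add_zero] at hξ
    exact hξ
  rcases hb with hall | ⟨τ, hτ0, hτ, hτb⟩
  · rw [← hcardF]
    refine Nat.card_le_card_of_injective (fun c : S => H.h c.1.1 b.1) fun c c' h => Subtype.ext ?_
    rw [hsplit c.1 c.2, hsplit c'.1 c'.2, hall _ c.2, hall _ c'.2]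
    congr 2
  · have hsk : ∀ c : S, H.h c.1.1 a.1 ∈ skew H := fun c => by
      rw [mem_skew, H.symm']; exact hskew c.1 c.2 a ha
    have hfix : ∀ c : S, H.conj (H.h c.1.1 b.1) = H.h c.1.1 b.1 := fun c => by
      have h3 := hskew c.1 c.2 _ hτb
      rw [Submodule.coe_smul, H.smul_left, H.smul_right, hτ, ← H.symm' c.1.1 b.1] at h3
      exact mul_left_cancel₀ hτ0 (by linear_combination h3)
    have hle := Nat.card_le_card_of_injective
      (fun c : S => ((⟨_, hfix c⟩ : {x : F // H.conj x = x}), (⟨_, hsk c⟩ : skew H))) fun c c' h => by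
        refine Subtype.ext ?_
        simp only [Prod.mk.injEq, Subtype.mk.injEq] at h
        rw [hsplit c.1 c.2, hsplit c'.1 c'.2, h.1, h.2]
    rw [Nat.card_prod, card_fixed hQ, card_skew hQ] at hle
    rwa [pow_two]

theorem isoCard_three (hm : finrank F (perp2 H e f) = 3) :
    isoCard H e f = (q ^ 3 + 1) * (q ^ 2 - 1) := by
  have h := isoCard_mul hQ (e := e) (f := f)
  rw [hm] at h
  have hq := hQ.two_le
  zify [Nat.one_le_pow 2 q (by omega)]
  refine mul_left_cancel₀ (show (q : ℤ) ≠ 0 by omega) ?_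
  linear_combination h

theorem valCard_three (hm : finrank F (perp2 H e f) = 3) {c : F} (hc : H.conj c = c) (hc0 : c ≠ 0) :
    valCard H e f c = q ^ 2 * (q ^ 3 + 1) := by
  have h := valCard_mul hQ (e := e) (f := f) hc hc0
  rw [hm] at h
  have hq := hQ.two_le
  zify
  refine mul_left_cancel₀ (show (q : ℤ) ≠ 0 by omega) ?_
  linear_combination h

/-- The translates of an invariant of a moved point are many. -/
theorem translates_five (hm : finrank F (perp2 H e f) = 3) {S : AddSubgroup (perp2 H e f)}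
    (hbot : S ≠ ⊥) (hR3 : Nat.card S ≤ q ^ 3) :
    (q ^ 5 + 1) * (q ^ 2 + 1) * Nat.card S ≤
      Nat.card (MulAction.orbit (Lz H e f) S) * q ^ 7 := by
  classical
  have hq := hQ.two_le
  haveI : Finite V := Module.finite_of_finite F
  have hfd := finrank_perp2 hp.out
  set t := Nat.card (MulAction.orbit (Lz H e f) S)
  have ht : 1 ≤ t := by
    haveI : Finite (AddSubgroup (perp2 H e f)) :=
      Finite.of_injective (fun S => (S : Set (perp2 H e f))) SetLike.coe_injective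
    have : Nonempty (MulAction.orbit (Lz H e f) S) := ⟨⟨_, MulAction.mem_orbit_self _⟩⟩
    exact Nat.card_pos
  obtain ⟨v, v', pv⟩ := exists_complement_pair (H := H) (e := e) (f := f) (by omega)
  let C := fun c : F => {x : perp2 H e f | x ≠ 0 ∧ H.h x.1 x.1 = c}
  have hinv : ∀ c, ∀ x ∈ C c, ∀ g : Lz H e f, g • x ∈ C c := fun c x hx g =>
    ⟨fun h => hx.1 ((smul_eq_zero_iff_eq g).1 h), (h_lz_smul g x x).trans hx.2⟩
  have htrans : ∀ c, ∀ x ∈ C c, ∀ y ∈ C c, ∃ g : Lz H e f, g • x = y := by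
    intro c x hx y hy
    by_cases h0 : c = 0
    · exact exists_lz_iso (by omega) hx.1 hy.1 (hx.2.trans h0) (hy.2.trans h0)
    · exact exists_lz_value (by omega) (by rw [hx.2]; exact h0) (hx.2.trans hy.2.symm)
  have hv : v ∈ C 0 := ⟨pv.left_ne_zero, pv.1⟩
  set k₀ := Nat.card {T : MulAction.orbit (Lz H e f) S // v ∈ (T : AddSubgroup _)} with hk₀
  have h0 : t * {x | x ∈ C 0 ∧ x ∈ S}.ncard = (q ^ 3 + 1) * (q ^ 2 - 1) * k₀ := by
    rw [orbit_incidence S (C 0) (hinv 0) hv (htrans 0 v hv), ← isoCard_three hQ hm]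
    rfl
  -- the anisotropic part
  let N := {x : perp2 H e f | x ∈ S ∧ H.h x.1 x.1 ≠ 0}
  have hN : q ^ 2 * (q ^ 3 + 1) ∣ t * N.ncard := by
    have : Fintype (perp2 H e f) := Fintype.ofFinite _
    rw [show N = ↑(Finset.univ.filter fun x : perp2 H e f => x ∈ S ∧ H.h x.1 x.1 ≠ 0) by
      ext x; simp [N], Set.ncard_coe_finset,
      Finset.card_eq_sum_card_image (fun x : perp2 H e f => H.h x.1 x.1), Finset.mul_sum]
    refine Finset.dvd_sum fun c hc => ?_
    obtain ⟨a, ha, rfl⟩ := Finset.mem_image.1 hc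
    obtain ⟨-, haS, hane⟩ := Finset.mem_filter.1 ha
    have haC : a ∈ C (H.h a.1 a.1) :=
      ⟨fun h => hane (by rw [h, Submodule.coe_zero, H.zero_left]), rfl⟩
    have h := orbit_incidence S _ (hinv _) haC (htrans _ a haC)
    have hC : (C (H.h a.1 a.1)).ncard = q ^ 2 * (q ^ 3 + 1) := by
      rw [← valCard_three hQ hm (H.conj_diag a.1) hane, valCard]
      congr 1
      ext x
      exact ⟨fun h => h.2, fun h => ⟨fun h0 => hane (by
        have h' : H.h x.1 x.1 = H.h a.1 a.1 := h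
        rw [← h', h0, Submodule.coe_zero, H.zero_left]), h⟩⟩
    have hset : {x | x ∈ C (H.h a.1 a.1) ∧ x ∈ S} =
        ↑((Finset.univ.filter fun x : perp2 H e f => x ∈ S ∧ H.h x.1 x.1 ≠ 0).filter
          fun x => H.h x.1 x.1 = H.h a.1 a.1) := by
      ext x
      simp only [C, Set.mem_setOf_eq, Finset.coe_filter, Finset.mem_filter, Finset.mem_univ, true_and]
      constructor
      · rintro ⟨⟨-, hx⟩, hxS⟩; exact ⟨⟨hxS, hx ▸ hane⟩, hx⟩
      · rintro ⟨⟨hxS, hxne⟩, hx⟩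
        exact ⟨⟨fun h => hxne (by rw [h, Submodule.coe_zero, H.zero_left]), hx⟩, hxS⟩
    rw [hC, hset, Set.ncard_coe_finset] at h
    exact ⟨_, h⟩
  obtain ⟨K, hK⟩ := hN
  have hsum : {x | x ∈ C 0 ∧ x ∈ S}.ncard + N.ncard + 1 = Nat.card S := by
    have hd : Disjoint {x | x ∈ C 0 ∧ x ∈ S} N :=
      Set.disjoint_left.2 fun x hx hx' => hx'.2 hx.1.2
    have hd' : (0 : perp2 H e f) ∉ {x | x ∈ C 0 ∧ x ∈ S} ∪ N := by
      rintro (⟨⟨h, -⟩, -⟩ | ⟨-, h⟩)
      · exact h rfl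
      · exact h (by rw [Submodule.coe_zero, H.zero_left])
    rw [← Set.ncard_union_eq hd, ← Set.ncard_insert_of_notMem hd',
      show Nat.card S = (S : Set (perp2 H e f)).ncard from Nat.card_coe_set_eq _]
    congr 1
    ext x
    constructor
    · rintro (rfl | ⟨-, h⟩ | ⟨h, -⟩)
      · exact S.zero_mem
      · exact h
      · exact h
    · intro hx
      by_cases h1 : x = 0
      · exact Or.inl h1
      by_cases h2 : H.h x.1 x.1 = 0
      · exact Or.inr (Or.inl ⟨⟨h1, h2⟩, hx⟩)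
      · exact Or.inr (Or.inr ⟨hx, h2⟩)
  obtain ⟨p, j, hpp, -, hqp⟩ := exists_charP_pow hQ.card
  have hdvd : Nat.card S ∣ q ^ 6 := by
    rw [show q ^ 6 = Nat.card (perp2 H e f) by rw [card_perp2' hQ, hm]]
    exact AddSubgroup.card_addSubgroup_dvd_card S
  rcases Arith.five_moved hpp hq hqp hdvd hR3 (AddSubgroup.one_lt_card_iff_ne_bot _ |>.2 hbot) ht
    h0 (K := K) (by rw [← hsum, Nat.add_sub_cancel, mul_add, hK]) with h | ⟨hR, hk1⟩
  · exact h
  exfalso
  have hpos : 0 < {x | x ∈ C 0 ∧ x ∈ S}.ncard := by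
    by_contra h
    have h' : {x | x ∈ C 0 ∧ x ∈ S}.ncard = 0 := by omega
    rw [h', hk1, mul_zero, mul_one] at h0
    have : 0 < (q ^ 3 + 1) * (q ^ 2 - 1) :=
      Nat.mul_pos (by omega) (by have := Nat.pow_le_pow_left hq 2; omega)
    omega
  obtain ⟨u, hu, huS⟩ := (Set.ncard_pos (Set.toFinite _)).1 hpos
  refine absurd_line hQ hm hR huS hu.1 hu.2 fun g hgu => ?_
  have hone : Nat.card {T : MulAction.orbit (Lz H e f) S // u ∈ (T : AddSubgroup _)} = 1 := by
    obtain ⟨g', hg'⟩ := htrans 0 v hv u hu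
    rw [← hk1, hk₀]
    refine (Nat.card_congr (Equiv.subtypeEquiv (MulAction.toPerm g') fun T => ?_)).symm
    show v ∈ (T : AddSubgroup _) ↔ u ∈ g' • (T : AddSubgroup _)
    rw [AddSubgroup.mem_pointwise_smul_iff_inv_smul_mem, ← hg', inv_smul_smul]
  obtain ⟨hss, -⟩ := Nat.card_eq_one_iff_unique.1 hone
  have h1 : u ∈ g⁻¹ • S := by
    rw [AddSubgroup.mem_pointwise_smul_iff_inv_smul_mem, inv_inv]; exact hgu
  have h2 := congrArg (fun T => (T.1 : AddSubgroup (perp2 H e f)))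
    (hss.elim ⟨⟨g⁻¹ • S, MulAction.mem_orbit _ _⟩, h1⟩ ⟨⟨S, MulAction.mem_orbit_self S⟩, huS⟩)
  exact (inv_smul_eq_iff.1 h2).symm

variable {Ω : Type*} [Finite Ω] [MulAction (rootGen H) Ω]

/-- The bound in dimension five. -/
theorem five_bound (hd : finrank F V = 5) [MulAction.IsPretransitive (rootGen H) Ω]
    (hΩ : 1 < Nat.card Ω) : (q ^ 5 + 1) * (q ^ 2 + 1) ≤ Nat.card Ω := by
  classical
  by_contra hsmall
  push Not at hsmall
  have hq := hQ.two_le
  haveI : Finite V := Module.finite_of_finite F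
  have hfd := finrank_perp2 hp.out
  have hm : finrank F (perp2 H e f) = 3 := by omega
  have hMle : {y : Ω | ¬ ZFix H e y}.ncard ≤ Nat.card Ω := Set.ncard_le_card _
  have hR : ∀ x : Ω, ¬ ZFix H e x → Rb H e f x = ⊥ := by
    intro x hx
    by_contra hbot
    have hM := card_moved_mul_ge hQ (f := f) (by omega) x hx
    have hR2 := card_Rb_sq_le (f := f) hx
    rw [card_perp2' hQ, hm] at hM hR2
    set R := Nat.card (Rb H e f x)
    have hRP : R ≤ q ^ 3 := by
      rw [show q ^ (2 * 3) = q ^ 3 * q ^ 3 by ring] at hR2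
      exact Nat.mul_self_le_mul_self_iff.1 hR2
    have h := translates_five hQ hm hbot hRP
    rw [← pow_succ] at hM
    exact absurd (Nat.le_of_mul_le_mul_right (le_trans h hM) Nat.card_pos) (by omega)
  obtain ⟨x₀, hx₀⟩ := exists_moved (e := e) (f := f) (H := H) (by omega) hΩ
  have hM0 := card_moved_mul_ge hQ (f := f) (by omega) x₀ hx₀
  rw [hR _ hx₀, AddSubgroup.card_bot, mul_one, card_perp2' hQ, hm, ← pow_succ] at hM0
  set M := {y : Ω | ¬ ZFix H e y}.ncard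
  have hM : q ^ 7 ≤ M := by
    refine le_trans (Nat.le_mul_of_pos_left _ ?_) hM0
    have : Nonempty (MulAction.orbit (Lz H e f) (⊥ : AddSubgroup (perp2 H e f))) :=
      ⟨⟨_, MulAction.mem_orbit_self _⟩⟩
    exact Nat.card_pos
  have htwo : Nat.card Ω < 2 * (Nat.card (perp2 H e f) * q) := by
    rw [card_perp2' hQ, hm, ← pow_succ]
    refine lt_of_lt_of_le hsmall ?_
    have h1 : q ^ 5 * 4 ≤ q ^ 5 * q ^ 2 :=
      Nat.mul_le_mul_left _ (le_trans (by norm_num) (Nat.pow_le_pow_left hq 2))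
    have h2 : q ^ 2 + 1 ≤ q ^ 5 + q ^ 5 :=
      Nat.add_le_add (Nat.pow_le_pow_right (by omega) (by norm_num)) (Nat.one_le_pow _ _ (by omega))
    ring_nf at h1 h2 ⊢
    omega
  obtain ⟨z, hz, hzS⟩ := exists_fixed_small hQ (f := f) (by omega) htwo hR hx₀
  set Fx := {x : Ω | ZFix H e x}.ncard with hFx
  have hsum : Fx + M = Nat.card Ω := by
    rw [hFx, show M = ({x : Ω | ZFix H e x}ᶜ : Set Ω).ncard from rfl]
    exact Set.ncard_add_ncard_compl _
  obtain ⟨χ, -, hχ⟩ := exists_char (H := H) (⊥ : AddSubgroup F) (fun h => by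
    have h1 := AddSubgroup.card_le_of_le h
    rw [card_skew hQ, AddSubgroup.card_bot] at h1
    omega)
  set S := annR χ (Rb H e f z) with hSdef
  have hRS := card_annR_mul hχ (Rb H e f z)
  set R := Nat.card (Rb H e f z)
  have hR0 : 0 < R := Nat.card_pos
  have hS : q ^ 2 ≤ Nat.card S := by
    refine Nat.le_of_mul_le_mul_left ?_ hR0
    rw [hRS, mul_comm]; exact hzS
  have htS : Nat.card (MulAction.orbit (Lz H e f) S) * Nat.card S ≤ Fx := by
    have h := card_fib_ge hQ (e := e) (f := f) z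
    rw [(zFix_iff e z).1 hz, card_skew hQ, ← card_orbit_annR hχ, ← hSdef,
      show {y : Ω | Wc (H := H) e y = skew H} = {x : Ω | ZFix H e x} from
        Set.ext fun y => (zFix_iff e y).symm] at h
    refine Nat.le_of_mul_le_mul_left ?_ (Nat.mul_pos hR0 (show 0 < q by omega))
    calc R * q * (Nat.card (MulAction.orbit (Lz H e f) S) * Nat.card S)
        = Nat.card (MulAction.orbit (Lz H e f) S) * (R * Nat.card S * q) := by ring
      _ ≤ Fx * (R * q) := by rw [hRS]; exact h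
      _ = R * q * Fx := by ring
  have hF : q ^ 2 * (q ^ 3 + 1) ≤ Fx := by
    rcases translates_bound hQ (by omega) hS with h | ⟨h2, h⟩ | ⟨hiso, hgt, -⟩
    · rw [isoCard_three hQ hm] at h
      refine Nat.le_of_mul_le_mul_right ?_
        (show 0 < q ^ 2 - 1 by have := Nat.pow_le_pow_left hq 2; omega)
      exact le_trans (le_trans (le_of_eq (mul_assoc _ _ _)) h) (Nat.mul_le_mul_right _ htS)
    · rw [valCard_three hQ hm (map_one _) one_ne_zero] at h
      have h' : 4 * (q ^ 2 * (q ^ 3 + 1)) ≤ 3 * Fx := le_trans h (Nat.mul_le_mul_left _ htS)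
      omega
    · exact absurd (card_le_sq_of_isotropic hQ hm hiso) (by omega)
  haveI : Nonempty Ω := ⟨x₀⟩
  obtain ⟨T, hT⟩ := exists_double_count (H := H) (e := e) (f := f) (by omega) (Ω := Ω)
  rw [← hFx] at hT
  have hI : ({v : V | v ≠ 0 ∧ H.h v v = 0}.ncard : ℤ) = ((q : ℤ) ^ 5 + 1) * ((q : ℤ) ^ 4 - 1) := by
    have h := card_iso_mul hQ (V := V)
    rw [hd] at h
    rw [← Nat.card_coe_set_eq]
    refine mul_left_cancel₀ (show (q : ℤ) ≠ 0 by omega) ?_
    simp only [Set.coe_setOf]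
    linear_combination h
  have hT' : (Nat.card Ω : ℤ) * T = ({v : V | v ≠ 0 ∧ H.h v v = 0}.ncard : ℤ) * Fx := by
    exact_mod_cast hT
  rw [hI] at hT'
  generalize Nat.card Ω = O at *
  have hO : (O : ℤ) = (q : ℤ) ^ 7 + (q : ℤ) ^ 5 + (q : ℤ) ^ 2 := by
    zify at hsmall hM hsum hF
    linarith
  have hFx' : (Fx : ℤ) = (q : ℤ) ^ 5 + (q : ℤ) ^ 2 := by
    zify at hsmall hM hsum hF
    linarith
  have hdvd : (O : ℤ) ∣ ((q : ℤ) ^ 2 - 1) * Fx :=
    ⟨(T : ℤ) - ((q : ℤ) ^ 2 - 1) * Fx, by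
      rw [mul_sub, hT', hO]; ring⟩
  have hq21 : (0 : ℤ) < (q : ℤ) ^ 2 - 1 := by nlinarith
  have hFpos : (0 : ℤ) < (Fx : ℤ) := by rw [hFx']; positivity
  have h := Int.le_of_dvd (mul_pos hq21 hFpos) hdvd
  rw [hO, hFx'] at h
  have h1 : (q : ℤ) ^ 4 ≤ (q : ℤ) ^ 5 := pow_le_pow_right₀ (by omega) (by norm_num)
  have h2 : (0 : ℤ) < (q : ℤ) ^ 5 := by positivity
  nlinarith

end CfsgLib.MinIndexPSU
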