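import Cfsg.Agent.Lib.MinIndexPSU.Elements
import Mathlib.Analysis.Fourier.FiniteAbelian.PontryaginDuality

/-!
Counting translates of a subgroup, and the annihilator pairing on the complement of a hyperbolic pair.
-/

set_option autoImplicit false
set_option linter.unusedSectionVars false

namespace CfsgLib.MinIndexPSU

open Module CfsgLib.Classical.Herm CfsgLib.Classical.Herm.HermSpace
open scoped Pointwise

section Cover

variable {G M : Type*} [Group G] [AddCommGroup M] [DistribMulAction G M] [Finite M]

theorem card_smul_addSubgroup (g : G) (S : AddSubgroup M) :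
    Nat.card (g • S : AddSubgroup M) = Nat.card S :=
  Nat.card_congr
    { toFun := fun m => ⟨g⁻¹ • m.1, AddSubgroup.mem_pointwise_smul_iff_inv_smul_mem.1 m.2⟩
      invFun := fun m => ⟨g • m.1, AddSubgroup.smul_mem_pointwise_smul m.1 g S m.2⟩
      left_inv := fun m => Subtype.ext (smul_inv_smul g m.1)
      right_inv := fun m => Subtype.ext (inv_smul_smul g m.1) }

/-- A set of non-zero vectors meeting the translates of `S` is small. -/
theorem card_cover (S : AddSubgroup M) (C : Set M)
    (hC : ∀ c ∈ C, c ≠ 0 ∧ ∃ g : G, c ∈ g • S) :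
    C.ncard ≤ Nat.card (MulAction.orbit G S) * (Nat.card S - 1) := by
  classical
  haveI : Finite (AddSubgroup M) := Finite.of_injective (fun S => (S : Set M)) SetLike.coe_injective
  have : Fintype (MulAction.orbit G S) := Fintype.ofFinite _
  let A := Σ T : MulAction.orbit G S, {m : M // m ∈ (T : AddSubgroup M) ∧ m ≠ 0}
  have hA : Nat.card A = Nat.card (MulAction.orbit G S) * (Nat.card S - 1) := by
    have hT : ∀ T : MulAction.orbit G S,
        Nat.card {m : M // m ∈ (T : AddSubgroup M) ∧ m ≠ 0} = Nat.card S - 1 := by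
      rintro ⟨_, g, rfl⟩
      rw [← card_smul_addSubgroup g S]
      have e : Option {m : M // m ∈ g • S ∧ m ≠ 0} ≃ (g • S : AddSubgroup M) :=
        { toFun := fun o => o.elim 0 fun m => ⟨m.1, m.2.1⟩
          invFun := fun m => if h : m.1 = 0 then none else some ⟨m.1, m.2, h⟩
          left_inv := fun o => by
            cases o with
            | none => simp
            | some m => simp [m.2.2]
          right_inv := fun m => by
            by_cases h : m.1 = 0
            · simp only [h, dite_true, Option.elim_none]; exact Subtype.ext h.symm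
            · simp [h] }
      rw [← Nat.card_congr e, Finite.card_option, Nat.add_sub_cancel]
    rw [Nat.card_sigma, Finset.sum_const_nat fun T _ => hT T, Finset.card_univ,
      ← Nat.card_eq_fintype_card]
  rw [← Nat.card_coe_set_eq, ← hA]
  refine Nat.card_le_card_of_injective (fun c =>
    (⟨⟨(Classical.choose (hC c.1 c.2).2) • S, MulAction.mem_orbit _ _⟩,
      ⟨c.1, Classical.choose_spec (hC c.1 c.2).2, (hC c.1 c.2).1⟩⟩ : A)) fun c c' h => Subtype.ext ?_
  exact congrArg (fun a : A => a.2.1) h

/-- A set of pairs contained in squares of translates of `S` is small. -/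
theorem card_cover_pairs (S : AddSubgroup M) (C : Set (M × M))
    (hC : ∀ c ∈ C, ∃ g : G, c.1 ∈ g • S ∧ c.2 ∈ g • S) :
    C.ncard ≤ Nat.card (MulAction.orbit G S) * (Nat.card S * Nat.card S) := by
  classical
  haveI : Finite (AddSubgroup M) := Finite.of_injective (fun S => (S : Set M)) SetLike.coe_injective
  have : Fintype (MulAction.orbit G S) := Fintype.ofFinite _
  let A := Σ T : MulAction.orbit G S, ↥T.1 × ↥T.1
  have hA : Nat.card A = Nat.card (MulAction.orbit G S) * (Nat.card S * Nat.card S) := by
    have hT : ∀ T : MulAction.orbit G S,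
        Nat.card (↥T.1 × ↥T.1) = Nat.card S * Nat.card S := by
      rintro ⟨_, g, rfl⟩
      rw [Nat.card_prod, ← card_smul_addSubgroup g S]
    rw [Nat.card_sigma, Finset.sum_const_nat fun T _ => hT T, Finset.card_univ,
      ← Nat.card_eq_fintype_card]
  rw [← Nat.card_coe_set_eq, ← hA]
  refine Nat.card_le_card_of_injective (fun c =>
    (⟨⟨(Classical.choose (hC c.1 c.2)) • S, MulAction.mem_orbit _ _⟩,
      ⟨⟨c.1.1, (Classical.choose_spec (hC c.1 c.2)).1⟩,
        ⟨c.1.2, (Classical.choose_spec (hC c.1 c.2)).2⟩⟩⟩ : A)) fun c c' h => Subtype.ext ?_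
  exact congrArg (fun a : A => (a.2.1.1, a.2.2.1)) h

end Cover

variable {F V : Type*} [Field F] [Fintype F] [AddCommGroup V] [Module F V] [FiniteDimensional F V]
  {H : HermSpace F V} {e f : V} [hp : Fact (IsHPair H e f)]

/-- A character trivial on `W` and not on the trace-zero elements. -/
theorem exists_char (W : AddSubgroup F) (hW : ¬ skew H ≤ W) :
    ∃ χ : AddChar F ℂ, (∀ c ∈ W, χ c = 1) ∧ ∃ c ∈ skew H, χ c ≠ 1 := by
  obtain ⟨c, hc, hcW⟩ := SetLike.not_le_iff_exists.1 hW
  obtain ⟨ψ, hψ⟩ := AddChar.exists_apply_ne_zero.2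
    (show (QuotientAddGroup.mk' W c) ≠ 0 from fun h => hcW ((QuotientAddGroup.eq_zero_iff c).1 h))
  refine ⟨ψ.compAddMonoidHom (QuotientAddGroup.mk' W), fun d hd => ?_, c, hc, hψ⟩
  show ψ (QuotientAddGroup.mk' W d) = 1
  rw [show QuotientAddGroup.mk' W d = 0 from (QuotientAddGroup.eq_zero_iff d).2 hd,
    AddChar.map_zero_eq_one]

/-- The alternating pairing of the radical composed with a character. -/
noncomputable def pairing (χ : AddChar F ℂ) (a : perp2 H e f) : AddChar (perp2 H e f) ℂ :=
  χ.compAddMonoidHom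
    { toFun := fun b => H.h a.1 b.1 - H.h b.1 a.1
      map_zero' := by simp [H.zero_left, H.zero_right]
      map_add' := fun b b' => by rw [Submodule.coe_add, H.add_left, H.add_right]; ring }

theorem pairing_apply (χ : AddChar F ℂ) (a b : perp2 H e f) :
    pairing χ a b = χ (H.h a.1 b.1 - H.h b.1 a.1) := rfl

theorem pairing_add (χ : AddChar F ℂ) (a a' : perp2 H e f) :
    pairing χ (a + a') = pairing χ a * pairing χ a' := by
  refine DFunLike.ext _ _ fun b => ?_
  rw [AddChar.mul_apply, pairing_apply, pairing_apply, pairing_apply, ← AddChar.map_add_eq_mul,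
    Submodule.coe_add, H.add_left, H.add_right]
  congr 1
  ring

theorem pairing_injective {χ : AddChar F ℂ} (hχ : ∃ c ∈ skew H, χ c ≠ 1) :
    Function.Injective (pairing (H := H) (e := e) (f := f) χ) := by
  obtain ⟨c, hc, hχc⟩ := hχ
  intro a a' h
  by_contra hne
  obtain ⟨b, hb⟩ := (res hp.out).exists_h_one (sub_ne_zero.2 hne)
  change H.h b.1 (a.1 - a'.1) = 1 at hb
  obtain ⟨t, ht⟩ := H.exists_trace_one
  have h1 := DFunLike.congr_fun h ((-(c * t)) • b)
  rw [pairing_apply, pairing_apply] at h1
  have e1 : H.h a.1 ((-(c * t)) • b : perp2 H e f).1 - H.h ((-(c * t)) • b : perp2 H e f).1 a.1 =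
      (H.h a'.1 ((-(c * t)) • b : perp2 H e f).1 - H.h ((-(c * t)) • b : perp2 H e f).1 a'.1) + c := by
    have hb' : H.h (a.1 - a'.1) b.1 = 1 := H.h_comm_one hb
    rw [H.sub_right] at hb
    rw [H.sub_left] at hb'
    simp only [Submodule.coe_smul, H.smul_left, H.smul_right, map_neg, map_mul]
    linear_combination (-(H.conj c * H.conj t)) * hb' + (c * t) * hb - H.conj t * (mem_skew.1 hc) +
      c * ht
  rw [e1, AddChar.map_add_eq_mul] at h1
  exact hχc ((mul_eq_left₀ (AddChar.val_isUnit _ _).ne_zero).1 h1)

theorem pairing_lz (χ : AddChar F ℂ) (g : Lz H e f) (a b : perp2 H e f) :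
    pairing χ (g • a) (g • b) = pairing χ a b := by
  rw [pairing_apply, pairing_apply, h_lz_smul, h_lz_smul]

/-- The annihilator of a subgroup. -/
noncomputable def annR (χ : AddChar F ℂ) (R : AddSubgroup (perp2 H e f)) :
    AddSubgroup (perp2 H e f) where
  carrier := {y | ∀ r ∈ R, pairing χ y r = 1}
  add_mem' {a b} ha hb r hr := by rw [pairing_add, AddChar.mul_apply, ha r hr, hb r hr, one_mul]
  zero_mem' r _ := by
    rw [pairing_apply, Submodule.coe_zero, H.zero_left, H.zero_right, sub_zero,
      AddChar.map_zero_eq_one]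
  neg_mem' {a} ha r hr := by
    rw [pairing_apply, Submodule.coe_neg, H.neg_left, H.neg_right, neg_sub_neg, ← neg_sub,
      AddChar.map_neg_eq_inv, ← pairing_apply, ha r hr, inv_one]

theorem mem_annR {χ : AddChar F ℂ} {R : AddSubgroup (perp2 H e f)} {y : perp2 H e f} :
    y ∈ annR χ R ↔ ∀ r ∈ R, pairing χ y r = 1 := Iff.rfl

theorem smul_annR (χ : AddChar F ℂ) (g : Lz H e f) (R : AddSubgroup (perp2 H e f)) :
    g • annR χ R = annR χ (g • R) := by
  ext y
  rw [AddSubgroup.mem_pointwise_smul_iff_inv_smul_mem, mem_annR, mem_annR]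
  refine ⟨fun h r hr => ?_, fun h r hr => ?_⟩
  · have := h _ ((AddSubgroup.mem_pointwise_smul_iff_inv_smul_mem).1 hr)
    rwa [pairing_lz] at this
  · rw [← pairing_lz χ g, smul_inv_smul]
    exact h _ (AddSubgroup.smul_mem_pointwise_smul r g R hr)

theorem card_annR {χ : AddChar F ℂ} (hχ : ∃ c ∈ skew H, χ c ≠ 1)
    (R : AddSubgroup (perp2 H e f)) : Nat.card (annR χ R) = Nat.card ((perp2 H e f) ⧸ R) := by
  classical
  haveI : Finite V := Module.finite_of_finite F
  have : Fintype (perp2 H e f) := Fintype.ofFinite _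
  have hbij : Function.Bijective (pairing (H := H) (e := e) (f := f) χ) :=
    (Fintype.bijective_iff_injective_and_card _).2 ⟨pairing_injective hχ, AddChar.card_eq.symm⟩
  let π := QuotientAddGroup.mk' R
  let T : annR χ R → AddChar ((perp2 H e f) ⧸ R) ℂ := fun y =>
    { toFun := Quotient.lift (fun r => pairing χ y.1 r) (by
        intro a b hab
        have hab' : -a + b ∈ R := QuotientAddGroup.leftRel_apply.1 hab
        calc pairing χ y.1 a = pairing χ y.1 a * pairing χ y.1 (-a + b) := by
              rw [y.2 _ hab', mul_one]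
          _ = pairing χ y.1 b := by rw [← AddChar.map_add_eq_mul, add_neg_cancel_left])
      map_zero_eq_one' := AddChar.map_zero_eq_one _
      map_add_eq_mul' := by
        intro a b
        induction a using QuotientAddGroup.induction_on with
        | _ a =>
          induction b using QuotientAddGroup.induction_on with
          | _ b => exact AddChar.map_add_eq_mul (pairing χ y.1) a b }
  have hT : Function.Bijective T := by
    constructor
    · intro y z h
      exact Subtype.ext (pairing_injective hχ
        (DFunLike.ext _ _ fun r => DFunLike.congr_fun h (π r)))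
    · intro c
      obtain ⟨y, hy⟩ := hbij.2 (c.compAddMonoidHom π)
      have hy' : ∀ r, pairing χ y r = c (π r) := fun r => DFunLike.congr_fun hy r
      refine ⟨⟨y, fun r hr => ?_⟩, DFunLike.ext _ _ fun x => ?_⟩
      · rw [hy', show π r = 0 from (QuotientAddGroup.eq_zero_iff r).2 hr, AddChar.map_zero_eq_one]
      · induction x using QuotientAddGroup.induction_on with
        | _ r => exact hy' r
  rw [Nat.card_congr (Equiv.ofBijective T hT)]
  have : Fintype ((perp2 H e f) ⧸ R) := Fintype.ofFinite _
  rw [Nat.card_eq_fintype_card, Nat.card_eq_fintype_card]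
  exact AddChar.card_eq

theorem card_annR_mul {χ : AddChar F ℂ} (hχ : ∃ c ∈ skew H, χ c ≠ 1)
    (R : AddSubgroup (perp2 H e f)) :
    Nat.card R * Nat.card (annR χ R) = Nat.card (perp2 H e f) := by
  rw [card_annR hχ, mul_comm]
  exact (AddSubgroup.card_eq_card_quotient_mul_card_addSubgroup R).symm

theorem annR_injective {χ : AddChar F ℂ} (hχ : ∃ c ∈ skew H, χ c ≠ 1) :
    Function.Injective (annR (H := H) (e := e) (f := f) χ) := by
  haveI : Finite V := Module.finite_of_finite F
  have key : ∀ R R' : AddSubgroup (perp2 H e f), annR χ R = annR χ R' → R ≤ R' := by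
    intro R R' h r hr
    by_contra hr'
    set R'' := R' ⊔ AddSubgroup.zmultiples r
    have hle : annR χ R' ≤ annR χ R'' := by
      intro y hy s hs
      have hle : R'' ≤ (AddMonoidHom.ker
          (AddChar.toAddMonoidHomEquiv (pairing χ y) : perp2 H e f →+ Additive ℂ)) := by
        refine sup_le (fun s hs => ?_) (AddSubgroup.zmultiples_le_of_mem ?_)
        · exact congrArg Additive.ofMul (hy s hs)
        · exact congrArg Additive.ofMul ((h ▸ hy : y ∈ annR χ R) r hr)
      exact Additive.ofMul.injective (hle hs)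
    have h1 := AddSubgroup.card_le_of_le hle
    rw [card_annR hχ, card_annR hχ, ← AddSubgroup.index_eq_card, ← AddSubgroup.index_eq_card] at h1
    have h2 := AddSubgroup.index_strictAnti (lt_of_le_of_ne le_sup_left fun e' =>
      hr' (e'.symm.le ((le_sup_right : AddSubgroup.zmultiples r ≤ R'') (AddSubgroup.mem_zmultiples r))))
    simp only [R''] at h1
    omega
  exact fun R R' h => le_antisymm (key R R' h) (key R' R h.symm)

theorem card_orbit_annR {χ : AddChar F ℂ} (hχ : ∃ c ∈ skew H, χ c ≠ 1)
    (R : AddSubgroup (perp2 H e f)) :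
    Nat.card (MulAction.orbit (Lz H e f) (annR χ R)) = Nat.card (MulAction.orbit (Lz H e f) R) := by
  rw [show MulAction.orbit (Lz H e f) (annR χ R) = annR χ '' MulAction.orbit (Lz H e f) R by
    rw [MulAction.orbit, MulAction.orbit, ← Set.range_comp]
    exact congrArg Set.range (funext fun g => smul_annR χ g R)]
  exact Nat.card_image_of_injective (annR_injective hχ) _

theorem card_sq_le {χ : AddChar F ℂ} (hχ : ∃ c ∈ skew H, χ c ≠ 1) {R : AddSubgroup (perp2 H e f)}
    (hR : ∀ a ∈ R, ∀ b ∈ R, χ (H.h a.1 b.1 - H.h b.1 a.1) = 1) :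
    Nat.card R * Nat.card R ≤ Nat.card (perp2 H e f) := by
  haveI : Finite V := Module.finite_of_finite F
  rw [← card_annR_mul hχ R]
  exact Nat.mul_le_mul_left _ (AddSubgroup.card_le_of_le (fun a ha b hb => hR a ha b hb))

end CfsgLib.MinIndexPSU
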