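import Cfsg.Agent.Lib.MinIndexPSU.Radical

/-!
Torus and Levi elements of the special unitary group relative to a hyperbolic pair.
-/

set_option autoImplicit false
set_option linter.unusedSectionVars false

namespace CfsgLib.MinIndexPSU

open Module CfsgLib.Classical.Herm CfsgLib.Classical.Herm.HermSpace

variable {F V : Type*} [Field F] [AddCommGroup V] [Module F V] [FiniteDimensional F V]
  {H : HermSpace F V}

/-- The quasi-reflection at an anisotropic vector with eigenvalue `μ`. -/
theorem exists_qrefl {y : V} (hy : H.h y y ≠ 0) {μ : F} (hμ : μ * H.conj μ = 1) :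
    ∃ g : Unit' H, (detHom H g : F) = μ ∧ g.1 y = μ • y ∧ ∀ x, H.h x y = 0 → g.1 x = x := by
  have hcond : ShearCond H y ((μ - 1) / H.h y y) := by
    unfold ShearCond
    rw [map_div₀, map_sub, map_one, H.conj_diag]
    field_simp
    linear_combination hμ
  refine ⟨shear H y _ hcond, ?_, ?_, fun x hx => ?_⟩
  · rw [detHom_shear, div_mul_cancel₀ _ hy]; ring
  · rw [shear_apply, div_mul_cancel₀ _ hy]; module
  · rw [shear_apply, hx, mul_zero, zero_smul, add_zero]

/-- The dilation of a hyperbolic pair. -/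
theorem exists_dil {e f : V} (p : IsHPair H e f) {t : F} (ht : t ≠ 0) :
    ∃ d : Unit' H, (detHom H d : F) = t * (H.conj t)⁻¹ ∧ d.1 e = t • e ∧
      d.1 f = (H.conj t)⁻¹ • f ∧ ∀ x, H.h x e = 0 → H.h x f = 0 → d.1 x = x := by
  have hct := H.conj_ne_zero ht
  have hfe : H.h f e = 1 := p.2.2
  have hef : H.h e f = 1 := H.h_comm_one p.2.2
  let D : F → (V →ₗ[F] V) := fun s =>
    (LinearMap.transvection ((s - 1) • H.form f) e) ∘ₗ
      (LinearMap.transvection (((H.conj s)⁻¹ - 1) • H.form e) f)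
  have hD : ∀ (s : F) x,
      D s x = x + ((s - 1) * H.h x f) • e + (((H.conj s)⁻¹ - 1) * H.h x e) • f := fun s x => by
    simp [D, LinearMap.transvection.apply, H.add_left, H.smul_left, p.2.1]
    module
  have hcomp : ∀ s x, s ≠ 0 → D s (D s⁻¹ x) = x := fun s x hs => by
    have hcs := H.conj_ne_zero hs
    simp only [hD, H.add_left, H.smul_left, p.1, p.2.1, hfe, hef, map_inv₀, inv_inv]
    match_scalars <;> field_simp <;> ring
  let d : V ≃ₗ[F] V := LinearEquiv.ofLinearMap (D t) (D t⁻¹) (LinearMap.ext fun x => hcomp t x ht)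
    (LinearMap.ext fun x => by
      have := hcomp t⁻¹ x (inv_ne_zero ht)
      rwa [inv_inv] at this)
  have hdapp : ∀ x, d x = D t x := fun _ => rfl
  refine ⟨⟨d, fun x y => ?_⟩, ?_, ?_, ?_, fun x h1 h2 => ?_⟩
  · simp only [hdapp, hD, H.add_left, H.add_right, H.smul_left, H.smul_right, p.1, p.2.1, hfe, hef,
      map_mul, map_sub, map_one, map_inv₀, H.conj_conj, H.symm']
    field_simp
    ring
  · show (LinearEquiv.det d : F) = _
    rw [LinearEquiv.coe_det, show (d : V →ₗ[F] V) = D t from rfl]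
    simp only [D, LinearMap.det_comp, LinearMap.transvection.det, LinearMap.smul_apply,
      HermSpace.form_apply, smul_eq_mul, hfe, hef, mul_one]
    ring
  · show d e = t • e
    rw [hdapp, hD, p.1, hef]
    module
  · show d f = (H.conj t)⁻¹ • f
    rw [hdapp, hD, p.2.1, hfe]
    module
  · show d x = x
    rw [hdapp, hD, h1, h2]
    module

/-- A norm-one scalar as an isometry. -/
theorem exists_scalar {μ : F} (hμ : μ * H.conj μ = 1) :
    ∃ g : Unit' H, (detHom H g : F) = μ ^ finrank F V ∧ ∀ x, g.1 x = μ • x := by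
  let u : Fˣ := Units.mk0 μ (left_ne_zero_of_mul_eq_one hμ)
  let g : Unit' H := ⟨LinearEquiv.smulOfUnit u, fun x y => by
    show H.h ((u : F) • x) ((u : F) • y) = _
    rw [H.smul_left, H.smul_right, ← mul_assoc]
    change μ * H.conj μ * _ = _
    rw [hμ, one_mul]⟩
  refine ⟨g, ?_, fun x => rfl⟩
  show (LinearEquiv.det g.1 : F) = _
  rw [LinearEquiv.coe_det, show (g.1 : V →ₗ[F] V) = μ • LinearMap.id from LinearMap.ext fun x => rfl,
    LinearMap.det_smul, LinearMap.det_id, mul_one]

/-- An isometry of determinant one as a member of the root group. -/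
theorem exists_rootGen (hB : Big H) {e f : V} (p : IsHPair H e f) (g : Unit' H)
    (hg : (detHom H g : F) = 1) : ∃ k : rootGen H, k.1 = g :=
  ⟨⟨g, by rw [rootGen_eq_ker_det hB p, MonoidHom.mem_ker]; exact Units.ext hg⟩, rfl⟩

variable {e f : V} [hp : Fact (IsHPair H e f)]

/-- Every torus multiplier is attained. -/
theorem exists_lev (hB : Big H) {t : F} (ht : t ≠ 0) : ∃ g : rootGen H, Lev g e f t := by
  have hct := H.conj_ne_zero ht
  obtain ⟨d, hd, hde, hdf, -⟩ := exists_dil hp.out ht
  obtain ⟨y, hye, hyf, hyy⟩ := exists_unit_orth hB hp.out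
  obtain ⟨s, hs, -, hsfix⟩ := exists_qrefl (y := y) (by rw [hyy]; exact one_ne_zero)
    (μ := H.conj t / t) (by rw [map_div₀, H.conj_conj]; field_simp)
  obtain ⟨k, hk⟩ := exists_rootGen hB hp.out (d * s) (by
    rw [map_mul, Units.val_mul, hd, hs]; field_simp)
  refine ⟨k, ?_, ?_⟩ <;> rw [hk, mul_apply]
  · rw [hsfix e (H.h_comm_zero hye), hde]
  · rw [hsfix f (H.h_comm_zero hyf), hdf]

/-- The Levi elements with norm-one multiplier. -/
def Lz (H : HermSpace F V) (e f : V) [hp : Fact (IsHPair H e f)] : Subgroup (rootGen H) where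
  carrier := {g | ∃ ζ, ζ * H.conj ζ = 1 ∧ Lev g e f ζ}
  mul_mem' := by
    rintro g g' ⟨a, ha, h1, h2⟩ ⟨b, hb, h1', h2'⟩
    refine ⟨a * b, by rw [map_mul]; linear_combination b * H.conj b * ha + hb, ?_, ?_⟩
    · rw [Subgroup.coe_mul, mul_apply, h1', map_smul, h1, smul_smul, mul_comm]
    · rw [Subgroup.coe_mul, mul_apply, h2', map_smul, h2, smul_smul, map_mul, mul_inv, mul_comm]
  one_mem' := ⟨1, by simp, by simp [Lev]⟩
  inv_mem' := by
    rintro g ⟨a, ha, h⟩
    exact ⟨a⁻¹, by rw [map_inv₀, ← mul_inv, ha, inv_one], h.inv⟩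

/-- The multiplier of a Levi element. -/
def coef (g : Lz H e f) : F := H.h (g.1.1.1 e) f

theorem coef_spec (g : Lz H e f) :
    coef g * H.conj (coef g) = 1 ∧ Lev g.1 e f (coef g) := by
  obtain ⟨a, ha, h⟩ := g.2
  have : coef g = a := by rw [coef, h.1, H.smul_left, h_e_f hp.out, mul_one]
  rw [this]
  exact ⟨ha, h⟩

theorem coef_mul (g g' : Lz H e f) : coef (g * g') = coef g * coef g' := by
  rw [coef, Subgroup.coe_mul, Subgroup.coe_mul, mul_apply, (coef_spec g').2.1, map_smul,
    (coef_spec g).2.1, H.smul_left, H.smul_left, h_e_f hp.out]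
  ring

theorem coef_one : coef (1 : Lz H e f) = 1 := h_e_f hp.out

noncomputable instance : DistribMulAction (Lz H e f) (perp2 H e f) where
  smul g a := (coef_spec g).2.act a
  one_smul a := Subtype.ext (by
    show H.conj (coef (1 : Lz H e f)) • (1 : Lz H e f).1.1.1 a.1 = a.1
    rw [coef_one, map_one, one_smul]; rfl)
  mul_smul g g' a := Subtype.ext (by
    show H.conj (coef (g * g')) • (g * g').1.1.1 a.1 =
      H.conj (coef g) • g.1.1.1 (H.conj (coef g') • g'.1.1.1 a.1)
    rw [coef_mul, map_mul, Subgroup.coe_mul, Subgroup.coe_mul, mul_apply, map_smul, smul_smul])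
  smul_zero g := Subtype.ext (by
    show H.conj (coef g) • g.1.1.1 (0 : V) = 0
    rw [map_zero, smul_zero])
  smul_add g a b := Subtype.ext (by
    show H.conj (coef g) • g.1.1.1 (a.1 + b.1) =
      H.conj (coef g) • g.1.1.1 a.1 + H.conj (coef g) • g.1.1.1 b.1
    rw [map_add, smul_add])

theorem lz_smul (g : Lz H e f) (a : perp2 H e f) : g • a = (coef_spec g).2.act a := rfl

theorem lz_smul_coe (g : Lz H e f) (a : perp2 H e f) :
    ((g • a : perp2 H e f) : V) = H.conj (coef g) • g.1.1.1 a.1 := rfl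

theorem h_lz_smul (g : Lz H e f) (a b : perp2 H e f) :
    H.h (g • a : perp2 H e f).1 (g • b : perp2 H e f).1 = H.h a.1 b.1 := by
  rw [lz_smul_coe, lz_smul_coe, H.smul_left, H.smul_right, unit_h, H.conj_conj]
  linear_combination H.h a.1 b.1 * (coef_spec g).1

/-- Elements fixing the pair are Levi elements acting as themselves. -/
theorem exists_lz {g : rootGen H} (he : g.1.1 e = e) (hf : g.1.1 f = f) :
    ∃ k : Lz H e f, k.1 = g ∧ ∀ a : perp2 H e f, ((k • a : perp2 H e f) : V) = g.1.1 a.1 := by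
  have h : Lev g e f 1 := ⟨by rw [he, one_smul], by rw [hf, map_one, inv_one, one_smul]⟩
  refine ⟨⟨g, 1, by simp, h⟩, rfl, fun a => ?_⟩
  rw [lz_smul_coe]
  show H.conj (H.h (g.1.1 e) f) • g.1.1 a.1 = _
  rw [he, h_e_f hp.out, map_one, one_smul]

/-- The root group of the complement acts as Levi elements. -/
noncomputable def extLz : rootGen (res hp.out) →* Lz H e f :=
  (extR hp.out).codRestrict _ fun g => ⟨1, by simp,
    by rw [extR_coe, ext_left, one_smul], by rw [extR_coe, ext_right, map_one, inv_one, one_smul]⟩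

theorem extLz_smul (g : rootGen (res hp.out)) (a : perp2 H e f) : extLz g • a = g.1.1 a := by
  refine Subtype.ext ?_
  rw [lz_smul_coe]
  show H.conj (H.h ((extR hp.out g).1.1 e) f) • (extR hp.out g).1.1 a.1 = _
  rw [extR_coe, ext_left, h_e_f hp.out, map_one, one_smul, ext_coe]

/-- The Levi elements are transitive on complement vectors of a non-zero value. -/
theorem exists_lz_value (hd : 4 ≤ finrank F V) {u w : perp2 H e f}
    (hne : H.h u.1 u.1 ≠ 0) (he : H.h u.1 u.1 = H.h w.1 w.1) : ∃ k : Lz H e f, k • u = w := by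
  have hB := big_of_finrank (H := H) (by omega)
  obtain ⟨g, hg⟩ := exists_map_value (H := res hp.out) (u := u) (w := w) hne he
  have hw : H.h w.1 w.1 ≠ 0 := by rwa [← he]
  obtain ⟨z₀, hz₀, hz₀w⟩ : ∃ z : perp2 H e f, z ≠ 0 ∧ H.h z.1 w.1 = 0 := by
    have h1 := LinearMap.finrank_range_add_finrank_ker ((res hp.out).form w)
    have h2 := Submodule.finrank_le (LinearMap.range ((res hp.out).form w))
    rw [finrank_self] at h2
    have h3 := finrank_perp2 hp.out
    obtain ⟨z, hz, hz0⟩ := Submodule.exists_mem_ne_zero_of_ne_bot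
      (p := LinearMap.ker ((res hp.out).form w)) (by
        intro h0
        rw [h0, finrank_bot] at h1
        omega)
    exact ⟨z, hz0, hz⟩
  obtain ⟨y, hy, hyy⟩ := (res hp.out).exists_value_in {z | H.h z.1 w.1 = 0}
    (fun z => z + (-(H.h z.1 w.1 / H.h w.1 w.1)) • w)
    (fun z => by
      show H.h ((z + _ • w : perp2 H e f) : V) w.1 = 0
      rw [Submodule.coe_add, Submodule.coe_smul, H.add_left, H.smul_left]
      field_simp
      ring)
    (fun z a ha => by
      rw [res_h, res_h, Submodule.coe_add, Submodule.coe_smul, H.add_left, H.smul_left,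
        H.h_comm_zero ha]
      ring)
    (fun a ha b hb c => by
      show H.h ((a + c • b : perp2 H e f) : V) w.1 = 0
      rw [Submodule.coe_add, Submodule.coe_smul, H.add_left, H.smul_left,
        show H.h a.1 w.1 = 0 from ha, show H.h b.1 w.1 = 0 from hb]
      ring)
    (fun a ha c => by
      show H.h ((c • a : perp2 H e f) : V) w.1 = 0
      rw [Submodule.coe_smul, H.smul_left, show H.h a.1 w.1 = 0 from ha, mul_zero])
    (e₀ := z₀) hz₀w hz₀ (c := 1) (map_one _)
  have hyw : H.h y.1 w.1 = 0 := hy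
  set D := (detHom H (ext hp.out g) : F)
  have hD : D * H.conj D = 1 := det_norm_one _
  obtain ⟨s, hs, -, hsfix⟩ := exists_qrefl (y := y.1)
    (by rw [show H.h y.1 y.1 = 1 from hyy]; exact one_ne_zero) (μ := D⁻¹)
    (by rw [map_inv₀, ← mul_inv, hD, inv_one])
  obtain ⟨k, hk⟩ := exists_rootGen hB hp.out (s * ext hp.out g) (by
    rw [map_mul, Units.val_mul, hs]
    exact inv_mul_cancel₀ (left_ne_zero_of_mul_eq_one hD))
  obtain ⟨z, -, hz⟩ := exists_lz (e := e) (f := f) (g := k)
    (by rw [hk, mul_apply, ext_left, hsfix e (H.h_comm_zero (mem_perp2.1 y.2).1)])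
    (by rw [hk, mul_apply, ext_right, hsfix f (H.h_comm_zero (mem_perp2.1 y.2).2)])
  refine ⟨z, Subtype.ext ?_⟩
  rw [hz, hk, mul_apply, ext_coe, hg, hsfix _ (H.h_comm_zero hyw)]

/-- The Levi elements are transitive on non-zero isotropic complement vectors. -/
theorem exists_lz_iso (hd : 5 ≤ finrank F V) {u w : perp2 H e f} (hu : u ≠ 0) (hw : w ≠ 0)
    (huu : H.h u.1 u.1 = 0) (hww : H.h w.1 w.1 = 0) : ∃ k : Lz H e f, k • u = w := by
  have h3 := finrank_perp2 hp.out
  obtain ⟨g, hg, hgu⟩ := rootGen_transitive (H := res hp.out) (big_of_finrank (by omega))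
    (u := u) (w := w) huu hu hww hw
  exact ⟨extLz ⟨g, hg⟩, by rw [extLz_smul]; exact hgu⟩

end CfsgLib.MinIndexPSU
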