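import Cfsg.Agent.Lib.MinIndexPSU.OddLine
import Mathlib.GroupTheory.Transfer

/-!
The last plane case: `q = 11`, index 484.
-/

set_option autoImplicit false

namespace CfsgLib.MinIndexPSU

open Module CfsgLib.Classical.Herm CfsgLib.Classical.Herm.HermSpace

variable {F V : Type*} [Field F] [AddCommGroup V] [Module F V] [FiniteDimensional F V]
  {H : HermSpace F V} [Fintype F] (hd : finrank F V = 3)
include hd

theorem no_eleven (hF : Fintype.card F = 11 ^ 2) (hc : ∀ a, H.conj a = a ^ 11)
    (M : Subgroup (Unit' H)) (hM : M ≤ (detHom H).ker)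
    (hn : M.relIndex (detHom H).ker ≤ 11 ^ 3) (hn' : M.relIndex (detHom H).ker ≠ 11 ^ 3)
    (hZ : ∀ Φ : Frame H, Φ.Z M = ⊥) (Φ : Frame H) (hΦ : Φ.Adapted hd M) : False := by
  classical
  obtain ⟨-, -, -, hk, -⟩ :=
    line_numbers hd hF hc M hM hn hn' hZ (by norm_num) (by norm_num) Φ
  have hidx := line_index hd hF hc M hM hn hn' hZ (by norm_num) (by norm_num) Φ
  have hneg := line_neg_one hd hF hc M hM hn hn' hZ (by norm_num) (by norm_num) Φ
  have h2 := line_char hd hF hc M hM hn hn' hZ (by norm_num) (by norm_num) Φ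
  have hK2 : 2 ∣ Nat.card (Φ.K M) := by
    have h : orderOf (⟨-1, hneg⟩ : Φ.K M) = 2 := by
      rw [Subgroup.orderOf_mk]
      refine orderOf_eq_prime (by rw [neg_one_sq]) fun he => h2 ?_
      have := congrArg (fun u : Fˣ => (u : F)) he
      simp only [Units.val_neg, Units.val_one] at this
      linear_combination -this
    rw [← h]
    exact orderOf_dvd_natCard _
  have hK : Nat.card (Φ.K M) = 30 := by omega
  rw [hK] at hidx
  have hn484 : M.relIndex (detHom H).ker = 484 := by omega
  have hcard := card_mul_relIndex hd hF hc M hM Φ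
  rw [hn484] at hcard
  have hM' : Nat.card M = 439560 := by omega
  have := finite_unit' (H := H) hd
  have : Fact (Nat.Prime 37) := ⟨by norm_num⟩
  obtain ⟨P⟩ := (inferInstance : Nonempty (Sylow 37 M))
  have hP : Nat.card (P : Subgroup M) = 37 := by
    rw [P.card_eq_multiplicity, hM', show (439560 : ℕ) = 37 * 11880 by norm_num,
      Nat.factorization_mul (by norm_num) (by norm_num), Finsupp.add_apply,
      Nat.Prime.factorization_self (by norm_num),
      Nat.factorization_eq_zero_of_not_dvd (by norm_num), add_zero, pow_one]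
  obtain ⟨⟨x, hxP⟩, hxo⟩ := exists_prime_orderOf_dvd_card' (G := (P : Subgroup M)) 37 (by rw [hP])
  rw [Subgroup.orderOf_mk] at hxo
  have hxo' : orderOf (x : Unit' H) = 37 := by rw [Subgroup.orderOf_coe]; exact hxo
  have hnl : ∀ w : V, w ≠ 0 → ∀ c : F, (x : Unit' H).1 w ≠ c • w := fun w hw c =>
    no_fixed_line hd hF hc (hM x.2) (by norm_num) hxo' (by norm_num) (by norm_num) hw c
  have hPx : Subgroup.zpowers x = (P : Subgroup M) := by
    refine Subgroup.eq_of_le_of_card_ge (Subgroup.zpowers_le.2 hxP) ?_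
    rw [Nat.card_zpowers, hxo, hP]
  have : Nontrivial V := Module.nontrivial_of_finrank_pos (R := F) (by omega)
  -- a scalar of order three
  have : Fact (Nat.Prime 3) := ⟨Nat.prime_three⟩
  obtain ⟨⟨s, hs⟩, hso⟩ := exists_prime_orderOf_dvd_card' (G := Φ.K M) 3 (by rw [hK]; norm_num)
  rw [Subgroup.orderOf_mk] at hso
  set w : M := ⟨Φ.tor hd s, hΦ s hs⟩ with hw
  have hs3 : (s : F) ^ 3 = 1 := by
    rw [← Units.val_pow_eq_pow_val, ← hso, pow_orderOf_eq_one, Units.val_one]
  have hsc : ∀ v : V, (Φ.tor hd s).1 v = (s : F) • v := by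
    intro v
    have hcs : H.conj (s : F) = (s : F) ^ 2 := by
      rw [hc, show 11 = 3 * 3 + 2 from rfl, pow_add, pow_mul, hs3, one_pow, one_mul]
    have hinv : (H.conj (s : F))⁻¹ = (s : F) :=
      inv_eq_of_mul_eq_one_left (by rw [hcs]; linear_combination hs3)
    rw [Φ.tor_apply, Frame.torFun, hinv, hcs, pow_two, mul_div_assoc, div_self s.ne_zero, mul_one]
    conv_rhs => rw [Φ.eq_vec hd v]
    simp only [Frame.vec, smul_add, smul_smul]
  have hwc : ∀ m : M, w * m = m * w := fun m => Subtype.ext (unit_ext fun v => by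
    show (Φ.tor hd s).1 ((m : Unit' H).1 v) = (m : Unit' H).1 ((Φ.tor hd s).1 v)
    rw [hsc, hsc, map_smul])
  have hwo : orderOf w = 3 := by
    refine orderOf_eq_prime ?_ ?_
    · refine Subtype.ext ?_
      rw [Subgroup.coe_pow]
      show Φ.tor hd s ^ 3 = 1
      rw [Φ.tor_pow, ← hso, pow_orderOf_eq_one, Φ.tor_one hd]
    · intro he
      have h := hsc Φ.e
      rw [show Φ.tor hd s = 1 from congrArg Subtype.val he, one_apply] at h
      have h' : ((s : F) - 1) • Φ.e = 0 := by rw [sub_smul, ← h, one_smul, sub_self]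
      have := Units.ext (sub_eq_zero.1 ((smul_eq_zero.1 h').resolve_right Φ.e_ne) : (s : F) = (1 : Fˣ))
      rw [this, orderOf_one] at hso
      omega
  -- the normaliser of `P` centralises it
  set N := Subgroup.normalizer (P : Set M) with hNdef
  have hconj : ∀ y ∈ N, ∃ i < 37, x ^ i = y * x * y⁻¹ := by
    intro y hy
    have h := (Subgroup.mem_normalizer_iff.1 hy x).1 hxP
    rw [← hPx] at h
    have h' := (isOfFinOrder_of_finite x).mem_zpowers_iff_mem_range_orderOf.1 h
    rw [hxo, Finset.mem_image] at h'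
    obtain ⟨i, hi, he⟩ := h'
    exact ⟨i, Finset.mem_range.1 hi, he⟩
  have hN : N ≤ Subgroup.centralizer (P : Set M) := by
    have hns : Nat.card (Sylow 37 M) = 1 ∨ Nat.card (Sylow 37 M) = 297 ∨
        Nat.card (Sylow 37 M) = 3960 := by
      have h1 := P.card_dvd_index
      have h2 : (P : Subgroup M).index = 11880 := by
        have := (P : Subgroup M).index_mul_card
        rw [hP, hM'] at this
        omega
      rw [h2] at h1
      have h3 : Nat.card (Sylow 37 M) % 37 = 1 := card_sylow_modEq_one 37 M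
      obtain ⟨r, hr⟩ := h1
      have hd' : Nat.card (Sylow 37 M) ∈ Nat.divisors 11880 := Nat.mem_divisors.2 ⟨⟨r, hr⟩, by norm_num⟩
      have key : ∀ a ∈ Finset.range 322, (11880 % (37 * a + 1) = 0) → a = 0 ∨ a = 8 ∨ a = 107 := by
        decide +kernel
      obtain ⟨a, ha⟩ : ∃ a, Nat.card (Sylow 37 M) = 37 * a + 1 :=
        ⟨Nat.card (Sylow 37 M) / 37, by omega⟩
      have hle := Nat.divisor_le hd'
      rcases key a (Finset.mem_range.2 (by omega))
        (Nat.mod_eq_zero_of_dvd (ha ▸ ⟨r, hr⟩)) with rfl | rfl | rfl <;> omega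
    have hidxN := N.index_mul_card
    rw [← P.card_eq_index_normalizer, hM'] at hidxN
    by_cases h5 : 5 ∣ Nat.card N
    · exfalso
      have : Fact (Nat.Prime 5) := ⟨Nat.prime_five⟩
      obtain ⟨⟨y, hy⟩, hyo⟩ := exists_prime_orderOf_dvd_card' (G := N) 5 h5
      rw [Subgroup.orderOf_mk] at hyo
      have hy5 : y ^ 5 = 1 := by rw [← hyo]; exact pow_orderOf_eq_one y
      obtain ⟨i, hi37, hi⟩ := hconj y hy
      have hii : x ^ (i ^ 5) = x ^ 1 := by
        rw [← conj_pow_eq hi.symm 5, hy5, pow_one]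
        group
      rw [pow_eq_pow_iff_modEq, hxo] at hii
      have key : ∀ i < 37, i ^ 5 % 37 = 1 → i = 1 := by decide +kernel
      rw [key i hi37 hii, pow_one, eq_mul_inv_iff_mul_eq] at hi
      have hcomm : (y : Unit' H) * x = x * y := (congrArg Subtype.val hi.symm :)
      have hy5u : (y : Unit' H) ^ 5 = 1 := by rw [← Subgroup.coe_pow, hy5]; rfl
      obtain ⟨v, hv0, c, hv⟩ := exists_eigen_of_pow (H := H) hF (y : Unit' H) (m := 5) (by norm_num) hy5u
      have h' := scalar_eq_one hd Φ (hM y.2) (scalar_of_commute hd hnl hcomm hv0 hv) (m := 5)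
        (by norm_num) hy5u
      rw [show y = 1 from Subtype.ext h', orderOf_one] at hyo
      omega
    · have hN111 : Nat.card N = 111 := by
        rcases hns with h | h | h <;> rw [h] at hidxN <;> omega
      have hcop : Nat.Coprime (orderOf x) (orderOf w) := by rw [hxo, hwo]; norm_num
      have hxw : orderOf (x * w) = 111 := by
        rw [Commute.orderOf_mul_eq_mul_orderOf_of_coprime (hwc x).symm hcop, hxo, hwo]
      have hwC : w ∈ Subgroup.centralizer (P : Set M) :=
        Subgroup.mem_centralizer_iff.2 fun m _ => (hwc m).symm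
      have hxC : x ∈ Subgroup.centralizer (P : Set M) := by
        refine Subgroup.mem_centralizer_iff.2 fun m hm => ?_
        replace hm : m ∈ (P : Subgroup M) := hm
        rw [← hPx] at hm
        obtain ⟨i, rfl⟩ := Subgroup.mem_zpowers_iff.1 hm
        exact (Commute.zpow_self x i).eq
      have hsub : Subgroup.zpowers (x * w) ≤ N := Subgroup.zpowers_le.2
        (Subgroup.centralizer_le_normalizer _ (mul_mem hxC hwC))
      rw [← Subgroup.eq_of_le_of_card_ge hsub (by rw [Nat.card_zpowers, hxw, hN111])]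
      exact Subgroup.zpowers_le.2 (mul_mem hxC hwC)
  -- the normal complement
  set Kc := (MonoidHom.transferSylow P hN).ker with hKc
  have hKP := MonoidHom.ker_transferSylow_isComplement' P hN
  have hKcard : Nat.card Kc = 11880 := by
    have h := hKP.card_mul
    rw [hP, hM'] at h
    change Nat.card Kc * 37 = 439560 at h
    omega
  have : Fact (Nat.Prime 11) := ⟨by norm_num⟩
  obtain ⟨Q⟩ := (inferInstance : Nonempty (Sylow 11 Kc))
  have hQ : Nat.card (Q : Subgroup Kc) = 11 := by
    rw [Q.card_eq_multiplicity, hKcard, show (11880 : ℕ) = 11 * 1080 by norm_num,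
      Nat.factorization_mul (by norm_num) (by norm_num), Finsupp.add_apply,
      Nat.Prime.factorization_self (by norm_num),
      Nat.factorization_eq_zero_of_not_dvd (by norm_num), add_zero, pow_one]
  set R : Subgroup M := (Q : Subgroup Kc).map Kc.subtype with hR
  have hRc : Nat.card R = 11 := by
    rw [hR, Subgroup.card_map_of_injective Kc.subtype_injective, hQ]
  have hsup := Sylow.normalizer_sup_eq_top (N := Kc) Q
  set NR := Subgroup.normalizer (R : Set M) with hNR
  have h37 : 37 ∣ Nat.card NR := by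
    by_contra h
    have hle : NR ≤ Kc := by
      intro y hy
      have ho : (MonoidHom.transferSylow P hN) y = 1 := by
        rw [← orderOf_eq_one_iff]
        have h1 : orderOf ((MonoidHom.transferSylow P hN) y) ∣ 37 :=
          (orderOf_dvd_natCard _).trans (dvd_of_eq hP)
        have h2 : orderOf ((MonoidHom.transferSylow P hN) y) ∣ Nat.card NR :=
          (orderOf_map_dvd _ y).trans (NR.orderOf_dvd_natCard hy)
        rcases (Nat.dvd_prime (by norm_num)).1 h1 with h' | h'
        · exact h'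
        · exact absurd (h' ▸ h2) h
      exact MonoidHom.mem_ker.2 ho
    have : Kc = ⊤ := by rw [← hsup]; exact le_antisymm le_sup_right (sup_le hle le_rfl)
    rw [this, Subgroup.card_top] at hKcard
    omega
  obtain ⟨⟨y, hy⟩, hyo⟩ := exists_prime_orderOf_dvd_card' (G := NR) 37 h37
  rw [Subgroup.orderOf_mk] at hyo
  have hyo' : orderOf (y : Unit' H) = 37 := by rw [Subgroup.orderOf_coe]; exact hyo
  have hnly : ∀ v : V, v ≠ 0 → ∀ c : F, (y : Unit' H).1 v ≠ c • v := fun v hv c =>
    no_fixed_line hd hF hc (hM y.2) (by norm_num) hyo' (by norm_num) (by norm_num) hv c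
  obtain ⟨⟨u, huR⟩, huo⟩ := exists_prime_orderOf_dvd_card' (G := R) 11 (by rw [hRc])
  rw [Subgroup.orderOf_mk] at huo
  have hRu : Subgroup.zpowers u = R := Subgroup.eq_of_le_of_card_ge (Subgroup.zpowers_le.2 huR)
    (by rw [Nat.card_zpowers, huo, hRc])
  have hyu := (Subgroup.mem_normalizer_iff.1 hy u).1 huR
  rw [← hRu] at hyu
  have h' := (isOfFinOrder_of_finite u).mem_zpowers_iff_mem_range_orderOf.1 hyu
  rw [huo, Finset.mem_image] at h'
  obtain ⟨i, hi11, hi⟩ := h'
  have hy37 : y ^ 37 = 1 := by rw [← hyo]; exact pow_orderOf_eq_one y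
  have hii : u ^ (i ^ 37) = u ^ 1 := by
    rw [← conj_pow_eq hi.symm 37, hy37, pow_one]
    group
  rw [pow_eq_pow_iff_modEq, huo] at hii
  have key : ∀ i < 11, i ^ 37 % 11 = 1 → i = 1 := by decide +kernel
  rw [key i (Finset.mem_range.1 hi11) hii, pow_one, eq_mul_inv_iff_mul_eq] at hi
  have hcomm : (u : Unit' H) * y = y * u := (congrArg Subtype.val hi :)
  have hu11 : (u : Unit' H) ^ 11 = 1 := by
    rw [← Subgroup.coe_pow, ← huo, pow_orderOf_eq_one]; rfl
  obtain ⟨p, f, hp, hf0, hqf, hchar⟩ := exists_prime_pow' hF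
  have hp11 : p = 11 := (Nat.prime_dvd_prime_iff_eq hp (by norm_num)).1 (hqf ▸ dvd_pow_self p hf0.ne')
  subst hp11
  obtain ⟨v, hv0, hv⟩ := exists_fixed_of_pow_char (p := 11) (u : Unit' H) hu11
  have hu1 := scalar_eq_one hd Φ (hM u.2)
    (scalar_of_commute hd hnly hcomm hv0 (c := 1) (by rw [hv, one_smul])) (m := 11) (by norm_num) hu11
  rw [show u = 1 from Subtype.ext hu1, orderOf_one] at huo
  omega

end CfsgLib.MinIndexPSU
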