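import Cfsg.Agent.Lib.MinIndexPSU.Borel
import Mathlib.LinearAlgebra.Eigenspace.Minpoly
import Mathlib.FieldTheory.Finite.Basic
import Mathlib.GroupTheory.Perm.Cycle.Type

/-!
Fixed lines of elements of prime order of a three-dimensional unitary group.
-/

set_option autoImplicit false

namespace CfsgLib.MinIndexPSU

open Module CfsgLib.Classical.Herm CfsgLib.Classical.Herm.HermSpace

variable {F V : Type*} [Field F] [AddCommGroup V] [Module F V] [FiniteDimensional F V]
  {H : HermSpace F V}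

omit [FiniteDimensional F V] in
/-- A subspace with two independent vectors has an isotropic vector. -/
theorem exists_isotropic_of_two (W : Submodule F V) {u w : V} (hu : u ∈ W) (hw : w ∈ W)
    (hu0 : u ≠ 0) (hind : ∀ c : F, w ≠ c • u) : ∃ v ∈ W, v ≠ 0 ∧ H.h v v = 0 := by
  by_cases huu : H.h u u = 0
  · exact ⟨u, hu, hu0, huu⟩
  set s := H.h w u / H.h u u with hs
  set w' := w - s • u with hw'
  have hwu : H.h w' u = 0 := by
    rw [hw', H.sub_left, H.smul_left, hs, div_mul_cancel₀ _ huu, sub_self]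
  obtain ⟨t, ht⟩ := H.norm_surj (-(H.h w' w') / H.h u u)
    (by rw [map_div₀, map_neg, H.conj_diag, H.conj_diag])
  refine ⟨t • u + w', W.add_mem (W.smul_mem _ hu) (W.sub_mem hw (W.smul_mem _ hu)), fun h => ?_, ?_⟩
  · exact hind (s - t) (by
      rw [eq_neg_of_add_eq_zero_right h] at hw'
      rw [sub_smul]
      have h2 := congrArg (fun z => z + s • u) hw'
      simp only [sub_add_cancel] at h2
      rw [← h2]
      module)
  · rw [H.add_left, H.add_right, H.add_right, H.smul_left, H.smul_left, H.smul_right,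
      H.smul_right, hwu, H.h_comm_zero hwu, ← mul_assoc, ht, div_mul_cancel₀ _ huu]
    ring

theorem perp₂_self_iff {u x : V} : x ∈ perp₂ H u u ↔ H.h x u = 0 := by
  rw [mem_perp₂, and_self]

variable (hd : finrank F V = 3)
include hd

/-- An anisotropic vector spans the third axis of some frame. -/
theorem exists_frame_k {w : V} (hw : H.h w w ≠ 0) : ∃ (Φ : Frame H) (c : F), w = c • Φ.k := by
  have hw0 : w ≠ 0 := fun h => hw (by rw [h, H.zero_left])
  obtain ⟨u, hu0, huw, -⟩ := big_of_finrank (H := H) hd.ge w w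
  obtain ⟨u', hu'0, hu'w, hu'u⟩ := big_of_finrank (H := H) hd.ge w u
  obtain ⟨v, hv, hv0, hvv⟩ : ∃ v ∈ perp₂ H w w, v ≠ 0 ∧ H.h v v = 0 := by
    by_cases huu : H.h u u = 0
    · exact ⟨u, perp₂_self_iff.2 huw, hu0, huu⟩
    · refine exists_isotropic_of_two _ (perp₂_self_iff.2 huw) (perp₂_self_iff.2 hu'w) hu0
        fun c hc => ?_
      rw [hc, H.smul_left, mul_eq_zero] at hu'u
      rcases hu'u with h | h
      · exact hu'0 (by rw [hc, h, zero_smul])
      · exact huu h
  rw [perp₂_self_iff] at hv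
  obtain ⟨x, hx⟩ := H.exists_h_one hv0
  set z₀ := x - (H.h x w / H.h w w) • w with hz₀
  have hzw : H.h z₀ w = 0 := by
    rw [hz₀, H.sub_left, H.smul_left, div_mul_cancel₀ _ hw, sub_self]
  have hzv : H.h z₀ v = 1 := by
    rw [hz₀, H.sub_left, H.smul_left, hx, H.h_comm_zero hv, mul_zero, sub_zero]
  obtain ⟨t, ht⟩ := H.exists_trace (c := -H.h z₀ z₀) (by rw [map_neg, H.conj_diag])
  set z := z₀ + t • v with hz
  have p : IsHPair H v z := by
    refine ⟨hvv, ?_, ?_⟩
    · rw [hz, H.add_left, H.add_right, H.add_right, H.smul_left, H.smul_left, H.smul_right,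
        H.smul_right, hzv, H.h_comm_one hzv, hvv]
      linear_combination ht
    · rw [hz, H.add_left, H.smul_left, hzv, hvv, mul_zero, add_zero]
  obtain ⟨Φ, he, hf⟩ := exists_frame hd p
  refine ⟨Φ, H.h w Φ.k, ?_⟩
  conv_lhs => rw [Φ.eq_vec hd w]
  have h1 : H.h w Φ.e = 0 := by rw [he]; exact H.h_comm_zero hv
  have h2 : H.h w Φ.f = 0 := by
    rw [hf]
    refine H.h_comm_zero ?_
    rw [hz, H.add_left, H.smul_left, hzw, hv, mul_zero, add_zero]
  simp [Frame.vec, h1, h2]

variable [Fintype F] {q : ℕ} (hF : Fintype.card F = q ^ 2) (hc : ∀ a, H.conj a = a ^ q)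

omit hd in
/-- The isotropic lines of the plane orthogonal to `k`. -/
def perpLines (Φ : Frame H) : Set (Submodule F V) :=
  {W | ∃ u, u ≠ 0 ∧ H.h u u = 0 ∧ H.h u Φ.k = 0 ∧ W = F ∙ u}

include hF hc in
theorem card_perpLines (Φ : Frame H) : Nat.card (perpLines Φ) = q + 1 := by
  have hsk := card_skew hF hc
  let pt : Option (skew H) → V := fun o => o.elim Φ.e fun y => Φ.vec y.1 1 0
  have hne : ∀ o, pt o ≠ 0 := by
    rintro (_ | y) h
    · exact Φ.e_ne h
    · have := congrArg (fun z => H.h z Φ.e) h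
      simp [pt, Φ.h_vec_e, H.zero_left] at this
  have hiso : ∀ o, H.h (pt o) (pt o) = 0 ∧ H.h (pt o) Φ.k = 0 := by
    rintro (_ | y)
    · exact ⟨Φ.ee, Φ.ek⟩
    · refine ⟨?_, Φ.h_vec_k _ _ _⟩
      show H.h (Φ.vec y.1 1 0) (Φ.vec y.1 1 0) = 0
      rw [Φ.h_vec_vec, map_one, map_zero, mul_one, one_mul, mul_zero, add_zero]
      exact mem_skew.1 y.2
  let φ : Option (skew H) → perpLines Φ := fun o =>
    ⟨F ∙ pt o, pt o, hne o, (hiso o).1, (hiso o).2, rfl⟩
  have hφ : Function.Bijective φ := by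
    constructor
    · intro o o' h
      have h1 : pt o ∈ F ∙ pt o' := by
        rw [show (F ∙ pt o' : Submodule F V) = F ∙ pt o from (congrArg Subtype.val h).symm]
        exact Submodule.mem_span_singleton_self _
      obtain ⟨c, hc'⟩ := Submodule.mem_span_singleton.1 h1
      rcases o with _ | y <;> rcases o' with _ | y'
      · rfl
      · exfalso
        have he := congrArg (fun z => H.h z Φ.e) hc'
        simp [pt, Φ.h_vec_e, H.smul_left, Φ.ee] at he
        rw [he, zero_smul] at hc'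
        exact hne none hc'.symm
      · exfalso
        have := congrArg (fun z => H.h z Φ.e) hc'
        simp [pt, Φ.h_vec_e, H.smul_left, Φ.ee] at this
      · have he := congrArg (fun z => H.h z Φ.e) hc'
        have hf := congrArg (fun z => H.h z Φ.f) hc'
        simp [pt, Φ.h_vec_e, Φ.h_vec_f, H.smul_left] at he hf
        rw [he, one_mul] at hf
        exact congrArg some (Subtype.ext hf.symm)
    · rintro ⟨W, u, hu0, huu, huk, rfl⟩
      have hv := Φ.eq_vec hd u
      rw [huk] at hv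
      by_cases he : H.h u Φ.e = 0
      · obtain ⟨c, hc'⟩ := eq_smul_of_isotropic hd Φ.e_ne Φ.ee huu (H.h_comm_zero he)
        refine ⟨none, Subtype.ext ?_⟩
        show (F ∙ Φ.e) = F ∙ u
        rw [hc', Submodule.span_singleton_smul_eq]
        exact IsUnit.mk0 _ fun h => hu0 (by rw [hc', h, zero_smul])
      · set a := H.h u Φ.f
        set b := H.h u Φ.e
        have hs : a / b ∈ skew H := by
          rw [hv, Φ.h_vec_vec, map_zero, mul_zero, add_zero] at huu
          have := H.conj_ne_zero he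
          rw [mem_skew, map_div₀]
          field_simp
          linear_combination huu
        refine ⟨some ⟨a / b, hs⟩, Subtype.ext ?_⟩
        show (F ∙ Φ.vec (a / b) 1 0) = F ∙ u
        have hu : u = b • Φ.vec (a / b) 1 0 := by
          rw [hv]
          simp [Frame.vec, smul_smul, mul_div_cancel₀ _ he]
        rw [hu, Submodule.span_singleton_smul_eq (IsUnit.mk0 _ he)]
  rw [← Nat.card_congr (Equiv.ofBijective φ hφ), Finite.card_option, hsk]

include hF hc in
/-- An element of prime order `r ∤ q + 1` fixing a line fixes an isotropic line. -/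
theorem exists_fixed_isotropic_of_line {x : Unit' H} {r : ℕ} (hr : r.Prime) (hxr : x ^ r = 1)
    (hrq : ¬ r ∣ q + 1) {w : V} (hw0 : w ≠ 0) {c : F} (hxw : x.1 w = c • w) :
    ∃ u, u ≠ 0 ∧ H.h u u = 0 ∧ ∃ d : F, x.1 u = d • u := by
  by_cases hww : H.h w w = 0
  · exact ⟨w, hw0, hww, c, hxw⟩
  obtain ⟨Φ, b, hb⟩ := exists_frame_k hd hww
  have hb0 : b ≠ 0 := fun h => hw0 (by rw [hb, h, zero_smul])
  have hxk : x.1 Φ.k = c • Φ.k := by
    rw [hb, map_smul, smul_comm] at hxw
    have := congrArg (fun z => b⁻¹ • z) hxw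
    simpa [smul_smul, ← mul_assoc, inv_mul_cancel₀ hb0] using this
  have hc0 : c ≠ 0 := fun h => unit_ne_zero x Φ.k_ne (by rw [hxk, h, zero_smul])
  have hperp : ∀ u, H.h u Φ.k = 0 → H.h (x.1 u) Φ.k = 0 := by
    intro u hu
    have h2 : H.h (x.1 u) (c • Φ.k) = 0 := by rw [← hxk, unit_h, hu]
    rw [H.smul_right, mul_eq_zero] at h2
    exact h2.resolve_left (H.conj_ne_zero hc0)
  have hmap : ∀ W : perpLines Φ, Submodule.map (x.1 : V →ₗ[F] V) W.1 ∈ perpLines Φ := by
    rintro ⟨W, u, hu0, huu, huk, rfl⟩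
    refine ⟨x.1 u, unit_ne_zero x hu0, by rw [unit_h, huu], hperp u huk, ?_⟩
    rw [Submodule.map_span, Set.image_singleton]
    rfl
  have : Finite V := Module.finite_of_finite F
  have : Finite (Submodule F V) := Finite.of_injective _ SetLike.coe_injective
  have := Fintype.ofFinite (perpLines Φ)
  set f : perpLines Φ → perpLines Φ := fun W => ⟨_, hmap W⟩ with hf
  have hbij : Function.Bijective f := Finite.injective_iff_bijective.1 fun W W' h => Subtype.ext
    (Submodule.map_injective_of_injective x.1.injective (congrArg Subtype.val h :))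
  set σ : Equiv.Perm (perpLines Φ) := Equiv.ofBijective f hbij
  have hσ : ∀ m : ℕ, ∀ W : perpLines Φ,
      ((σ ^ m) W).1 = Submodule.map ((x ^ m).1 : V →ₗ[F] V) W.1 := by
    intro m
    induction m with
    | zero => intro W; simp
    | succ m ih =>
      intro W
      rw [pow_succ', Equiv.Perm.mul_apply, pow_succ']
      show Submodule.map _ ((σ ^ m) W).1 = _
      rw [ih, ← Submodule.map_comp]
      rfl
  have hσr : σ ^ r ^ 1 = 1 := Equiv.ext fun W => Subtype.ext (by
    rw [pow_one, hσ, hxr]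
    simp)
  have : Fact r.Prime := ⟨hr⟩
  obtain ⟨⟨W, u, hu0, huu, huk, rfl⟩, hW⟩ := Equiv.Perm.exists_fixed_point_of_prime
    (α := perpLines Φ)
    (by rw [← Nat.card_eq_fintype_card, card_perpLines hd hF hc]; exact hrq) hσr
  have h1 : x.1 u ∈ F ∙ u := by
    rw [show (F ∙ u : Submodule F V) = Submodule.map (x.1 : V →ₗ[F] V) (F ∙ u) from
      (congrArg Subtype.val hW :).symm]
    exact Submodule.mem_map.2 ⟨u, Submodule.mem_span_singleton_self _, rfl⟩
  obtain ⟨d, hd'⟩ := Submodule.mem_span_singleton.1 h1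
  exact ⟨u, hu0, huu, d, hd'.symm⟩

include hF hc in
/-- The order of an element fixing an isotropic line divides the order of the Borel subgroup. -/
theorem orderOf_dvd_of_fixed {x : Unit' H} (hx : x ∈ (detHom H).ker) {u : V} (hu0 : u ≠ 0)
    (huu : H.h u u = 0) {d : F} (hxu : x.1 u = d • u) : orderOf x ∣ q ^ 3 * (q ^ 2 - 1) := by
  obtain ⟨z, p⟩ := exists_isotropic_partner (H := H) huu hu0
  obtain ⟨Φ, he, -⟩ := exists_frame hd p
  rw [← Φ.card_B hd hF hc]
  exact Φ.B.orderOf_dvd_natCard ⟨hx, d, he.symm ▸ hxu⟩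

include hF hc in
/-- An element of prime order prime to `q (q² - 1)` fixes no line. -/
theorem no_fixed_line {x : Unit' H} (hx : x ∈ (detHom H).ker) {r : ℕ} (hr : r.Prime)
    (hxr : orderOf x = r) (h1 : ¬ r ∣ q) (h2 : ¬ r ∣ q ^ 2 - 1) {w : V} (hw0 : w ≠ 0) (c : F) :
    x.1 w ≠ c • w := by
  intro hxw
  have hr1 : ¬ r ∣ q + 1 := fun h => h2 (h.trans ⟨q - 1, by
    rw [← Nat.sq_sub_sq, one_pow]⟩)
  obtain ⟨u, hu0, huu, d, hd'⟩ := exists_fixed_isotropic_of_line hd hF hc hr
    (hxr ▸ pow_orderOf_eq_one x) hr1 hw0 hxw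
  have h := orderOf_dvd_of_fixed hd hF hc hx hu0 huu hd'
  rw [hxr] at h
  rcases (Nat.Prime.dvd_mul hr).1 h with h | h
  · exact h1 (hr.dvd_of_dvd_pow h)
  · exact h2 h

omit [Fintype F] in
/-- An element with an eigenvector commuting with an element without one is scalar. -/
theorem scalar_of_commute {x g : Unit' H} (hx : ∀ w : V, w ≠ 0 → ∀ c : F, x.1 w ≠ c • w)
    (hcomm : g * x = x * g) {w : V} (hw0 : w ≠ 0) {c : F} (hgw : g.1 w = c • w) :
    ∀ v, g.1 v = c • v := by
  set W : Submodule F V := End.eigenspace (g.1 : V →ₗ[F] V) c with hW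
  have hmem : ∀ v, v ∈ W ↔ g.1 v = c • v := fun v => End.mem_eigenspace_iff
  have hWx : ∀ v ∈ W, (x⁻¹).1 v ∈ W := by
    intro v hv
    rw [hmem] at hv ⊢
    have hcomm' : g * x⁻¹ = x⁻¹ * g := by
      rw [mul_inv_eq_iff_eq_mul, mul_assoc, hcomm, inv_mul_cancel_left]
    rw [← mul_apply, hcomm', mul_apply, hv, map_smul]
  by_cases htop : W = ⊤
  · exact fun v => (hmem v).1 (htop ▸ Submodule.mem_top)
  exfalso
  by_cases h1 : ∀ u ∈ W, ∃ a : F, u = a • w
  · obtain ⟨a, ha⟩ := h1 _ (hWx w ((hmem w).2 hgw))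
    have h := congrArg (x.1 ·) ha
    simp only [self_apply_inv, map_smul] at h
    have ha0 : a ≠ 0 := fun h0 => hw0 (by rw [h, h0, zero_smul])
    exact hx w hw0 a⁻¹ (by rw [eq_inv_smul_iff₀ ha0, ← h])
  push Not at h1
  obtain ⟨u, hu, hind⟩ := h1
  have hwu : ∀ a : F, a • w ≠ u := fun a h => hind a h.symm
  obtain ⟨z, hz0, hzu, hzw⟩ := big_of_finrank (H := H) hd.ge u w
  have hperp : ∀ v ∈ W, H.h z v = 0 := by
    intro v hv
    have hle : Submodule.span F {u, w} ≤ W := by
      rw [Submodule.span_le]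
      rintro v (rfl | rfl)
      · exact hu
      · exact (hmem _).2 hgw
    have hlt : finrank F W < 3 := hd ▸ Submodule.finrank_lt htop
    have h2 : finrank F (Submodule.span F (Set.range ![u, w])) = 2 := by
      rw [finrank_span_eq_card (linearIndependent_fin2.2 ⟨hw0, hwu⟩), Fintype.card_fin]
    have hrange : Set.range ![u, w] = {u, w} := by simp [Matrix.range_cons, Set.pair_comm]
    rw [hrange] at h2
    have heq := Submodule.eq_of_le_of_finrank_le hle (by omega)
    rw [← heq, Submodule.mem_span_pair] at hv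
    obtain ⟨a, b, rfl⟩ := hv
    rw [H.add_right, H.smul_right, H.smul_right, hzu, hzw, mul_zero, mul_zero, add_zero]
  have hxz : x.1 z ∈ perp₂ H u w := by
    rw [mem_perp₂]
    constructor
    · rw [← self_apply_inv x u, unit_h]
      exact hperp _ (hWx u hu)
    · rw [← self_apply_inv x w, unit_h]
      exact hperp _ (hWx w ((hmem w).2 hgw))
  obtain ⟨a, ha⟩ := exists_smul_of_mem_perp₂ hd hw0 hwu (mem_perp₂.2 ⟨hzu, hzw⟩) hz0 hxz
  exact hx z hz0 a ha

omit hd in
include hF in
/-- An element of order dividing `q² - 1` has an eigenvector. -/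
theorem exists_eigen_of_pow [Nontrivial V] (g : Unit' H) {m : ℕ} (hm : m ∣ q ^ 2 - 1)
    (hg : g ^ m = 1) : ∃ w : V, w ≠ 0 ∧ ∃ c : F, g.1 w = c • w := by
  set T : End F V := (g.1 : V →ₗ[F] V)
  have hq := two_le_of_card hF
  have h4 : 4 ≤ q ^ 2 := by
    calc 4 = 2 ^ 2 := by norm_num
      _ ≤ q ^ 2 := Nat.pow_le_pow_left hq 2
  have hTm : ∀ (k : ℕ) (v : V), (T ^ k) v = (g ^ k).1 v := by
    intro k
    induction k with
    | zero => intro v; rfl
    | succ k ih => intro v; rw [pow_succ', pow_succ', Module.End.mul_apply, ih]; rfl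
  have hm0 : 0 < m := Nat.pos_of_ne_zero fun h => by rw [h, zero_dvd_iff] at hm; omega
  have hdvd : minpoly F T ∣ Polynomial.X ^ m - 1 := by
    refine minpoly.dvd F T ?_
    rw [map_sub, map_pow, Polynomial.aeval_X, map_one, sub_eq_zero]
    refine LinearMap.ext fun v => ?_
    rw [hTm, hg]
    rfl
  have hdvd2 : (Polynomial.X ^ m - 1 : Polynomial F) ∣ Polynomial.X ^ Fintype.card F - Polynomial.X := by
    obtain ⟨k, hk⟩ := hm
    have e1 : (Polynomial.X ^ Fintype.card F - Polynomial.X : Polynomial F) =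
        Polynomial.X * ((Polynomial.X ^ m) ^ k - 1) := by
      rw [← pow_mul, ← hk, mul_sub, mul_one, ← pow_succ',
        show q ^ 2 - 1 + 1 = Fintype.card F by omega]
    rw [e1]
    exact Dvd.dvd.mul_left (sub_one_dvd_pow_sub_one _ k) _
  have hsp : (minpoly F T).Splits := by
    refine Polynomial.Splits.of_dvd ?_ ?_ (hdvd.trans hdvd2)
    · rw [Polynomial.splits_iff_card_roots, FiniteField.roots_X_pow_card_sub_X,
        FiniteField.X_pow_card_sub_X_natDegree_eq F Fintype.one_lt_card]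
      rfl
    · exact FiniteField.X_pow_card_sub_X_ne_zero F Fintype.one_lt_card
  obtain ⟨c, hc'⟩ := hsp.exists_eval_eq_zero
    (minpoly.degree_pos (Algebra.IsIntegral.isIntegral T)).ne'
  obtain ⟨w, hw⟩ := (End.hasEigenvalue_of_isRoot hc').exists_hasEigenvector
  exact ⟨w, hw.2, c, hw.apply_eq_smul⟩

omit hd [Fintype F] in
/-- An element of order a power of the characteristic has a fixed vector. -/
theorem exists_fixed_of_pow_char [Nontrivial V] {p : ℕ} [Fact p.Prime] [CharP F p] (g : Unit' H)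
    (hg : g ^ p = 1) : ∃ w : V, w ≠ 0 ∧ g.1 w = w := by
  set T : End F V := (g.1 : V →ₗ[F] V)
  have hTm : ∀ (k : ℕ) (v : V), (T ^ k) v = (g ^ k).1 v := by
    intro k
    induction k with
    | zero => intro v; rfl
    | succ k ih => intro v; rw [pow_succ', pow_succ', Module.End.mul_apply, ih]; rfl
  have : CharP (End F V) p := charP_of_injective_algebraMap (algebraMap F (End F V)).injective p
  have h0 : (T - 1) ^ p = 0 := by
    rw [sub_pow_char_of_commute p (Commute.one_right T), one_pow, sub_eq_zero]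
    refine LinearMap.ext fun v => ?_
    rw [hTm, hg]
    rfl
  by_contra hcon
  push Not at hcon
  have hinj : Function.Injective ⇑(T - 1) := by
    rw [injective_iff_map_eq_zero]
    intro v hv
    by_contra hv0
    exact hcon v hv0 (sub_eq_zero.1 hv)
  have hinjp : Function.Injective ⇑((T - 1) ^ p) := by
    rw [Module.End.coe_pow]
    exact hinj.iterate p
  obtain ⟨v, hv⟩ := exists_ne (0 : V)
  exact hv (hinjp (by rw [h0]; simp))

omit [FiniteDimensional F V] [Fintype F] in
/-- An involution fixes an isotropic line in odd characteristic. -/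
theorem exists_fixed_isotropic_of_involution (h2 : (2 : F) ≠ 0) (z : Unit' H) (hz : z * z = 1) :
    ∃ u, u ≠ 0 ∧ H.h u u = 0 ∧ ∃ d : F, z.1 u = d • u := by
  have : Nontrivial V := Module.nontrivial_of_finrank_pos (R := F) (by omega)
  set T : End F V := (z.1 : V →ₗ[F] V)
  have hzz : ∀ v, z.1 (z.1 v) = v := fun v => by rw [← mul_apply, hz, one_apply]
  have hsplit : ∀ v, v = (2 : F)⁻¹ • (v + z.1 v) + (2 : F)⁻¹ • (v - z.1 v) := fun v => by
    rw [← smul_add, show v + z.1 v + (v - z.1 v) = (2 : F) • v by rw [two_smul]; abel,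
      inv_smul_smul₀ h2]
  have hp : ∀ v, v + z.1 v ∈ End.eigenspace T 1 := fun v => by
    rw [End.mem_eigenspace_iff, one_smul]
    show z.1 (v + z.1 v) = v + z.1 v
    rw [map_add, hzz, add_comm]
  have hm : ∀ v, v - z.1 v ∈ End.eigenspace T (-1) := fun v => by
    rw [End.mem_eigenspace_iff, neg_one_smul]
    show z.1 (v - z.1 v) = -(v - z.1 v)
    rw [map_sub, hzz, neg_sub]
  by_contra hcon
  push Not at hcon
  have key : ∀ d : F, ∀ u ∈ End.eigenspace T d, ∀ w ∈ End.eigenspace T d, u ≠ 0 →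
      ∃ c : F, w = c • u := by
    intro d u hu w hw hu0
    by_contra hind
    push Not at hind
    obtain ⟨v, hv, hv0, hvv⟩ := exists_isotropic_of_two (H := H) _ hu hw hu0 hind
    exact hcon v hv0 hvv d (End.mem_eigenspace_iff.1 hv)
  have hle : ∀ d : F, ∃ u, End.eigenspace T d ≤ F ∙ u := by
    intro d
    by_cases h : ∃ u ∈ End.eigenspace T d, u ≠ 0
    · obtain ⟨u, hu, hu0⟩ := h
      exact ⟨u, fun w hw => by
        obtain ⟨c, rfl⟩ := key d u hu w hw hu0
        exact Submodule.mem_span_singleton.2 ⟨c, rfl⟩⟩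
    · push Not at h
      exact ⟨0, fun w hw => by rw [h w hw]; exact zero_mem _⟩
  obtain ⟨u, hu⟩ := hle 1
  obtain ⟨w, hw⟩ := hle (-1)
  have htop : (⊤ : Submodule F V) ≤ Submodule.span F ({u, w} : Set V) := fun v _ => by
    rw [hsplit v]
    refine add_mem (Submodule.smul_mem _ _ ?_) (Submodule.smul_mem _ _ ?_)
    · exact Submodule.span_mono (by simp) (hu (hp v))
    · exact Submodule.span_mono (by simp) (hw (hm v))
  classical
  have h3 := finrank_span_finset_le_card (R := F) ({u, w} : Finset V)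
  rw [Set.finrank, Finset.coe_pair, eq_top_iff.2 htop, finrank_top, hd] at h3
  have := h3.trans Finset.card_le_two
  omega

end CfsgLib.MinIndexPSU
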