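import Cfsg.Agent.Lib.MinIndexPSU.Small
import Cfsg.Agent.Lib.MinIndexPSU.Lines
import Mathlib.GroupTheory.Sylow
import Mathlib.Tactic.NormNum.Prime

/-!
Small transvection groups: two transvections over `q = 8`, three over `q = 9`.
-/

set_option autoImplicit false

namespace CfsgLib.MinIndexPSU

open Module CfsgLib.Classical.Herm CfsgLib.Classical.Herm.HermSpace

variable {F V : Type*} [Field F] [AddCommGroup V] [Module F V] [FiniteDimensional F V]
  {H : HermSpace F V} (hd : finrank F V = 3)
include hd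

theorem scalar_eq_one (Φ : Frame H) {g : Unit' H} (hg : g ∈ (detHom H).ker) {c : F}
    (hs : ∀ v, g.1 v = c • v) {m : ℕ} (hm : ¬ 3 ∣ m) (hgm : g ^ m = 1) : g = 1 := by
  have h3 : c ^ 3 = 1 := by
    have h := Φ.det_diag hd (hs Φ.e) (hs Φ.f) (hs Φ.k)
    rw [MonoidHom.mem_ker.1 hg, Units.val_one] at h
    rw [h]; ring
  have hpow : ∀ n : ℕ, ∀ v, (g ^ n).1 v = c ^ n • v := by
    intro n
    induction n with
    | zero => intro v; rw [pow_zero, pow_zero, one_smul]; rfl
    | succ n ih => intro v; rw [pow_succ, mul_apply, hs, map_smul, ih, smul_smul, pow_succ']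
  have hcm : c ^ m = 1 := by
    have h := hpow m Φ.e
    rw [hgm, one_apply] at h
    have h2 : (c ^ m - 1) • Φ.e = 0 := by rw [sub_smul, ← h, one_smul, sub_self]
    exact sub_eq_zero.1 ((smul_eq_zero.1 h2).resolve_right Φ.e_ne)
  have hc1 : c = 1 := by
    have h := (pow_gcd_eq_one (a := c) (m := m) (n := 3)).2 ⟨hcm, h3⟩
    rwa [Nat.Coprime.gcd_eq_one ((Nat.Prime.coprime_iff_not_dvd Nat.prime_three).2 hm).symm,
      pow_one] at h
  refine unit_ext fun v => ?_
  rw [hs, hc1, one_smul, one_apply]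

omit hd in
/-- Two natural exponents of a conjugation. -/
theorem conj_pow_eq {G : Type*} [Group G] {y x : G} {i : ℕ} (h : y * x * y⁻¹ = x ^ i) (n : ℕ) :
    y ^ n * x * (y ^ n)⁻¹ = x ^ (i ^ n) := by
  induction n with
  | zero => simp
  | succ n ih =>
    have e : y ^ (n + 1) * x * (y ^ (n + 1))⁻¹ = y * (y ^ n * x * (y ^ n)⁻¹) * y⁻¹ := by
      rw [pow_succ']; group
    rw [e, ih, ← conj_pow, h, ← pow_mul, pow_succ']

omit hd [FiniteDimensional F V] in
theorem fixed_of_sq (h2 : (2 : F) = 0) (g : Unit' H) (hg : g * g = 1) (v : V) :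
    g.1 (g.1 v - v) = g.1 v - v := by
  rw [map_sub, ← mul_apply, hg, one_apply]
  have h := congrArg (fun c : F => c • (v - g.1 v)) h2
  simp only [zero_smul, two_smul] at h
  exact sub_eq_zero.1 (by rw [← h]; abel)

/-- In characteristic two an element without fixed lines is not inverted by an involution. -/
theorem no_inverting_involution (h2 : (2 : F) = 0) {x z : Unit' H}
    (hx : ∀ w : V, w ≠ 0 → ∀ c : F, x.1 w ≠ c • w) (hz : z * z = 1) (hinv : z * x * z = x⁻¹) :
    False := by
  have hzx : (z * x) * (z * x) = 1 := by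
    rw [show z * x * (z * x) = z * x * z * x by group, hinv, inv_mul_cancel]
  have hker : ∀ g : Unit' H, g * g = 1 →
      2 ≤ finrank F (End.eigenspace (g.1 : V →ₗ[F] V) 1) := by
    intro g hg
    set T : End F V := (g.1 : V →ₗ[F] V)
    have hr : LinearMap.range (T - 1) ≤ LinearMap.ker (T - 1) := by
      rintro _ ⟨v, rfl⟩
      rw [LinearMap.mem_ker]
      show g.1 (g.1 v - v) - (g.1 v - v) = 0
      rw [fixed_of_sq h2 g hg v, sub_self]
    have h := LinearMap.finrank_range_add_finrank_ker (T - 1)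
    have h' := Submodule.finrank_mono hr
    rw [hd] at h
    have he : LinearMap.ker (T - 1) = End.eigenspace T 1 := by
      ext v
      rw [LinearMap.mem_ker, End.mem_eigenspace_iff, one_smul]
      exact sub_eq_zero
    rw [← he]
    omega
  set W₁ : Submodule F V := End.eigenspace (z.1 : V →ₗ[F] V) 1
  set W₂ : Submodule F V := End.eigenspace ((z * x).1 : V →ₗ[F] V) 1
  have h := Submodule.finrank_sup_add_finrank_inf_eq W₁ W₂
  have hle := Submodule.finrank_le (W₁ ⊔ W₂)
  rw [hd] at hle
  have h1 := hker z hz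
  have h2' := hker (z * x) hzx
  have hne : W₁ ⊓ W₂ ≠ ⊥ := by
    intro hb
    rw [hb, finrank_bot] at h
    change 2 ≤ finrank F W₁ at h1
    change 2 ≤ finrank F W₂ at h2'
    omega
  obtain ⟨w, hw, hw0⟩ := Submodule.exists_mem_ne_zero_of_ne_bot hne
  have e1 : z.1 w = w := by simpa using (End.mem_eigenspace_iff.1 hw.1)
  have e2 : (z * x).1 w = w := by simpa using (End.mem_eigenspace_iff.1 hw.2)
  refine hx w hw0 1 ?_
  rw [one_smul]
  calc x.1 w = z.1 (z.1 (x.1 w)) := by rw [← mul_apply z z, hz, one_apply]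
    _ = w := by rw [show z.1 (x.1 w) = (z * x).1 w from rfl, e2, e1]

variable [Fintype F] {q : ℕ} (hF : Fintype.card F = q ^ 2) (hc : ∀ a, H.conj a = a ^ q)
  (M : Subgroup (Unit' H)) (hM : M ≤ (detHom H).ker)
  (hn : M.relIndex (detHom H).ker ≤ q ^ 3)
include hF hc hM

theorem card_mul_relIndex (Φ : Frame H) :
    M.relIndex (detHom H).ker * Nat.card M = (q ^ 3 + 1) * (q ^ 3 * (q ^ 2 - 1)) := by
  rw [← Φ.relIndex_B hd hF hc, ← Φ.card_B hd hF hc, Subgroup.relIndex, Subgroup.relIndex,
    ← Nat.card_congr (Subgroup.subgroupOfEquivOfLe hM).toEquiv,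
    ← Nat.card_congr (Subgroup.subgroupOfEquivOfLe Φ.B_le).toEquiv,
    Subgroup.index_mul_card, Subgroup.index_mul_card]

include hn

theorem q_sq_le (Φ : Frame H) :
    q ^ 2 - 1 ≤ Nat.card (Φ.A M) * Nat.card (Φ.Z M) * Nat.card (Φ.K M) := by
  have h := Φ.relIndex_mul_card hd hF hc M hM hn
  have hq := two_le_of_card hF
  refine Nat.le_of_mul_le_mul_left ?_ (show 0 < q ^ 3 by positivity)
  rw [← h, mul_assoc]
  exact Nat.mul_le_mul_right _ hn

/-- Two transvections at a point are too few. -/
theorem no_two (Φ : Frame H) (hq : 3 ≤ q) (h2 : (2 : F) = 0) (hZ : Nat.card (Φ.Z M) = 2) :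
    False := by
  classical
  obtain ⟨p, f, hp, hf0, hqf, hchar⟩ := exists_prime_pow' hF
  have hp2 : p = 2 := by
    have : ((2 : ℕ) : F) = 0 := by exact_mod_cast h2
    exact (Nat.prime_dvd_prime_iff_eq hp Nat.prime_two).1 ((CharP.cast_eq_zero_iff F p 2).1 this)
  subst hp2
  obtain ⟨z, hz, hz0⟩ : ∃ z ∈ Φ.Z M, z ≠ 0 := by
    by_contra h
    push Not at h
    rw [show Φ.Z M = ⊥ from eq_bot_iff.2 fun a ha => AddSubgroup.mem_bot.2 (h a ha),
      AddSubgroup.card_bot] at hZ
    omega
  have hZeq : ∀ l ∈ Φ.Z M, l ≠ 0 → l = z := by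
    intro l hl hl0
    by_contra hne
    have h : ({0, z, l} : Set F) ⊆ Φ.Z M := by
      rintro _ (rfl | rfl | rfl)
      exacts [zero_mem _, hz, hl]
    have h3 := Set.ncard_le_ncard h
    rw [Set.ncard_insert_of_notMem (by simp [Ne.symm hz0, Ne.symm hl0]), Set.ncard_pair (Ne.symm hne),
      ← Nat.card_coe_set_eq] at h3
    change 3 ≤ Nat.card (Φ.Z M) at h3
    omega
  have hKq : ∀ t ∈ Φ.K M, t ^ (q + 1) = 1 := by
    intro t ht
    have hmem := Φ.Z_stable M hd ht hz
    have hne : (t : F) * H.conj t * z ≠ 0 :=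
      mul_ne_zero (mul_ne_zero t.ne_zero (H.conj_ne_zero t.ne_zero)) hz0
    have h := hZeq _ hmem hne
    apply Units.ext
    rw [Units.val_pow_eq_pow_val, Units.val_one, pow_succ', ← hc]
    exact mul_right_cancel₀ hz0 (h.trans (one_mul z).symm)
  have hnorm : ∀ a ∈ Φ.A M, a ≠ 0 → a * H.conj a = z := fun a ha h0 =>
    hZeq _ (Φ.norm_mem_Z M h2 ha) (mul_ne_zero h0 (H.conj_ne_zero h0))
  have hcube : ∀ a ∈ Φ.A M, a ≠ 0 → ∀ b ∈ Φ.A M, b ≠ 0 → (b / a) ^ 3 = 1 := by
    intro a ha ha0 b hb hb0
    by_cases hab : b = a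
    · rw [hab, div_self ha0, one_pow]
    have hs : a + b ≠ 0 := fun h => hab (by linear_combination h - a * h2)
    have h := hnorm _ (add_mem ha hb) hs
    rw [map_add] at h
    have na := hnorm a ha ha0
    have nb := hnorm b hb hb0
    have hca := H.conj_ne_zero ha0
    have key : a ^ 2 + a * b + b ^ 2 = 0 := by
      apply (mul_eq_zero.1 (show H.conj a * (a ^ 2 + a * b + b ^ 2) = 0 from ?_)).resolve_left hca
      linear_combination b * h + a * na - (a + b) * nb
    rw [div_pow, div_eq_one_iff_eq (pow_ne_zero 3 ha0)]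
    linear_combination (b - a) * key
  have hA4 : Nat.card (Φ.A M) ≤ 4 := by
    by_cases h : ∃ a ∈ Φ.A M, a ≠ 0
    · obtain ⟨a, ha, ha0⟩ := h
      let φ : Φ.A M → Option (rootsOfUnity 3 F) := fun b =>
        if hb : b.1 = 0 then none else
          some ⟨Units.mk0 (b.1 / a) (div_ne_zero hb ha0), (mem_rootsOfUnity 3 _).2
            (Units.ext (hcube a ha ha0 b.1 b.2 hb))⟩
      refine (Nat.card_le_card_of_injective φ ?_).trans ?_
      · intro b b' hbb
        simp only [φ] at hbb
        by_cases hb : b.1 = 0 <;> by_cases hb' : b'.1 = 0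
        · exact Subtype.ext (hb.trans hb'.symm)
        · rw [dif_pos hb, dif_neg hb'] at hbb; simp at hbb
        · rw [dif_neg hb, dif_pos hb'] at hbb; simp at hbb
        · rw [dif_neg hb, dif_neg hb', Option.some.injEq, Subtype.mk.injEq] at hbb
          exact Subtype.ext ((div_left_inj' ha0).1 (congrArg Units.val hbb :))
      · rw [Finite.card_option]
        exact Nat.succ_le_succ (card_rootsOfUnity F 3)
    · push Not at h
      rw [show Φ.A M = ⊥ from eq_bot_iff.2 fun a ha => AddSubgroup.mem_bot.2 (h a ha),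
        AddSubgroup.card_bot]
      omega
  have hKle : Nat.card (Φ.K M) ≤ q + 1 := card_le_of_pow_eq_one _ (by omega) hKq
  have hle := q_sq_le hd hF hc M hM hn Φ
  rw [hZ] at hle
  have hq9 : q ≤ 9 := by
    have h8 : q ^ 2 - 1 ≤ 4 * 2 * (q + 1) :=
      hle.trans (Nat.mul_le_mul (Nat.mul_le_mul_right _ hA4) hKle)
    by_contra hq9
    have : 10 * q ≤ q ^ 2 := by rw [pow_two]; exact Nat.mul_le_mul_right q (by omega)
    omega
  have hf3 : f ≤ 3 := by
    by_contra h
    have := Nat.pow_le_pow_right (show 1 ≤ 2 by norm_num) (show 4 ≤ f by omega)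
    omega
  have hA : Φ.A M ≠ ⊥ := fun h => by
    rw [h, AddSubgroup.card_bot] at hle
    have := hle.trans (Nat.mul_le_mul_left _ hKle)
    have hq4 : 4 ≤ q := by
      rw [hqf] at hq ⊢
      have hf2 : 2 ≤ f := by
        by_contra h
        have := Nat.pow_le_pow_right (show 1 ≤ 2 by norm_num) (show f ≤ 1 by omega)
        omega
      exact Nat.pow_le_pow_right (show 1 ≤ 2 by norm_num) hf2
    have : 4 * q ≤ q ^ 2 := by rw [pow_two]; exact Nat.mul_le_mul_right q hq4
    omega
  obtain ⟨a, ha, ha0⟩ : ∃ a ∈ Φ.A M, a ≠ 0 := by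
    by_contra h
    push Not at h
    exact hA (eq_bot_iff.2 fun a ha => AddSubgroup.mem_bot.2 (h a ha))
  have hK9 : ∀ t ∈ Φ.K M, t ^ 9 = 1 := by
    intro t ht
    set x := H.conj (t : F) * (H.conj t / t) with hx
    have hx0 : x * a ≠ 0 := mul_ne_zero (mul_ne_zero (H.conj_ne_zero t.ne_zero)
      (div_ne_zero (H.conj_ne_zero t.ne_zero) t.ne_zero)) ha0
    have h3 := hcube a ha ha0 _ (Φ.A_stable M hd ht ha) hx0
    rw [mul_div_cancel_right₀ _ ha0] at h3
    have hct : H.conj (t : F) = (t : F)⁻¹ := by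
      have h := congrArg (fun u : Fˣ => (u : F)) (hKq t ht)
      simp only [Units.val_pow_eq_pow_val, Units.val_one, Units.val_mul, pow_succ', ← hc] at h
      exact eq_inv_of_mul_eq_one_right h
    apply Units.ext
    rw [Units.val_pow_eq_pow_val, Units.val_one]
    rw [hct] at h3
    have ht0 : (t : F) ≠ 0 := t.ne_zero
    field_simp at h3
    linear_combination -h3
  interval_cases f
  · rw [hqf] at hq; norm_num [-Nat.card_eq_fintype_card] at hq
  · -- `q = 4`
    have hK1 : Nat.card (Φ.K M) ≤ 1 := card_le_of_pow_eq_one _ one_pos fun t ht => by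
      have h5 := hKq t ht
      rw [hqf] at h5
      have := (pow_gcd_eq_one (a := t) (m := 9) (n := 2 ^ 2 + 1)).2 ⟨hK9 t ht, h5⟩
      simpa using this
    rw [hqf] at hle
    have := hle.trans (Nat.mul_le_mul (Nat.mul_le_mul_right _ hA4) hK1)
    norm_num [-Nat.card_eq_fintype_card] at this
  · -- `q = 8`
    have hq8 : q = 8 := by rw [hqf]; norm_num
    subst hq8
    have h := Φ.relIndex_mul_card hd hF hc M hM hn
    rw [hZ] at h
    norm_num [-Nat.card_eq_fintype_card] at h hle hKle hn
    have hA4' : Nat.card (Φ.A M) = 4 := by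
      by_contra hne
      have := hle.trans (Nat.mul_le_mul (Nat.mul_le_mul_right _
        (show Nat.card (Φ.A M) ≤ 3 by omega)) hKle)
      omega
    have hK : Nat.card (Φ.K M) = 9 := by
      have hKd : Nat.card (Φ.K M) ∣ 63 := by
        have := Subgroup.card_subgroup_dvd_card (Φ.K M)
        rwa [natCard_units hF hc] at this
      have h8 : Nat.card (Φ.K M) ≠ 8 := fun h => by rw [h] at hKd; norm_num at hKd
      rw [hA4'] at hle
      omega
    rw [hA4', hK] at h
    have hcard := card_mul_relIndex hd hF hc M hM Φ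
    norm_num [-Nat.card_eq_fintype_card] at hcard
    have hn448 : M.relIndex (detHom H).ker = 448 := by omega
    rw [hn448] at hcard
    have hM' : Nat.card M = 36936 := by omega
    have := finite_unit' (H := H) hd
    have : Fact (Nat.Prime 19) := ⟨by norm_num⟩
    obtain ⟨P⟩ := (inferInstance : Nonempty (Sylow 19 M))
    have hP : Nat.card (P : Subgroup M) = 19 := by
      rw [P.card_eq_multiplicity, hM', show (36936 : ℕ) = 19 * 1944 by norm_num,
        Nat.factorization_mul (by norm_num) (by norm_num), Finsupp.add_apply,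
        Nat.Prime.factorization_self (by norm_num),
        Nat.factorization_eq_zero_of_not_dvd (by norm_num), add_zero, pow_one]
    obtain ⟨⟨x, hxP⟩, hxo⟩ := exists_prime_orderOf_dvd_card' (G := (P : Subgroup M)) 19 (by rw [hP])
    rw [Subgroup.orderOf_mk] at hxo
    have hxo' : orderOf (x : Unit' H) = 19 := by rw [Subgroup.orderOf_coe]; exact hxo
    have hnl : ∀ w : V, w ≠ 0 → ∀ c : F, (x : Unit' H).1 w ≠ c • w := fun w hw c =>
      no_fixed_line hd hF hc (hM x.2) (by norm_num) hxo' (by norm_num) (by norm_num) hw c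
    have hPx : Subgroup.zpowers x = (P : Subgroup M) := by
      refine Subgroup.eq_of_le_of_card_ge (Subgroup.zpowers_le.2 hxP) ?_
      rw [Nat.card_zpowers, hxo, hP]
    set N := Subgroup.normalizer (P : Set M) with hNdef
    have hns : Nat.card (Sylow 19 M) = 1 ∨ Nat.card (Sylow 19 M) = 324 := by
      have h1 := P.card_dvd_index
      have h2 : (P : Subgroup M).index = 1944 := by
        have := (P : Subgroup M).index_mul_card
        rw [hP, hM'] at this
        omega
      rw [h2] at h1
      have h3 : Nat.card (Sylow 19 M) % 19 = 1 := card_sylow_modEq_one 19 M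
      have key : ∀ d ∈ Nat.divisors 1944, d % 19 = 1 → d = 1 ∨ d = 324 := by decide +kernel
      exact key _ (Nat.mem_divisors.2 ⟨h1, by norm_num⟩) h3
    have hNeven : 2 ∣ Nat.card N := by
      have h1 := N.index_mul_card
      rw [← P.card_eq_index_normalizer, hM'] at h1
      rcases hns with h | h <;> rw [h] at h1 <;> omega
    have : Fact (Nat.Prime 2) := ⟨Nat.prime_two⟩
    obtain ⟨⟨y, hyN⟩, hy2⟩ := exists_prime_orderOf_dvd_card' (G := N) 2 hNeven
    rw [Subgroup.orderOf_mk] at hy2
    have hyy : y * y = 1 := by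
      have := pow_orderOf_eq_one y
      rwa [hy2, pow_two] at this
    have hyinv : y⁻¹ = y := inv_eq_of_mul_eq_one_right hyy
    have hconj : y * x * y⁻¹ ∈ (P : Subgroup M) := (Subgroup.mem_normalizer_iff.1 hyN x).1 hxP
    rw [← hPx] at hconj
    obtain ⟨i, hi19, hi⟩ : ∃ i < 19, x ^ i = y * x * y⁻¹ := by
      have h := (isOfFinOrder_of_finite x).mem_zpowers_iff_mem_range_orderOf.1 hconj
      rw [hxo, Finset.mem_image] at h
      obtain ⟨i, hi, he⟩ := h
      exact ⟨i, Finset.mem_range.1 hi, he⟩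
    have hii : x ^ (i ^ 2) = x ^ 1 := by
      rw [← conj_pow_eq hi.symm 2, pow_two, hyy, pow_one]
      group
    rw [pow_eq_pow_iff_modEq, hxo] at hii
    have key : ∀ i < 19, i ^ 2 % 19 = 1 → i = 1 ∨ i = 18 := by decide +kernel
    have hyu : (y : Unit' H) * y = 1 := congrArg Subtype.val hyy
    rcases key i hi19 hii with h1 | h1 <;> rw [h1] at hi
    · rw [pow_one, eq_mul_inv_iff_mul_eq] at hi
      have hcomm : (y : Unit' H) * x = x * y := (congrArg Subtype.val hi.symm :)
      have : Nontrivial V := Module.nontrivial_of_finrank_pos (R := F) (by omega)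
      obtain ⟨w, hw0, hw⟩ := exists_fixed_of_pow_char (p := 2) (y : Unit' H) (by rw [pow_two]; exact hyu)
      have hs := scalar_of_commute hd hnl hcomm hw0 (c := 1) (by rw [hw, one_smul])
      have h' := scalar_eq_one hd Φ (hM y.2) hs (m := 2) (by norm_num) (by rw [pow_two]; exact hyu)
      rw [show y = 1 from Subtype.ext h', orderOf_one] at hy2
      omega
    · refine no_inverting_involution hd h2 hnl hyu ?_
      have hinv : x ^ 18 = x⁻¹ := eq_inv_of_mul_eq_one_left (by
        rw [← pow_succ, show 18 + 1 = 19 from rfl, ← hxo]; exact pow_orderOf_eq_one x)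
      rw [hinv, hyinv] at hi
      exact (congrArg Subtype.val hi.symm :)

/-- Three transvections at a point over `q = 9` are too few. -/
theorem no_three (Φ : Frame H) (hq : q = 9) (hZ : Nat.card (Φ.Z M) = 3) : False := by
  classical
  subst hq
  have : Fact (Nat.Prime 3) := ⟨Nat.prime_three⟩
  have hchar : CharP F 3 := by
    obtain ⟨p, f, hp, hf0, hqf, hchar⟩ := exists_prime_pow' hF
    have h : p ∣ 3 ^ 2 := by rw [show (3 : ℕ) ^ 2 = p ^ f by rw [← hqf]; norm_num]; exact dvd_pow_self p hf0.ne'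
    rwa [(Nat.prime_dvd_prime_iff_eq hp Nat.prime_three).1 (hp.dvd_of_dvd_pow h)] at hchar
  have h3 : (3 : F) = 0 := by exact_mod_cast CharP.cast_eq_zero F 3
  obtain ⟨z, hz, hz0⟩ : ∃ z ∈ Φ.Z M, z ≠ 0 := by
    by_contra h
    push Not at h
    rw [show Φ.Z M = ⊥ from eq_bot_iff.2 fun a ha => AddSubgroup.mem_bot.2 (h a ha),
      AddSubgroup.card_bot] at hZ
    omega
  have hzz : z ≠ -z := fun h => hz0 (by linear_combination z * h3 - h)
  have hZset : (Φ.Z M : Set F) = {0, z, -z} := by
    refine (Set.eq_of_subset_of_ncard_le ?_ ?_).symm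
    · rintro _ (rfl | rfl | rfl)
      exacts [zero_mem _, hz, neg_mem hz]
    · rw [← Nat.card_coe_set_eq, Set.ncard_insert_of_notMem (by simp [hz0, Ne.symm hz0]),
        Set.ncard_pair hzz]
      show Nat.card (Φ.Z M) ≤ 3
      omega
  have hZeq : ∀ l ∈ Φ.Z M, ∀ m ∈ Φ.Z M, m ≠ 0 → l = 0 ∨ l = m ∨ l = -m := by
    intro l hl m hm hm0
    rw [← SetLike.mem_coe, hZset] at hl hm
    rcases hm with rfl | rfl | rfl
    · exact absurd rfl hm0
    · exact hl
    · rcases hl with h | h | h
      · exact Or.inl h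
      · exact Or.inr (Or.inr (by rw [h, neg_neg]))
      · exact Or.inr (Or.inl h)
  have hK20 : ∀ t ∈ Φ.K M, t ^ 20 = 1 := by
    intro t ht
    have hne : (t : F) * H.conj t * z ≠ 0 :=
      mul_ne_zero (mul_ne_zero t.ne_zero (H.conj_ne_zero t.ne_zero)) hz0
    apply Units.ext
    rw [Units.val_pow_eq_pow_val, Units.val_one,
      show (t : F) ^ 20 = ((t : F) * H.conj t) ^ 2 by rw [hc]; ring]
    rcases hZeq _ (Φ.Z_stable M hd ht hz) z hz hz0 with h | h | h
    · exact absurd h hne
    · rw [mul_right_cancel₀ hz0 (h.trans (one_mul z).symm), one_pow]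
    · rw [mul_right_cancel₀ hz0 (h.trans (neg_one_mul z).symm), neg_one_sq]
  have hK4 : ∀ a ∈ Φ.A M, a ≠ 0 → ∀ t ∈ Φ.K M, t ^ 4 = 1 := by
    intro a ha ha0 t ht
    set x : F := H.conj (t : F) * (H.conj t / t) with hxdef
    have hxt : x = ((t : F) ^ 17) := by
      rw [hxdef, hc]
      have ht0 : (t : F) ≠ 0 := t.ne_zero
      field_simp
    have h20 : (t : F) ^ 20 = 1 := by
      have := congrArg (fun u : Fˣ => (u : F)) (hK20 t ht)
      simpa using this
    have hx20 : x ^ 20 = 1 := by rw [hxt, ← pow_mul, mul_comm, pow_mul, h20, one_pow]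
    have hxa := Φ.A_stable M hd ht ha
    have hxxa := Φ.A_stable M hd ht hxa
    rw [← hxdef] at hxxa hxa
    clear_value x
    have hx8 : x ^ 8 = 1 := by
      by_contra hx8
      have hx0 : x ≠ 0 := fun h => by rw [h] at hx20; simp at hx20
      set y := x - H.conj x with hy
      have hy0 : y ≠ 0 := fun h => hx8 (mul_left_cancel₀ hx0 (by
        rw [hy, hc, sub_eq_zero] at h
        rw [mul_one, ← pow_succ', ← h]))
      have hNa : a * H.conj a ≠ 0 := mul_ne_zero ha0 (H.conj_ne_zero ha0)
      have h1 := Φ.comm_mem_Z M hxa ha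
      have h2 := Φ.comm_mem_Z M hxxa ha
      rw [map_mul, show x * a * H.conj a - a * (H.conj x * H.conj a) = y * (a * H.conj a) by
        rw [hy]; ring] at h1
      rw [map_mul, map_mul, show x * (x * a) * H.conj a - a * (H.conj x * (H.conj x * H.conj a)) =
        (x + H.conj x) * (y * (a * H.conj a)) by rw [hy]; ring] at h2
      have hne := mul_ne_zero hy0 hNa
      have h18 : x * H.conj x = x ^ 10 := by rw [hc]; ring
      have hN : x ^ 10 = 1 ∨ x ^ 10 = -1 := by
        have : (x ^ 10 - 1) * (x ^ 10 + 1) = 0 := by linear_combination hx20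
        rcases mul_eq_zero.1 this with h | h
        · exact Or.inl (sub_eq_zero.1 h)
        · exact Or.inr (eq_neg_of_add_eq_zero_left h)
      rcases hZeq _ h2 _ h1 hne with h | h | h
      · have hs : x + H.conj x = 0 := (mul_eq_zero.1 h).resolve_right hne
        rw [hc] at hs
        apply hx8
        have h8 : x ^ 8 = -1 := mul_left_cancel₀ hx0 (by linear_combination hs)
        have h16 : x ^ 16 = 1 := by linear_combination (x ^ 8 - 1) * h8
        have h4 : x ^ 4 = 1 := by linear_combination hx20 - x ^ 4 * h16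
        linear_combination (x ^ 4 + 1) * h4
      · have hs : x + H.conj x = 1 := mul_right_cancel₀ hne (h.trans (one_mul _).symm)
        rcases hN with hN | hN
        · have h3' : x ^ 3 = -1 := by linear_combination (x + 1) * (x * hs - h18 - hN)
          have h2' : x ^ 2 = 1 := by linear_combination hx20 - x ^ 2 * (x ^ 15 - x ^ 12 + x ^ 9 - x ^ 6 + x ^ 3 - 1) * h3'
          exact hx8 (by linear_combination (x ^ 6 + x ^ 4 + x ^ 2 + 1) * h2')
        · have hq2 : x ^ 2 = x + 1 := by linear_combination x * hs - h18 - hN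
          have h4 : x ^ 4 = -1 := by linear_combination (x ^ 2 + x + 2) * hq2 + (x + 1) * h3
          exact hx8 (by linear_combination (x ^ 4 - 1) * h4)
      · have hs : x + H.conj x = -1 := mul_right_cancel₀ hne (h.trans (neg_one_mul _).symm)
        rcases hN with hN | hN
        · have h3' : x ^ 3 = 1 := by linear_combination (x - 1) * (x * hs - h18 - hN)
          have h2' : x ^ 2 = 1 := by linear_combination hx20 - x ^ 2 * (x ^ 15 + x ^ 12 + x ^ 9 + x ^ 6 + x ^ 3 + 1) * h3'
          exact hx8 (by linear_combination (x ^ 6 + x ^ 4 + x ^ 2 + 1) * h2')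
        · have hq2 : x ^ 2 = -x + 1 := by linear_combination x * hs - h18 - hN
          have h4 : x ^ 4 = -1 := by linear_combination (x ^ 2 - x + 2) * hq2 + (1 - x) * h3
          exact hx8 (by linear_combination (x ^ 4 - 1) * h4)
    apply Units.ext
    rw [Units.val_pow_eq_pow_val, Units.val_one]
    have h136 : (t : F) ^ 136 = 1 := by rw [show 136 = 17 * 8 from rfl, pow_mul, ← hxt, hx8]
    have := (pow_gcd_eq_one (a := (t : F)) (m := 136) (n := 20)).2 ⟨h136, h20⟩
    simpa using this
  have hle := q_sq_le hd hF hc M hM hn Φ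
  rw [hZ] at hle
  norm_num [-Nat.card_eq_fintype_card] at hle
  have hK20' : Nat.card (Φ.K M) ≤ 20 := card_le_of_pow_eq_one _ (by norm_num) hK20
  obtain ⟨a, ha, ha0⟩ : ∃ a ∈ Φ.A M, a ≠ 0 := by
    by_contra h
    push Not at h
    rw [show Φ.A M = ⊥ from eq_bot_iff.2 fun a ha => AddSubgroup.mem_bot.2 (h a ha),
      AddSubgroup.card_bot] at hle
    omega
  have hK4' : Nat.card (Φ.K M) ≤ 4 := card_le_of_pow_eq_one _ (by norm_num) (hK4 a ha ha0)
  -- the size of `A`
  have hfix := card_fixed_le hF hc (H := H)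
  have hstep : ∀ b ∈ Φ.A M, b ≠ 0 → Nat.card (Φ.A M) ≤
      3 * Nat.card {a : Φ.A M // H.conj (a.1 / b) = a.1 / b} := by
    intro b hb hb0
    let φ : Φ.A M →+ Φ.Z M :=
      AddMonoidHom.mk' (fun a => ⟨a.1 * H.conj b - b * H.conj a.1, Φ.comm_mem_Z M a.2 hb⟩)
        fun a a' => Subtype.ext (by
          show (a.1 + a'.1) * H.conj b - b * H.conj (a.1 + a'.1) = _
          rw [map_add]
          show _ = (a.1 * H.conj b - b * H.conj a.1) + (a'.1 * H.conj b - b * H.conj a'.1)
          ring)
    have h1 := AddSubgroup.card_eq_card_quotient_mul_card_addSubgroup φ.ker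
    rw [Nat.card_congr (QuotientAddGroup.quotientKerEquivRange φ).toEquiv] at h1
    rw [h1]
    refine Nat.mul_le_mul ((Nat.card_le_card_of_injective Subtype.val Subtype.val_injective).trans hZ.le) ?_
    refine Nat.card_le_card_of_injective (fun a : φ.ker => (⟨a.1, ?_⟩ :
      {a : Φ.A M // H.conj (a.1 / b) = a.1 / b})) fun a a' h =>
        Subtype.ext (congrArg (fun z : {a : Φ.A M // _} => z.1) h :)
    have h2 : a.1.1 * H.conj b - b * H.conj a.1.1 = 0 := congrArg Subtype.val a.2
    rw [map_div₀, div_eq_div_iff (H.conj_ne_zero hb0) hb0]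
    linear_combination -h2
  have hstep' : ∀ b ∈ Φ.A M, b ≠ 0 → Nat.card (Φ.A M) ≤ 27 := fun b hb hb0 => by
    refine (hstep b hb hb0).trans ((Nat.mul_le_mul_left 3 ?_).trans (show 3 * 9 ≤ 27 by norm_num))
    refine le_trans (Nat.card_le_card_of_injective
      (fun a : {a : Φ.A M // H.conj (a.1 / b) = a.1 / b} =>
        (⟨a.1.1 / b, a.2⟩ : {c : F // H.conj c = c})) fun a a' h => ?_) hfix
    exact Subtype.ext (Subtype.ext ((div_left_inj' hb0).1 (congrArg Subtype.val h :)))
  obtain ⟨i, -, hi⟩ := (Nat.dvd_prime_pow Nat.prime_three).1 (show Nat.card (Φ.A M) ∣ 3 ^ 4 by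
    have := AddSubgroup.card_addSubgroup_dvd_card (Φ.A M)
    rwa [Nat.card_eq_fintype_card (α := F), hF] at this)
  have hi2 : i = 2 := by
    have h27 := hstep' a ha ha0
    rw [hi] at h27 hle
    have hle' : 80 ≤ 3 ^ i * 3 * 4 := hle.trans (Nat.mul_le_mul_left _ hK4')
    have hi3 : i ≤ 3 := by
      by_contra h
      have := Nat.pow_le_pow_right (show 1 ≤ 3 by norm_num) (show 4 ≤ i by omega)
      omega
    interval_cases i <;> norm_num [-Nat.card_eq_fintype_card] at hle' <;> try rfl
    -- `|A| = 27`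
    exfalso
    have hfull : ∀ b ∈ Φ.A M, b ≠ 0 → ∀ c : F, H.conj c = c → c * b ∈ Φ.A M := by
      intro b hb hb0 c hcc
      have h9 : Nat.card {c : F // H.conj c = c} ≤
          Nat.card {a : Φ.A M // H.conj (a.1 / b) = a.1 / b} := by
        have := hstep b hb hb0
        rw [hi] at this
        omega
      set ψ := fun a : {a : Φ.A M // H.conj (a.1 / b) = a.1 / b} =>
        (⟨a.1.1 / b, a.2⟩ : {c : F // H.conj c = c})
      have hψ : Function.Injective ψ := fun a a' h =>
        Subtype.ext (Subtype.ext ((div_left_inj' hb0).1 (congrArg Subtype.val h :)))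
      obtain ⟨a', ha'⟩ := ((Nat.bijective_iff_injective_and_card ψ).2
        ⟨hψ, le_antisymm (Nat.card_le_card_of_injective ψ hψ) h9⟩).2 ⟨c, hcc⟩
      have hval : a'.1.1 / b = c := congrArg Subtype.val ha'
      rw [show c * b = a'.1.1 by rw [← hval]; exact div_mul_cancel₀ _ hb0]
      exact a'.1.2
    obtain ⟨b, hb, hab⟩ : ∃ b ∈ Φ.A M, H.conj (b / a) ≠ b / a := by
      by_contra h
      push Not at h
      have := Nat.card_le_card_of_injective
        (fun b : Φ.A M => (⟨b.1 / a, h b.1 b.2⟩ : {c : F // H.conj c = c}))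
        fun b b' hbb => Subtype.ext ((div_left_inj' ha0).1 (congrArg Subtype.val hbb :))
      rw [hi] at this
      omega
    have hb0 : b ≠ 0 := fun h => hab (by rw [h, zero_div, map_zero])
    have hcard9 : Nat.card {c : F // H.conj c = c} = 9 := by
      refine le_antisymm hfix ?_
      have h1 := AddSubgroup.card_eq_card_quotient_mul_card_addSubgroup (skew H)
      rw [card_skew hF hc, Nat.card_eq_fintype_card (α := F), hF,
        show Nat.card (F ⧸ skew H) = Nat.card (trace H).range from
          Nat.card_congr (QuotientAddGroup.quotientKerEquivRange (trace H)).toEquiv] at h1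
      have h2 : Nat.card (trace H).range ≤ Nat.card {c : F // H.conj c = c} :=
        Nat.card_le_card_of_injective (fun y => (⟨y.1, by
          obtain ⟨w, hw⟩ := y.2
          rw [← hw]
          show H.conj (w + H.conj w) = w + H.conj w
          rw [map_add, H.conj_conj, add_comm]⟩ : {c : F // H.conj c = c}))
          fun u v h => Subtype.ext (congrArg Subtype.val h :)
      omega
    have h81 := Nat.card_le_card_of_injective
      (fun c : {c : F // H.conj c = c} × {c : F // H.conj c = c} =>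
        (⟨c.1.1 * a + c.2.1 * b,
          add_mem (hfull a ha ha0 _ c.1.2) (hfull b hb hb0 _ c.2.2)⟩ : Φ.A M)) (by
        rintro ⟨⟨c, hcc⟩, ⟨d, hdc⟩⟩ ⟨⟨c', hcc'⟩, ⟨d', hdc'⟩⟩ h
        have h' : c * a + d * b = c' * a + d' * b := congrArg Subtype.val h
        have hd' : d = d' := by
          by_contra hne
          apply hab
          have : b / a = (c' - c) / (d - d') := by
            rw [div_eq_div_iff ha0 (sub_ne_zero.2 hne)]
            linear_combination h'
          rw [this, map_div₀, map_sub, map_sub, hcc, hcc', hdc, hdc']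
        subst hd'
        have : c = c' := mul_right_cancel₀ ha0 (by linear_combination h')
        subst this
        rfl)
    rw [Nat.card_prod, hcard9, hi] at h81
    norm_num [-Nat.card_eq_fintype_card] at h81
  subst hi2
  norm_num [-Nat.card_eq_fintype_card] at hi
  have h := Φ.relIndex_mul_card hd hF hc M hM hn
  rw [hZ, hi] at h
  norm_num [-Nat.card_eq_fintype_card] at h hn
  rw [hi] at hle
  have hKd : Nat.card (Φ.K M) ∣ 80 := by
    have := Subgroup.card_subgroup_dvd_card (Φ.K M)
    rwa [natCard_units hF hc] at this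
  have hK : Nat.card (Φ.K M) = 4 := by
    have h3 : Nat.card (Φ.K M) ≠ 3 := fun h => by rw [h] at hKd; norm_num [-Nat.card_eq_fintype_card] at hKd
    omega
  rw [hK] at h
  have hcard := card_mul_relIndex hd hF hc M hM Φ
  norm_num [-Nat.card_eq_fintype_card] at hcard
  have hn540 : M.relIndex (detHom H).ker = 540 := by omega
  rw [hn540] at hcard
  have hM' : Nat.card M = 78840 := by omega
  have := finite_unit' (H := H) hd
  have : Fact (Nat.Prime 73) := ⟨by norm_num⟩
  obtain ⟨P⟩ := (inferInstance : Nonempty (Sylow 73 M))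
  have hP : Nat.card (P : Subgroup M) = 73 := by
    rw [P.card_eq_multiplicity, hM', show (78840 : ℕ) = 73 * 1080 by norm_num,
      Nat.factorization_mul (by norm_num) (by norm_num), Finsupp.add_apply,
      Nat.Prime.factorization_self (by norm_num),
      Nat.factorization_eq_zero_of_not_dvd (by norm_num), add_zero, pow_one]
  obtain ⟨⟨x, hxP⟩, hxo⟩ := exists_prime_orderOf_dvd_card' (G := (P : Subgroup M)) 73 (by rw [hP])
  rw [Subgroup.orderOf_mk] at hxo
  have hxo' : orderOf (x : Unit' H) = 73 := by rw [Subgroup.orderOf_coe]; exact hxo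
  have hnl : ∀ w : V, w ≠ 0 → ∀ c : F, (x : Unit' H).1 w ≠ c • w := fun w hw c =>
    no_fixed_line hd hF hc (hM x.2) (by norm_num) hxo' (by norm_num) (by norm_num) hw c
  have hns : Nat.card (Sylow 73 M) = 1 := by
    have h1 := P.card_dvd_index
    have h2 : (P : Subgroup M).index = 1080 := by
      have := (P : Subgroup M).index_mul_card
      rw [hP, hM'] at this
      omega
    rw [h2] at h1
    have h3 : Nat.card (Sylow 73 M) % 73 = 1 := card_sylow_modEq_one 73 M
    have key : ∀ d ∈ Nat.divisors 1080, d % 73 = 1 → d = 1 := by decide +kernel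
    exact key _ (Nat.mem_divisors.2 ⟨h1, by norm_num⟩) h3
  have hN : Subgroup.normalizer (P : Set M) = ⊤ :=
    Subgroup.index_eq_one.1 (by rw [← P.card_eq_index_normalizer, hns])
  have : Fact (Nat.Prime 5) := ⟨Nat.prime_five⟩
  obtain ⟨y, hy5⟩ := exists_prime_orderOf_dvd_card' (G := M) 5 (by rw [hM']; norm_num)
  have hconj : y * x * y⁻¹ ∈ (P : Subgroup M) :=
    (Subgroup.mem_normalizer_iff.1 (show y ∈ Subgroup.normalizer (P : Set M) by
      rw [hN]; exact Subgroup.mem_top y) x).1 hxP
  have hPx : Subgroup.zpowers x = (P : Subgroup M) := by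
    refine Subgroup.eq_of_le_of_card_ge (Subgroup.zpowers_le.2 hxP) ?_
    rw [Nat.card_zpowers, hxo, hP]
  rw [← hPx] at hconj
  obtain ⟨i, hi73, hi'⟩ : ∃ i < 73, x ^ i = y * x * y⁻¹ := by
    have h := (isOfFinOrder_of_finite x).mem_zpowers_iff_mem_range_orderOf.1 hconj
    rw [hxo, Finset.mem_image] at h
    obtain ⟨i, hi, he⟩ := h
    exact ⟨i, Finset.mem_range.1 hi, he⟩
  have hy5' : y ^ 5 = 1 := by rw [← hy5]; exact pow_orderOf_eq_one y
  have hii : x ^ (i ^ 5) = x ^ 1 := by
    rw [← conj_pow_eq hi'.symm 5, hy5', pow_one]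
    group
  rw [pow_eq_pow_iff_modEq, hxo] at hii
  have key : ∀ i < 73, i ^ 5 % 73 = 1 → i = 1 := by decide +kernel
  rw [key i hi73 hii, pow_one, eq_mul_inv_iff_mul_eq] at hi'
  have hcomm : (y : Unit' H) * x = x * y := (congrArg Subtype.val hi'.symm :)
  have : Nontrivial V := Module.nontrivial_of_finrank_pos (R := F) (by omega)
  have hy5u : (y : Unit' H) ^ 5 = 1 := by rw [← Subgroup.coe_pow, hy5']; rfl
  obtain ⟨w, hw0, c, hw⟩ := exists_eigen_of_pow (H := H) hF (y : Unit' H) (m := 5) (by norm_num) hy5u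
  have hs := scalar_of_commute hd hnl hcomm hw0 hw
  have h' := scalar_eq_one hd Φ (hM y.2) hs (m := 5) (by norm_num) hy5u
  rw [show y = 1 from Subtype.ext h', orderOf_one] at hy5
  omega

end CfsgLib.MinIndexPSU
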