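import Cfsg.Agent.Lib.MinIndexPSU.Borel
import Mathlib.RingTheory.IntegralDomain

/-!
Consequences of a trivial transvection part: the parameters lie on a line over the fixed field.
-/

set_option autoImplicit false

namespace CfsgLib.MinIndexPSU

open Module CfsgLib.Classical.Herm CfsgLib.Classical.Herm.HermSpace

variable {F V : Type*} [Field F] [AddCommGroup V] [Module F V] [FiniteDimensional F V]
  {H : HermSpace F V} (Φ : Frame H) (M : Subgroup (Unit' H))

/-- When `Z = 0`, ratios of parameters are fixed. -/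
theorem Frame.conj_div_eq (hZ : Φ.Z M = ⊥) {a b : F} (ha : a ∈ Φ.A M) (hb : b ∈ Φ.A M)
    (hb0 : b ≠ 0) : H.conj (a / b) = a / b := by
  have h := Φ.comm_mem_Z M ha hb
  rw [hZ, AddSubgroup.mem_bot, sub_eq_zero] at h
  rw [map_div₀, div_eq_div_iff (H.conj_ne_zero hb0) hb0]
  linear_combination -h

theorem Frame.card_A_le [Fintype F] {q : ℕ} (hF : Fintype.card F = q ^ 2)
    (hc : ∀ a, H.conj a = a ^ q) (hZ : Φ.Z M = ⊥) : Nat.card (Φ.A M) ≤ q := by
  by_cases h : ∃ b ∈ Φ.A M, b ≠ 0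
  · obtain ⟨b, hb, hb0⟩ := h
    refine le_trans (Nat.card_le_card_of_injective
      (fun a : Φ.A M => (⟨a.1 / b, Φ.conj_div_eq M hZ a.2 hb hb0⟩ : {x : F // H.conj x = x})) ?_)
      (card_fixed_le hF hc)
    intro a a' h
    exact Subtype.ext ((div_left_inj' hb0).1 (congrArg Subtype.val h))
  · push Not at h
    rw [show Φ.A M = ⊥ from eq_bot_iff.2 fun a ha => AddSubgroup.mem_bot.2 (h a ha),
      AddSubgroup.card_bot]
    have := two_le_of_card hF
    omega

/-- When `Z = 0` and `A ≠ 0`, the eigenvalues have exponent dividing `3(q - 1)`. -/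
theorem Frame.pow_eq_one_of_mem_K [Fintype F] {q : ℕ} (hF : Fintype.card F = q ^ 2)
    (hc : ∀ a, H.conj a = a ^ q) (hd : finrank F V = 3) (hZ : Φ.Z M = ⊥) (hA : Φ.A M ≠ ⊥)
    {t : Fˣ} (ht : t ∈ Φ.K M) : t ^ (3 * (q - 1)) = 1 := by
  obtain ⟨b, hb, hb0⟩ : ∃ b ∈ Φ.A M, b ≠ 0 := by
    by_contra h
    push Not at h
    exact hA (eq_bot_iff.2 fun a ha => AddSubgroup.mem_bot.2 (h a ha))
  have h := Φ.conj_div_eq M hZ (Φ.A_stable M hd ht hb) hb hb0
  rw [mul_div_assoc, div_self hb0, mul_one, map_mul, map_div₀, H.conj_conj] at h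
  have h1 : (t : F) ≠ 0 := t.ne_zero
  have h2 := H.conj_ne_zero h1
  field_simp at h
  have h3 : H.conj (t : F) ^ 3 = (t : F) ^ 3 := by linear_combination -h
  rw [hc] at h3
  have hq := two_le_of_card hF
  apply Units.ext
  apply mul_right_cancel₀ (pow_ne_zero 3 h1)
  rw [Units.val_pow_eq_pow_val, Units.val_one, one_mul, ← pow_add,
    show 3 * (q - 1) + 3 = q * 3 by omega, pow_mul, h3]

theorem card_le_of_pow_eq_one [Finite F] (K : Subgroup Fˣ) {d : ℕ} (hd : 0 < d)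
    (h : ∀ t ∈ K, t ^ d = 1) : Nat.card K ≤ d := by
  refine le_trans (Subgroup.card_le_of_le (show K ≤ rootsOfUnity d F from fun t ht =>
    (mem_rootsOfUnity d t).2 (h t ht))) ?_
  have : NeZero d := ⟨hd.ne'⟩
  exact card_rootsOfUnity F d

/-- The characteristic and the exponent. -/
theorem exists_prime_pow' [Fintype F] {q : ℕ} (hF : Fintype.card F = q ^ 2) :
    ∃ p f : ℕ, p.Prime ∧ 0 < f ∧ q = p ^ f ∧ CharP F p := by
  obtain ⟨p, hp⟩ := CharP.exists F
  obtain ⟨n, hpp, hn⟩ := FiniteField.card F p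
  obtain ⟨f, -, hf⟩ := (Nat.dvd_prime_pow hpp).1 (show q ∣ p ^ (n : ℕ) by
    rw [← hn, hF]; exact dvd_pow_self q two_ne_zero)
  refine ⟨p, f, hpp, Nat.pos_of_ne_zero fun h => ?_, hf, hp⟩
  have := two_le_of_card hF
  rw [hf, h, pow_zero] at this
  omega

end CfsgLib.MinIndexPSU
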