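import Cfsg.Agent.Lib.MinIndexPSU.Psu
import Cfsg.Agent.Lib.MinIndexPSU.Small

/-!
Proper subgroups of `PSU₃(5)` have index at least fifty.
-/

set_option autoImplicit false

namespace CfsgLib.MinIndexPSU

open Module CfsgLib.Classical.Herm

variable {F : Type*} [Field F] [Fintype F]

theorem fifty_le_index (hF : Fintype.card F = 25) (K : Subgroup (Cfsg.PSU 3 F 5)) (hK : K ≠ ⊤) :
    50 ≤ K.index := by
  have hF' : Fintype.card F = 5 ^ 2 := hF
  by_contra hlt
  push Not at hlt
  obtain ⟨Φ⟩ := exists_frame_std hF'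
  set H := stdHerm hF' 3
  set M := liftUnit hF' K
  have hM := liftUnit_le hF' K
  have hidx := relIndex_liftUnit hF' K
  have hn : M.relIndex (detHom H).ker ≤ 5 ^ 3 := by rw [hidx]; omega
  have hc : ∀ a, H.conj a = a ^ 5 := fun a => rfl
  have hP : Perfectable H := perfectable_std hF' (le_refl 3) (by norm_num)
  have hne : Φ.Z M ≠ skew H := fun h =>
    liftUnit_ne hF' K hK (eq_of_Z_eq finrank_three hF' hc M hM hn hP Φ h)
  have hsk := card_skew hF' hc (H := H)
  have hdvd := AddSubgroup.card_dvd_of_le (Φ.Z_le_skew M)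
  rw [hsk] at hdvd
  have hZ : Φ.Z M = ⊥ := by
    rcases (Nat.dvd_prime Nat.prime_five).1 hdvd with h | h
    · exact AddSubgroup.eq_bot_of_card_eq _ h
    · exact absurd (AddSubgroup.eq_of_le_of_card_ge (Φ.Z_le_skew M) (by rw [hsk, h])) hne
  have heq := Φ.relIndex_mul_card finrank_three hF' hc M hM hn
  rw [hidx, hZ, AddSubgroup.card_bot, mul_one] at heq
  norm_num at heq
  by_cases hA : Φ.A M = ⊥
  · rw [hA, AddSubgroup.card_bot, mul_one] at heq
    have h24 : Nat.card (Φ.K M) ≤ 24 := by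
      refine (Subgroup.card_le_card_group _).trans ?_
      rw [Nat.card_units, Nat.card_eq_fintype_card, hF]
    have := Nat.mul_le_mul (Nat.le_of_lt_succ hlt : K.index ≤ 49) h24
    omega
  · have h5 := Φ.card_A_le M hF' hc hZ
    have h12 : Nat.card (Φ.K M) ≤ 12 := card_le_of_pow_eq_one _ (by norm_num) fun t ht =>
      Φ.pow_eq_one_of_mem_K M hF' hc finrank_three hZ hA ht
    have := Nat.mul_le_mul (Nat.mul_le_mul (Nat.le_of_lt_succ hlt : K.index ≤ 49) h5) h12
    omega

end CfsgLib.MinIndexPSU
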