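import Cfsg.Agent.Lib.MinIndexPSU.Bound

/-!
A point fixed by a transvection group at which the radical invariant is small.
-/

set_option autoImplicit false
set_option linter.unusedSectionVars false

namespace CfsgLib.MinIndexPSU

open Module CfsgLib.Classical.Herm CfsgLib.Classical.Herm.HermSpace
open scoped Pointwise

variable {F V : Type*} [Field F] [Fintype F] [AddCommGroup V] [Module F V] [FiniteDimensional F V]
  {H : HermSpace F V} {e f : V} [hp : Fact (IsHPair H e f)]
  {Ω : Type*} [Finite Ω] [MulAction (rootGen H) Ω] {q : ℕ} (hQ : IsQ H q)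

include hp

omit [Fintype F] [Finite Ω] in
/-- An element `rootG e v l` fixing `x` gives a member of `Rb`. -/
theorem proj2_mem_Rb {x : Ω} {v : V} {l : F} (c : RootCond H e v l)
    (h : rootG H e v l • x = x) : proj2 hp.out v ∈ Rb H e f x := by
  set d := H.h v f with hd
  have hv : v = (proj2 hp.out v : V) + d • e := by
    conv_lhs => rw [decomp2 hp.out v, c.2.1, zero_smul, add_zero, add_comm]
  have c0 : RootCond H e (proj2 hp.out v : V) (l - (H.conj d - d)) := by
    have := rootCond_add_smul (-d) c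
    rw [show v + -d • e = (proj2 hp.out v : V) by
        conv_lhs => rw [hv]
        module,
      map_neg] at this
    rw [show l - (H.conj d - d) = l + (-H.conj d - -d) by ring]
    exact this
  have h' := rootG_add_smul d c0
  rw [← hv, sub_add_cancel] at h'
  exact ⟨_, c0.2.2, by rw [qx, ← h']; exact h⟩

omit [Fintype F] [Finite Ω] hp in
/-- Swapping the two vectors of a short root element. -/
theorem rootG_swap {u v : V} (hu : H.h u u = 0) (hv : H.h v v = 0) (huv : H.h v u = 0) (s : F) :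
    rootG H u (s • v) 0 = rootG H v ((-H.conj s) • u) 0 := by
  have c1 : RootCond H u (s • v) 0 :=
    ⟨hu, by rw [H.smul_left, huv, mul_zero], by rw [H.smul_left, H.smul_right, hv]; simp⟩
  have c2 : RootCond H v ((-H.conj s) • u) 0 :=
    ⟨hv, by rw [H.smul_left, H.h_comm_zero huv, mul_zero],
      by rw [H.smul_left, H.smul_right, hu]; simp⟩
  refine Subtype.ext (unit_ext fun y => ?_)
  rw [rootG_apply c1, rootG_apply c2, H.smul_right, H.smul_right, map_neg, H.conj_conj]
  module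

include hQ

/-- An element fixing the pair, with no fixed vector in the complement, centralising the transvections
at some isotropic vector of the complement. -/
theorem exists_fpf (hd : 5 ≤ finrank F V) : ∃ (u : perp2 H e f) (dg : rootGen H),
    u ≠ 0 ∧ H.h u.1 u.1 = 0 ∧ dg.1.1 e = e ∧ dg.1.1 f = f ∧
    (∀ a : perp2 H e f, dg.1.1 a.1 = a.1 → a = 0) ∧
    ∀ κ ∈ skew H, dg * rootG H u.1 0 κ = rootG H u.1 0 κ * dg := by
  classical
  haveI : Finite V := Module.finite_of_finite F
  have hB := big_of_finrank (H := H) (by omega)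
  have hfd := finrank_perp2 hp.out
  -- the hyperbolic pair and the unit vector in the complement
  have hU3 : 3 ≤ finrank F (perp2 H e f) := by omega
  have hBU := big_of_finrank (H := res hp.out) hU3
  obtain ⟨u, hu0, huu⟩ : ∃ u : perp2 H e f, u ≠ 0 ∧ H.h u.1 u.1 = 0 := by
    obtain ⟨y₁, hy₁⟩ : ∃ y : perp2 H e f, y ≠ 0 := by
      have : Nontrivial (perp2 H e f) :=
        Module.nontrivial_of_finrank_pos (R := F) (show 0 < finrank F (perp2 H e f) by omega)
      exact exists_ne 0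
    by_cases h : H.h y₁.1 y₁.1 = 0
    · exact ⟨y₁, hy₁, h⟩
    · obtain ⟨s, hs⟩ := H.exists_trace (H.conj_diag y₁.1)
      obtain ⟨a, b, pab, -⟩ := exists_pair_of_nonisotropic (H := res hp.out) hBU h hs
      exact ⟨a, pab.left_ne_zero, pab.1⟩
  obtain ⟨u', pu⟩ := exists_isotropic_partner (H := res hp.out) huu hu0
  obtain ⟨y, hyu, hyu', hyy⟩ := exists_unit_orth (H := res hp.out) hBU pu
  have hu'u' : H.h u'.1 u'.1 = 0 := pu.2.1
  have hu'u : H.h u'.1 u.1 = 1 := pu.2.2
  have hyu1 : H.h y.1 u.1 = 0 := hyu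
  have hyu'1 : H.h y.1 u'.1 = 0 := hyu'
  have hyy1 : H.h y.1 y.1 = 1 := hyy
  -- the element `d` without fixed vectors on the complement
  obtain ⟨γ, hγ, hγ1, hγ2⟩ := exists_norm_one_gen hQ
  have hγ0 : γ ≠ 0 := left_ne_zero_of_mul_eq_one hγ
  obtain ⟨c, hc, hc1, hcr⟩ : ∃ c : F, c * H.conj c = 1 ∧ c ≠ 1 ∧
      c ^ 2 * γ ^ (finrank F V - 5) ≠ 1 := by
    by_cases h : γ ^ 2 * γ ^ (finrank F V - 5) = 1
    · refine ⟨γ ^ 2, by rw [map_pow, ← mul_pow, hγ, one_pow], hγ2, fun h' => hγ2 ?_⟩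
      rw [show (γ ^ 2) ^ 2 * γ ^ (finrank F V - 5) = γ ^ 2 * (γ ^ 2 * γ ^ (finrank F V - 5)) by ring,
        h, mul_one] at h'
      exact h'
    · exact ⟨γ, hγ, hγ1, h⟩
  set η := (c ^ 2 * γ ^ (finrank F V - 5))⁻¹ with hη
  have hηn : η * H.conj η = 1 := by
    rw [hη, map_inv₀, ← mul_inv, inv_eq_one, map_mul, map_pow, map_pow,
      show c ^ 2 * γ ^ (finrank F V - 5) * (H.conj c ^ 2 * H.conj γ ^ (finrank F V - 5)) =
        (c * H.conj c) ^ 2 * (γ * H.conj γ) ^ (finrank F V - 5) by ring, hc, hγ, one_pow, one_pow,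
      one_mul]
  have hη1 : η ≠ 1 := fun h => hcr (inv_eq_one.1 h)
  have hc0 : c ≠ 0 := left_ne_zero_of_mul_eq_one hc
  have hη0 : η ≠ 0 := left_ne_zero_of_mul_eq_one hηn
  have hcc : H.conj c = c⁻¹ := eq_inv_of_mul_eq_one_right hc
  have hgc : H.conj γ = γ⁻¹ := eq_inv_of_mul_eq_one_right hγ
  have hec : H.conj η = η⁻¹ := eq_inv_of_mul_eq_one_right hηn
  have pu' : IsHPair H u.1 u'.1 := ⟨huu, hu'u', hu'u⟩
  obtain ⟨sc, hsd, hsa⟩ := exists_scalar (H := H) hγ
  obtain ⟨d1, hd1, hd1e, hd1f, hd1fix⟩ := exists_dil hp.out (inv_ne_zero hγ0)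
  obtain ⟨d2, hd2, hd2u, hd2u', hd2fix⟩ := exists_dil pu' (div_ne_zero hc0 hγ0)
  obtain ⟨d3, hd3, hd3y, hd3fix⟩ := exists_qrefl (H := H) (y := y.1)
    (by rw [hyy1]; exact one_ne_zero) (μ := η / γ)
    (by rw [map_div₀, div_mul_div_comm, hηn, hγ, div_one])
  obtain ⟨dg, hdg⟩ := exists_rootGen hB hp.out (sc * (d1 * (d2 * d3))) (by
    rw [map_mul, map_mul, map_mul, Units.val_mul, Units.val_mul, Units.val_mul, hsd, hd1, hd2, hd3,
      map_inv₀, map_div₀, hcc, hgc, hη]
    obtain ⟨j, hj⟩ : ∃ j, finrank F V = j + 5 := ⟨finrank F V - 5, by omega⟩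
    rw [hj, Nat.add_sub_cancel]
    field_simp
    ring)
  have hye := (mem_perp2.1 y.2).1
  have hyf := (mem_perp2.1 y.2).2
  have hue := (mem_perp2.1 u.2).1
  have huf := (mem_perp2.1 u.2).2
  have hu'e := (mem_perp2.1 u'.2).1
  have hu'f := (mem_perp2.1 u'.2).2
  have hde : dg.1.1 e = e := by
    rw [hdg, mul_apply, mul_apply, mul_apply, hd3fix e (H.h_comm_zero hye),
      hd2fix e (H.h_comm_zero hue) (H.h_comm_zero hu'e), hd1e, map_smul, hsa, smul_smul,
      inv_mul_cancel₀ hγ0, one_smul]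
  have hdf : dg.1.1 f = f := by
    rw [hdg, mul_apply, mul_apply, mul_apply, hd3fix f (H.h_comm_zero hyf),
      hd2fix f (H.h_comm_zero huf) (H.h_comm_zero hu'f), hd1f, map_smul, hsa, smul_smul, map_inv₀,
      hgc, inv_inv, inv_mul_cancel₀ hγ0, one_smul]
  have hdu : dg.1.1 u.1 = c • u.1 := by
    rw [hdg, mul_apply, mul_apply, mul_apply, hd3fix u.1 (H.h_comm_zero hyu1), hd2u, map_smul,
      map_smul, hd1fix u.1 hue huf, hsa, smul_smul, div_mul_cancel₀ _ hγ0]
  have hdu' : dg.1.1 u'.1 = c • u'.1 := by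
    rw [hdg, mul_apply, mul_apply, mul_apply, hd3fix u'.1 (H.h_comm_zero hyu'1), hd2u', map_smul,
      map_smul, hd1fix u'.1 hu'e hu'f, hsa, smul_smul, map_div₀, hcc, hgc]
    congr 1
    field_simp
  have hdy : dg.1.1 y.1 = η • y.1 := by
    rw [hdg, mul_apply, mul_apply, mul_apply, hd3y, map_smul, map_smul, map_smul,
      hd2fix y.1 hyu1 hyu'1, hd1fix y.1 hye hyf, hsa, smul_smul, div_mul_cancel₀ _ hγ0]
  have hfpf : ∀ a : perp2 H e f, dg.1.1 a.1 = a.1 → a = 0 := by
    intro a ha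
    have hz : ∀ (w : V) (r : F), r * H.conj r = 1 → r ≠ 1 → dg.1.1 w = r • w → H.h a.1 w = 0 := by
      intro w r hr hr1 hw
      have h := unit_h dg.1 a.1 w
      rw [ha, hw, H.smul_right] at h
      have : (H.conj r - 1) * H.h a.1 w = 0 := by linear_combination h
      refine (mul_eq_zero.1 this).resolve_left fun h1 => hr1 ?_
      rw [← H.conj_conj r, sub_eq_zero.1 h1, map_one]
    have hau := hz u.1 c hc hc1 hdu
    have hau' := hz u'.1 c hc hc1 hdu'
    have hay := hz y.1 η hηn hη1 hdy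
    rw [hdg, mul_apply, mul_apply, mul_apply, hd3fix a.1 hay, hd2fix a.1 hau hau',
      hd1fix a.1 (mem_perp2.1 a.2).1 (mem_perp2.1 a.2).2, hsa] at ha
    have : (γ - 1) • a.1 = 0 := by rw [sub_smul, one_smul, ha, sub_self]
    exact Subtype.ext ((smul_eq_zero.1 this).resolve_left (sub_ne_zero.2 hγ1))
  refine ⟨u, dg, hu0, huu, hde, hdf, hfpf, fun κ hκ => ?_⟩
  rw [← mul_inv_eq_iff_eq_mul, rootG_conj, map_zero, hdu, rootG_smul hc0
    (rootCond_skew (by rw [H.smul_left, H.smul_right, huu]; ring) hκ), smul_zero, hc, one_mul]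

/-- A transvection at `u` cannot act on a moved point as a non-trivial transvection at `e`. -/
theorem no_twisted_transvection (hd : 3 ≤ finrank F V)
    (hR : ∀ x : Ω, ¬ ZFix H e x → Rb H e f x = ⊥) {ω₀ : Ω} (hR₀ : Rb H e f ω₀ = ⊥)
    {u : perp2 H e f} (hu0 : u ≠ 0) (huu : H.h u.1 u.1 = 0) {κ l' : F} (hκ : κ ∈ skew H)
    (hκ0 : κ ≠ 0) (hl' : l' ∈ skew H) (ht : rootG H u.1 0 κ • ω₀ = rootG H e 0 l' • ω₀) :
    l' = 0 := by
  classical
  by_contra hl0
  haveI : Finite V := Module.finite_of_finite F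
  have hB := big_of_finrank (H := H) hd
  have hue := (mem_perp2.1 u.2).1
  have huf := (mem_perp2.1 u.2).2
  -- `x = z_e(-l') t` lies in the radical of another isotropic point
  set c' := -l' with hc'
  have hc's : c' ∈ skew H := neg_mem hl'
  have hc'0 : c' ≠ 0 := neg_ne_zero.2 hl0
  have hcc' : H.conj c' = -c' := eq_neg_of_add_eq_zero_right (mem_skew.1 hc's)
  obtain ⟨β, hβ⟩ := H.norm_surj (-κ / c') (by
    rw [map_div₀, map_neg, eq_neg_of_add_eq_zero_right (mem_skew.1 hκ), hcc', neg_neg, div_neg,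
      neg_div])
  have hβ0 : β ≠ 0 := fun h => by
    rw [h, zero_mul, eq_comm, div_eq_zero_iff] at hβ
    rcases hβ with h1 | h1
    · exact hκ0 (neg_eq_zero.1 h1)
    · exact hc'0 h1
  set w := e + β • u.1 with hw
  have hww : H.h w w = 0 := by
    rw [hw, H.add_left, H.add_right, H.add_right, H.smul_left, H.smul_left, H.smul_right,
      H.smul_right, hp.out.1, huu, hue, H.h_comm_zero hue]; ring
  set a₁ := (-(c' * β)) • u.1 with ha₁
  have cw : RootCond H w a₁ c' := by
    refine ⟨hww, ?_, ?_⟩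
    · rw [ha₁, hw, H.smul_left, H.add_right, H.smul_right, hue, huu]; ring
    · rw [ha₁, H.smul_left, H.smul_right, huu, hcc']; ring
  have hxfix : rootG H w a₁ c' • ω₀ = ω₀ := by
    have hx : rootG H w a₁ c' = rootG H e 0 c' * rootG H u.1 0 κ := by
      refine Subtype.ext (unit_ext fun z => ?_)
      rw [Subgroup.coe_mul, mul_apply, rootG_apply cw, rootG_apply (rootCond_skew hp.out.1 hc's),
        rootG_apply (rootCond_skew huu hκ)]
      have hκe : κ = -(c' * (β * H.conj β)) := by rw [hβ]; field_simp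
      simp only [H.zero_right, smul_zero, add_zero, neg_zero, zero_add, H.add_left, H.smul_left,
        hw, ha₁, H.add_right, H.smul_right, map_neg, map_mul, hcc', hue, H.h_comm_zero hue]
      rw [hκe]
      module
    rw [hx, mul_smul, ht, ← mul_smul, rootG_mul (rootCond_skew hp.out.1 hc's)
      (rootCond_skew hp.out.1 hl'), add_zero, H.zero_left, sub_zero, hc', neg_add_cancel,
      rootG_zero, one_smul]
  by_cases hwfix : ZFix H w ω₀
  · have hdd : a₁ = c' • e + (-c') • w := by rw [ha₁, hw]; module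
    have c2 : RootCond H w (c' • e) (-c') := by
      refine ⟨hww, ?_, ?_⟩
      · rw [H.smul_left, hw, H.add_right, H.smul_right, hp.out.1, H.h_comm_zero hue]; ring
      · rw [H.smul_left, H.smul_right, hp.out.1, map_neg, hcc']; ring
    have e3 := rootG_add_smul (-c') c2
    rw [← hdd, map_neg, hcc', show -c' + (- -c' - -c') = c' by ring] at e3
    rw [e3] at hxfix
    have m := rootG_mul c2 (rootCond_skew hww hc's)
    rw [add_zero, neg_add_cancel, H.zero_left, sub_zero] at m
    have h4 : rootG H w (c' • e) 0 • ω₀ = ω₀ := by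
      rw [← m, mul_smul, hwfix c' hc's, hxfix]
    rw [rootG_swap hww hp.out.1 (by
      rw [hw, H.add_right, H.smul_right, hp.out.1, H.h_comm_zero hue]; ring) c', hcc', neg_neg] at h4
    have c3 : RootCond H e (c' • w) 0 := by
      refine ⟨hp.out.1, ?_, ?_⟩
      · rw [H.smul_left, hw, H.add_left, H.smul_left, hp.out.1, hue]; ring
      · rw [H.smul_left, H.smul_right, hww]; simp
    have h5 := proj2_mem_Rb (f := f) c3 h4
    rw [hR₀, AddSubgroup.mem_bot, proj2_smul, smul_eq_zero, or_iff_right hc'0, hw, proj2_add,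
      proj2_smul, show proj2 hp.out e = 0 from Subtype.ext (by
        rw [proj2_coe, hp.out.1, h_e_f hp.out]; simp), zero_add, smul_eq_zero, or_iff_right hβ0,
      proj2_of_mem] at h5
    exact hu0 h5
  · have hw0 : w ≠ 0 := fun h => by
      have h1 : H.h w f = 1 := by
        rw [hw, H.add_left, H.smul_left, h_e_f hp.out, huf, mul_zero, add_zero]
      rw [h, H.zero_left] at h1
      exact zero_ne_one h1
    obtain ⟨g, hg, hgw⟩ := rootGen_transitive hB hww hw0 hp.out.1 hp.out.left_ne_zero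
    set G : rootGen H := ⟨g, hg⟩
    have hGw : G.1.1 w = e := hgw
    have hmv : ¬ ZFix H e (G • ω₀) := fun h => hwfix (by
      rw [← hGw] at h; exact (zFix_map G w ω₀).1 h)
    have c4 : RootCond H e (G.1.1 a₁) c' := by
      have := cw.map G.1
      rwa [hGw] at this
    have h6 : rootG H e (G.1.1 a₁) c' • (G • ω₀) = G • ω₀ := by
      rw [← hGw, ← rootG_conj, conj_smul_smul, hxfix]
    have h7 := proj2_mem_Rb (f := f) c4 h6
    rw [hR _ hmv, AddSubgroup.mem_bot] at h7
    have h8 : G.1.1 a₁ = H.h (G.1.1 a₁) f • e := by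
      conv_lhs => rw [decomp2 hp.out (G.1.1 a₁), h7, c4.2.1]
      simp
    rw [← hGw, ← map_smul] at h8
    have h9 := (G.1.1).injective h8
    rw [ha₁, hw] at h9
    have h10 := congrArg (fun z => H.h z f) h9
    simp only [H.smul_left, H.add_left, huf, h_e_f hp.out, mul_zero, add_zero, mul_one] at h10
    rw [← h10, zero_smul] at h9
    exact hu0 (Subtype.ext ((smul_eq_zero.1 h9).resolve_left
      (neg_ne_zero.2 (mul_ne_zero hc'0 hβ0))))

/-- Transfer of a point fixed at `u` to one fixed at `e`. -/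
theorem fixed_transfer (hd : 3 ≤ finrank F V) {ω₀ : Ω} (hR₀ : Rb H e f ω₀ = ⊥)
    {u : perp2 H e f} (hu0 : u ≠ 0) (huu : H.h u.1 u.1 = 0) (hZu : ZFix H u.1 ω₀) :
    ∃ z : Ω, ZFix H e z ∧ q ^ 2 * Nat.card (Rb H e f z) ≤ Nat.card (perp2 H e f) := by
  classical
  haveI : Finite V := Module.finite_of_finite F
  have hB := big_of_finrank (H := H) hd
  have hue := (mem_perp2.1 u.2).1
  have huf := (mem_perp2.1 u.2).2
  obtain ⟨g, hg, hgu⟩ := rootGen_transitive hB huu (fun h => hu0 (Subtype.ext h)) hp.out.1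
    hp.out.left_ne_zero
  set G : rootGen H := ⟨g, hg⟩
  have hGu : G.1.1 u.1 = e := hgu
  have hzfix : ZFix H e (G • ω₀) := by rw [← hGu]; exact (zFix_map G u.1 ω₀).2 hZu
  refine ⟨G • ω₀, hzfix, ?_⟩
  set v := G.1.1 e with hv
  have hve : H.h v e = 0 := by
    have h1 := unit_h G.1 e u.1
    rw [hGu] at h1
    rw [hv, h1, H.h_comm_zero hue]
  have hinvu : (G⁻¹).1.1 e = u.1 := by
    conv_lhs => rw [← hGu]
    exact inv_smul_vec G _
  have hvv : H.h v v = 0 := by rw [hv, unit_h, hp.out.1]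
  set v' := proj2 hp.out v with hv'
  have hv'0 : v' ≠ 0 := fun h => by
    have h8 : v = H.h v f • e := by
      conv_lhs => rw [decomp2 hp.out v, ← hv', h, hve]
      simp
    have h9 := congrArg (G⁻¹).1.1 h8
    rw [map_smul, hinvu] at h9
    rw [hv, inv_smul_vec] at h9
    have h10 := congrArg (fun z => H.h z f) h9
    simp only [H.smul_left, huf, h_e_f hp.out, mul_zero] at h10
    exact one_ne_zero h10
  have hnot : ∀ s : F, s • v' ∈ Rb H e f (G • ω₀) → s = 0 := by
    intro s hs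
    by_contra hs0
    obtain ⟨l, hl, hfix⟩ := hs
    set d0 := s * H.h v f
    have hsv : s • v = ((s • v' : perp2 H e f) : V) + d0 • e := by
      conv_lhs => rw [decomp2 hp.out v, hve, ← hv']
      rw [Submodule.coe_smul]
      module
    have e1 := rootG_add_smul d0 hl.rootCond
    have c6' := rootCond_add_smul d0 hl.rootCond
    rw [← hsv] at e1 c6'
    generalize l + (H.conj d0 - d0) = lv at e1 c6'
    have h1 : rootG H e (s • v) lv • (G • ω₀) = G • ω₀ := by rw [e1]; exact hfix
    have h2 : rootG H u.1 (s • e) lv • ω₀ = ω₀ := by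
      rw [← hinvu, show s • e = (G⁻¹).1.1 (s • v) by rw [map_smul, hv, inv_smul_vec], ← rootG_conj,
        inv_inv, mul_smul, mul_smul, h1, inv_smul_smul]
    have c6 : RootCond H u.1 (s • e) lv := by
      have := c6'.map (G⁻¹).1
      rw [hinvu, map_smul, hv, inv_smul_vec] at this
      exact this
    have hlv : lv ∈ skew H := by
      have h3 := c6.2.2
      rw [H.smul_left, H.smul_right, hp.out.1, mul_zero, mul_zero, add_zero] at h3
      exact h3
    have m := rootG_mul c6 (rootCond_skew huu (neg_mem hlv))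
    rw [add_zero, add_neg_cancel, H.zero_left, sub_zero] at m
    have h4 : rootG H u.1 (s • e) 0 • ω₀ = ω₀ := by
      rw [← m, mul_smul, hZu _ (neg_mem hlv), h2]
    rw [rootG_swap huu hp.out.1 (H.h_comm_zero hue) s] at h4
    have c7 : RootCond H e ((-H.conj s) • u.1) 0 := by
      refine ⟨hp.out.1, by rw [H.smul_left, hue, mul_zero], ?_⟩
      rw [H.smul_left, H.smul_right, huu]; simp
    have h5 := proj2_mem_Rb (f := f) c7 h4
    rw [hR₀, AddSubgroup.mem_bot, proj2_smul, proj2_of_mem, smul_eq_zero] at h5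
    rcases h5 with h5 | h5
    · exact H.conj_ne_zero hs0 (neg_eq_zero.1 h5)
    · exact hu0 h5
  have hcardF : Nat.card F = q ^ 2 := by rw [Nat.card_eq_fintype_card, hQ.card]
  rw [mul_comm, ← hcardF, ← Nat.card_prod]
  refine Nat.card_le_card_of_injective (fun z => z.1.1 + z.2 • v') fun z z' h => ?_
  have h0 : z.1.1 + z.2 • v' = z'.1.1 + z'.2 • v' := h
  have h1 : (z'.2 - z.2) • v' ∈ Rb H e f (G • ω₀) := by
    rw [show (z'.2 - z.2) • v' = z.1.1 - z'.1.1 by
      linear_combination (norm := module) -h0]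
    exact sub_mem z.1.2 z'.1.2
  have h2 := sub_eq_zero.1 (hnot _ h1)
  rw [h2, add_left_inj] at h0
  exact Prod.ext (Subtype.ext h0) h2.symm


/-- A point fixed by a transvection group whose radical invariant is small. -/
theorem exists_fixed_small (hd : 5 ≤ finrank F V)
    (hsmall : Nat.card Ω < 2 * (Nat.card (perp2 H e f) * q))
    (hR : ∀ x : Ω, ¬ ZFix H e x → Rb H e f x = ⊥) {x₀ : Ω} (hx₀ : ¬ ZFix H e x₀) :
    ∃ z : Ω, ZFix H e z ∧ q ^ 2 * Nat.card (Rb H e f z) ≤ Nat.card (perp2 H e f) := by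
  classical
  haveI : Finite V := Module.finite_of_finite F
  have hB := big_of_finrank (H := H) (by omega)
  have hfd := finrank_perp2 hp.out
  -- the orbit of `x₀` is invariant under Levi elements
  have hinv : ∀ g : Lz H e f, g.1 • x₀ ∈ MulAction.orbit (Qs H e f) x₀ := by
    intro g
    by_contra hne
    have h1 : ¬ ZFix H e (g.1 • x₀) := fun h =>
      hx₀ ((zFix_iff e x₀).2 (by rw [← Wc_lz g x₀]; exact (zFix_iff e _).1 h))
    have := card_moved_two hQ (by omega) hx₀ (Wc_lz g x₀) (hR _ hx₀) (hR _ h1) hne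
    exact absurd (lt_of_le_of_lt (le_trans this (Set.ncard_le_card _)) hsmall) (lt_irrefl _)
  obtain ⟨u, dg, hu0, huu, hde, hdf, hfpf, hcommAll⟩ := exists_fpf hQ (e := e) (f := f) hd
  have hue := (mem_perp2.1 u.2).1
  have huf := (mem_perp2.1 u.2).2
  obtain ⟨dz, hdz, hdza⟩ := exists_lz (e := e) (f := f) hde hdf
  -- a coset fixed by `d`
  obtain ⟨kd, hkd⟩ := hinv dz
  obtain ⟨b, lb, hb, hkb⟩ := kd.2
  let φ : perp2 H e f → perp2 H e f := fun a => a - dz • a
  have hφ : Function.Injective φ := fun a a' h => by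
    refine sub_eq_zero.1 (hfpf (a - a') ?_)
    have h' : dz • (a - a') = a - a' := by
      rw [smul_sub]
      have h1 : a - dz • a = a' - dz • a' := h
      exact (sub_eq_sub_iff_sub_eq_sub.1 h1).symm
    rw [← hdza]
    exact congrArg Subtype.val h'
  obtain ⟨a, ha⟩ := Finite.injective_iff_surjective.1 hφ b
  obtain ⟨la, hla⟩ := exists_cd a
  set ω₀ := qx a la • x₀ with hω₀
  have hq1 : (⟨qx a la, a, la, hla, rfl⟩ : Qs H e f) • x₀ = ω₀ := rfl
  have hω₀mem : ω₀ ∈ MulAction.orbit (Qs H e f) x₀ := ⟨⟨qx a la, a, la, hla, rfl⟩, rfl⟩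
  have hω₀mov : ¬ ZFix H e ω₀ := fun h => hx₀ <| by
    rw [zFix_iff] at h ⊢
    rw [← h, ← hq1]
    exact (Rb_smul_Qs ((⟨qx a la, a, la, hla, rfl⟩ : Qs H e f)).2 x₀).2.symm
  have hR₀ := hR ω₀ hω₀mov
  -- `d` fixes the coset
  have hdω : ∃ δ ∈ skew H, dg • ω₀ = rootG H e 0 δ • ω₀ := by
    obtain ⟨h1, h2⟩ := (coef_spec dz).2.conj_qx hla
    have hx : dz.1 • x₀ = qx b lb • x₀ := by rw [← hkb]; exact hkd.symm
    have e1 : dg • ω₀ = (qx (dz • a) (coef dz * H.conj (coef dz) * la) * qx b lb) • x₀ := by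
      rw [hω₀, mul_smul, ← hx, lz_smul, ← h2, conj_smul_smul, hdz]
    rw [lz_smul, qx_mul h1 hb] at e1
    have hab : (coef_spec dz).2.act a + b = a := by
      show dz • a + b = a
      rw [← ha]; exact add_sub_cancel _ _
    have hcd := h1.add hb
    rw [hab] at e1 hcd
    generalize coef dz * H.conj (coef dz) * la + lb - H.h b.1 (dz • a : perp2 H e f).1 = l2 at e1 hcd
    have hδ : l2 - la ∈ skew H := by
      have h' : la + H.conj la + H.h a.1 a.1 = 0 := hla
      have h'' : l2 + H.conj l2 + H.h a.1 a.1 = 0 := hcd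
      rw [mem_skew, map_sub]; linear_combination h'' - h'
    refine ⟨_, hδ, ?_⟩
    rw [e1, hω₀, ← mul_smul]
    have := qx_mul (cd_zero_iff.2 hδ) hla
    simp only [qx, zero_add, Submodule.coe_zero, H.zero_right, sub_zero, sub_add_cancel] at this
    rw [this]
  obtain ⟨δ, hδ, hdω⟩ := hdω
  clear_value ω₀
  -- every transvection at `u` fixes the coset, hence the point
  have hZu : ZFix H u.1 ω₀ := by
    intro κ hκ
    by_cases hκ0 : κ = 0
    · rw [hκ0, rootG_zero, one_smul]
    obtain ⟨tz, htz, htza⟩ := exists_lz (e := e) (f := f) (g := rootG H u.1 0 κ)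
      (by rw [rootG_apply (rootCond_skew huu hκ), H.h_comm_zero hue, H.zero_right]; simp)
      (by rw [rootG_apply (rootCond_skew huu hκ), H.h_comm_zero huf, H.zero_right]; simp)
    have hmem : tz.1 • ω₀ ∈ MulAction.orbit (Qs H e f) x₀ := by
      obtain ⟨k1, hk1⟩ := hinv tz
      obtain ⟨h1, h2⟩ := (coef_spec tz).2.conj_qx hla
      refine ⟨(⟨qx ((coef_spec tz).2.act a) (coef tz * H.conj (coef tz) * la), _, _, h1, rfl⟩ :
        Qs H e f) * k1, ?_⟩
      show (qx ((coef_spec tz).2.act a) (coef tz * H.conj (coef tz) * la) * k1.1) • x₀ = _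
      rw [mul_smul, show k1.1 • x₀ = tz.1 • x₀ from hk1, ← h2, conj_smul_smul, hω₀]
    rw [← MulAction.orbit_eq_iff.2 hω₀mem] at hmem
    obtain ⟨⟨_, b', l', hb', rfl⟩, hk2⟩ := hmem
    have ht : rootG H u.1 0 κ • ω₀ = qx b' l' • ω₀ := by rw [← htz]; exact hk2.symm
    -- commutation with `d`
    have hcomm := hcommAll κ hκ
    have hb'0 : b' = 0 := by
      obtain ⟨h1, h2⟩ := (coef_spec dz).2.conj_qx hb'
      set μ := coef dz * H.conj (coef dz) * l'
      have hzk : rootG H u.1 0 κ * rootG H e 0 δ = rootG H e 0 δ * rootG H u.1 0 κ := by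
        rw [← mul_inv_eq_iff_eq_mul, rootG_conj, map_zero,
          rootG_apply (rootCond_skew huu hκ), H.h_comm_zero hue, H.zero_right]
        simp
      have e1 : qx (dz • b') μ • rootG H e 0 δ • ω₀ = rootG H e 0 δ • qx b' l' • ω₀ := by
        rw [lz_smul, ← h2, ← hdω, hdz, conj_smul_smul, ← ht, ← mul_smul, hcomm, mul_smul, hdω,
          ← mul_smul, hzk, mul_smul]
      have h0 : Cd (0 : perp2 H e f) δ := cd_zero_iff.2 hδ
      have m1 := qx_mul h1 h0
      have m2 := qx_mul h0 hb'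
      simp only [qx, zero_add, add_zero, Submodule.coe_zero, H.zero_left, H.zero_right, sub_zero] at m1 m2
      rw [lz_smul] at e1
      simp only [qx] at e1
      rw [← mul_smul, ← mul_smul, m1, m2] at e1
      have c1 : Cd ((coef_spec dz).2.act b') (μ + δ) := by
        have := h1.add h0; simp only [add_zero, Submodule.coe_zero, H.zero_left, sub_zero] at this
        exact this
      have c2 : Cd b' (δ + l') := by
        have := h0.add hb'; simp only [zero_add, Submodule.coe_zero, H.zero_right, sub_zero] at this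
        exact this
      have e2 : (qx b' (δ + l'))⁻¹ * qx ((coef_spec dz).2.act b') (μ + δ) ∈ MulAction.stabilizer _ ω₀ := by
        rw [MulAction.mem_stabilizer_iff, mul_smul, inv_smul_eq_iff]; exact e1
      rw [qx_inv c2, qx_mul c2.neg c1, MulAction.mem_stabilizer_iff] at e2
      have hmemR : -b' + (coef_spec dz).2.act b' ∈ Rb H e f ω₀ := ⟨_, c2.neg.add c1, e2⟩
      rw [hR₀, AddSubgroup.mem_bot, neg_add_eq_zero] at hmemR
      exact hfpf b' (by rw [← hdza]; exact congrArg Subtype.val hmemR.symm)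
    subst hb'0
    have hl' : l' ∈ skew H := cd_zero_iff.1 hb'
    simp only [qx, Submodule.coe_zero] at ht
    rw [ht, no_twisted_transvection hQ (by omega) hR hR₀ hu0 huu hκ hκ0 hl' ht, rootG_zero,
      one_smul]
  exact fixed_transfer hQ (by omega) hR₀ hu0 huu hZu

end CfsgLib.MinIndexPSU
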