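import Cfsg.Agent.Lib.Classical.Herm.Basic
import Cfsg.Agent.Lib.Classical.Herm.ThreeTI
import Mathlib.LinearAlgebra.Matrix.Basis
import Mathlib.LinearAlgebra.Determinant

/-!
Frames of a three-dimensional Hermitian space: root elements and torus elements at an isotropic
vector in coordinates.
-/

set_option autoImplicit false

namespace CfsgLib.MinIndexPSU

open Module CfsgLib.Classical.Herm CfsgLib.Classical.Herm.HermSpace

variable {F V : Type*} [Field F] [AddCommGroup V] [Module F V] [FiniteDimensional F V]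
  {H : HermSpace F V}

/-- A hyperbolic pair and a unit vector orthogonal to both. -/
structure Frame (H : HermSpace F V) where
  e : V
  f : V
  k : V
  pair : IsHPair H e f
  kk : H.h k k = 1
  ke : H.h k e = 0
  kf : H.h k f = 0

variable (hd : finrank F V = 3)
include hd

/-- Every hyperbolic pair extends to a frame. -/
theorem exists_frame {e f : V} (p : IsHPair H e f) : ∃ Φ : Frame H, Φ.e = e ∧ Φ.f = f := by
  obtain ⟨w, hw0, hwe, hwf⟩ := big_of_finrank (H := H) hd.ge e f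
  have hww : H.h w w ≠ 0 := by
    intro h
    obtain ⟨c, hc⟩ := eq_smul_of_isotropic hd p.left_ne_zero p.1 h (H.h_comm_zero hwe)
    rw [hc, H.smul_left, H.h_comm_one p.2.2, mul_one] at hwf
    exact hw0 (by rw [hc, hwf, zero_smul])
  obtain ⟨t, ht⟩ := H.norm_surj _ (H.conj_diag w)
  have ht0 : t ≠ 0 := fun h => hww (by rw [← ht, h, zero_mul])
  refine ⟨⟨e, f, t⁻¹ • w, p, ?_, ?_, ?_⟩, rfl, rfl⟩
  · rw [H.smul_left, H.smul_right, map_inv₀, ← ht]
    have := H.conj_ne_zero ht0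
    field_simp
  · rw [H.smul_left, hwe, mul_zero]
  · rw [H.smul_left, hwf, mul_zero]

namespace Frame

variable (Φ : Frame H)

omit hd [FiniteDimensional F V]

theorem ee : H.h Φ.e Φ.e = 0 := Φ.pair.1
theorem ff : H.h Φ.f Φ.f = 0 := Φ.pair.2.1
theorem fe : H.h Φ.f Φ.e = 1 := Φ.pair.2.2
theorem ef : H.h Φ.e Φ.f = 1 := H.h_comm_one Φ.pair.2.2
theorem ek : H.h Φ.e Φ.k = 0 := H.h_comm_zero Φ.ke
theorem fk : H.h Φ.f Φ.k = 0 := H.h_comm_zero Φ.kf
theorem e_ne : Φ.e ≠ 0 := Φ.pair.left_ne_zero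
theorem f_ne : Φ.f ≠ 0 := Φ.pair.swap.left_ne_zero
theorem k_ne : Φ.k ≠ 0 := fun h => by
  have := Φ.kk
  rw [h, H.zero_left] at this
  exact zero_ne_one this

/-- The vector with given coordinates. -/
def vec (a b c : F) : V := a • Φ.e + b • Φ.f + c • Φ.k

theorem h_vec_f (a b c : F) : H.h (Φ.vec a b c) Φ.f = a := by
  simp [vec, H.add_left, H.smul_left, Φ.ef, Φ.ff, Φ.kf]

theorem h_vec_e (a b c : F) : H.h (Φ.vec a b c) Φ.e = b := by
  simp [vec, H.add_left, H.smul_left, Φ.fe, Φ.ee, Φ.ke]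

theorem h_vec_k (a b c : F) : H.h (Φ.vec a b c) Φ.k = c := by
  simp [vec, H.add_left, H.smul_left, Φ.ek, Φ.fk, Φ.kk]

theorem h_vec_vec (a b c a' b' c' : F) :
    H.h (Φ.vec a b c) (Φ.vec a' b' c') = a * H.conj b' + b * H.conj a' + c * H.conj c' := by
  simp only [vec, H.add_left, H.add_right, H.smul_left, H.smul_right, Φ.ee, Φ.ff, Φ.fe, Φ.ef,
    Φ.ek, Φ.fk, Φ.ke, Φ.kf, Φ.kk]
  ring

include hd in
theorem eq_vec [FiniteDimensional F V] (x : V) :
    x = Φ.vec (H.h x Φ.f) (H.h x Φ.e) (H.h x Φ.k) := by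
  have hind : ∀ c : F, c • Φ.f ≠ Φ.e := fun c hc => by
    have h := Φ.ef
    rw [← hc, H.smul_left, Φ.ff, mul_zero] at h
    exact zero_ne_one h
  set y := x - Φ.vec (H.h x Φ.f) (H.h x Φ.e) (H.h x Φ.k) with hy
  have hyf : H.h y Φ.f = 0 := by rw [hy, H.sub_left, h_vec_f, sub_self]
  have hye : H.h y Φ.e = 0 := by rw [hy, H.sub_left, h_vec_e, sub_self]
  have hyk : H.h y Φ.k = 0 := by rw [hy, H.sub_left, h_vec_k, sub_self]
  obtain ⟨c, hc⟩ := exists_smul_of_mem_perp₂ hd Φ.f_ne hind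
    (mem_perp₂.2 ⟨Φ.ke, Φ.kf⟩ : Φ.k ∈ perp₂ H Φ.e Φ.f) Φ.k_ne (mem_perp₂.2 ⟨hye, hyf⟩)
  rw [hc, H.smul_left, Φ.kk, mul_one] at hyk
  exact sub_eq_zero.1 (by rw [← hy, hc, hyk, zero_smul])

include hd in
theorem map_ext [FiniteDimensional F V] {g g' : Unit' H} (he : g.1 Φ.e = g'.1 Φ.e)
    (hf : g.1 Φ.f = g'.1 Φ.f) (hk : g.1 Φ.k = g'.1 Φ.k) : g = g' := unit_ext fun x => by
  rw [Φ.eq_vec hd x]
  simp only [vec, map_add, map_smul, he, hf, hk]

/-- Coordinates. -/
noncomputable def coords [FiniteDimensional F V] : V ≃ₗ[F] Fin 3 → F where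
  toFun x := ![H.h x Φ.f, H.h x Φ.e, H.h x Φ.k]
  map_add' x y := by ext i; fin_cases i <;> simp [H.add_left]
  map_smul' c x := by ext i; fin_cases i <;> simp [H.smul_left]
  invFun v := Φ.vec (v 0) (v 1) (v 2)
  left_inv x := (Φ.eq_vec hd x).symm
  right_inv v := by ext i; fin_cases i <;> simp [h_vec_e, h_vec_f, h_vec_k]

include hd in
theorem det_diag [FiniteDimensional F V] {g : Unit' H} {a b c : F} (he : g.1 Φ.e = a • Φ.e)
    (hf : g.1 Φ.f = b • Φ.f) (hk : g.1 Φ.k = c • Φ.k) : (detHom H g : F) = a * b * c := by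
  show (LinearEquiv.det g.1 : F) = _
  let β := Basis.ofEquivFun (Φ.coords hd)
  have h0 : β 0 = Φ.e := by simp [β, coords, vec]
  have h1 : β 1 = Φ.f := by simp [β, coords, vec]
  have h2 : β 2 = Φ.k := by simp [β, coords, vec]
  have hg : ∀ i, g.1 (β i) = ![a, b, c] i • β i := by
    intro i; fin_cases i <;> simp [h0, h1, h2, he, hf, hk]
  rw [LinearEquiv.coe_det, ← LinearMap.det_toMatrix β,
    show LinearMap.toMatrix β β (g.1 : V →ₗ[F] V) = Matrix.diagonal ![a, b, c] from ?_,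
    Matrix.det_diagonal, Fin.prod_univ_three]
  · rfl
  · ext i j
    rw [LinearMap.toMatrix_apply, LinearEquiv.coe_coe, hg, map_smul, Basis.repr_self]
    by_cases hij : i = j
    · subst hij; simp
    · simp [Matrix.diagonal_apply_ne _ hij, Finsupp.single_eq_of_ne, hij]

/-- The parameters of root elements at `e`. -/
def IsPar (H : HermSpace F V) (a l : F) : Prop := l + H.conj l + a * H.conj a = 0

theorem rootCond {a l : F} (h : IsPar H a l) : RootCond H Φ.e (a • Φ.k) l :=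
  ⟨Φ.ee, by rw [H.smul_left, Φ.ke, mul_zero], by
    rw [H.smul_left, H.smul_right, Φ.kk, mul_one]; exact h⟩

theorem isPar_add {a l b m : F} (h : IsPar H a l) (h' : IsPar H b m) :
    IsPar H (a + b) (l + m - b * H.conj a) := by
  unfold IsPar at *
  simp only [map_add, map_sub, map_mul, H.conj_conj]
  linear_combination h + h'

/-- The root element with parameters `(a, l)`. -/
def uel (a l : F) (h : IsPar H a l) : Unit' H := root H Φ.e (a • Φ.k) l (Φ.rootCond h)

theorem uel_congr {a l a' l' : F} (h : IsPar H a l) (h' : IsPar H a' l') (ea : a = a')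
    (el : l = l') : Φ.uel a l h = Φ.uel a' l' h' := by
  subst ea el; rfl

theorem uel_apply_e {a l : F} (h : IsPar H a l) : (Φ.uel a l h).1 Φ.e = Φ.e := by
  simp [uel, root_apply, Φ.ee, H.smul_right, Φ.ek]

theorem uel_apply_f {a l : F} (h : IsPar H a l) :
    (Φ.uel a l h).1 Φ.f = Φ.vec l 1 a := by
  simp [uel, root_apply, Φ.fe, H.smul_right, Φ.fk, vec]
  abel

theorem uel_apply_k {a l : F} (h : IsPar H a l) :
    (Φ.uel a l h).1 Φ.k = Φ.vec (-H.conj a) 0 1 := by
  simp [uel, root_apply, Φ.ke, H.smul_right, Φ.kk, vec]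
  abel

theorem uel_mul {a l b m : F} (h : IsPar H a l) (h' : IsPar H b m) :
    Φ.uel a l h * Φ.uel b m h' = Φ.uel (a + b) (l + m - b * H.conj a) (isPar_add h h') := by
  rw [uel, uel, root_mul]
  refine root_congr _ _ rfl (by rw [add_smul]) ?_
  rw [H.smul_left, H.smul_right, Φ.kk, mul_one]

theorem uel_inj {a l a' l' : F} (h : IsPar H a l) (h' : IsPar H a' l')
    (he : Φ.uel a l h = Φ.uel a' l' h') : a = a' ∧ l = l' := by
  have := congrArg (fun g : Unit' H => g.1 Φ.f) he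
  simp only [uel_apply_f] at this
  exact ⟨by simpa [h_vec_k] using congrArg (fun x => H.h x Φ.k) this,
    by simpa [h_vec_f] using congrArg (fun x => H.h x Φ.f) this⟩

theorem isPar_zero : IsPar H 0 0 := by simp [IsPar]

theorem uel_zero : Φ.uel 0 0 isPar_zero = 1 := unit_ext fun x => by
  simp [uel, root_apply, H.zero_right]

/-- The underlying map of a torus element. -/
def torFun (t : Fˣ) (x : V) : V :=
  Φ.vec ((t : F) * H.h x Φ.f) ((H.conj t)⁻¹ * H.h x Φ.e) ((H.conj t / t) * H.h x Φ.k)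

theorem torFun_mul (s t : Fˣ) (x : V) : Φ.torFun s (Φ.torFun t x) = Φ.torFun (s * t) x := by
  simp only [torFun, h_vec_e, h_vec_f, h_vec_k, Units.val_mul, map_mul, mul_inv_rev,
    div_eq_mul_inv]
  congr 1 <;> ring

include hd in
theorem torFun_one [FiniteDimensional F V] (x : V) : Φ.torFun 1 x = x := by
  simp [torFun, ← Φ.eq_vec hd x]

end Frame

namespace Frame

variable (Φ : Frame H)

/-- The torus element `e ↦ t e`, `f ↦ conj t⁻¹ f`. -/
noncomputable def tor (t : Fˣ) : Unit' H :=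
  ⟨{ toFun := Φ.torFun t
     invFun := Φ.torFun t⁻¹
     left_inv := fun x => by rw [torFun_mul, inv_mul_cancel, torFun_one hd]
     right_inv := fun x => by rw [torFun_mul, mul_inv_cancel, torFun_one hd]
     map_add' := fun x y => by
       simp only [torFun, vec, H.add_left]; module
     map_smul' := fun c x => by
       simp only [torFun, vec, H.smul_left, RingHom.id_apply]; module },
   fun x y => by
    show H.h (Φ.torFun t x) (Φ.torFun t y) = H.h x y
    conv_rhs => rw [Φ.eq_vec hd x, Φ.eq_vec hd y, h_vec_vec]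
    have h1 : (t : F) ≠ 0 := t.ne_zero
    have h2 := H.conj_ne_zero h1
    simp only [torFun, h_vec_vec, map_mul, map_inv₀, map_div₀, H.conj_conj]
    field_simp⟩

theorem tor_apply (t : Fˣ) (x : V) :
    (Φ.tor hd t).1 x = Φ.torFun t x := rfl

theorem tor_e (t : Fˣ) : (Φ.tor hd t).1 Φ.e = (t : F) • Φ.e := by
  simp [tor_apply, torFun, vec, Φ.ef, Φ.ee, Φ.ek]

theorem tor_f (t : Fˣ) :
    (Φ.tor hd t).1 Φ.f = (H.conj t)⁻¹ • Φ.f := by
  simp [tor_apply, torFun, vec, Φ.ff, Φ.fe, Φ.fk]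

theorem tor_k (t : Fˣ) :
    (Φ.tor hd t).1 Φ.k = (H.conj t / t) • Φ.k := by
  simp [tor_apply, torFun, vec, Φ.kf, Φ.ke, Φ.kk]

theorem tor_mul (s t : Fˣ) :
    Φ.tor hd s * Φ.tor hd t = Φ.tor hd (s * t) := unit_ext fun x => Φ.torFun_mul s t x

theorem tor_mem_ker (t : Fˣ) : Φ.tor hd t ∈ (detHom H).ker := by
  rw [MonoidHom.mem_ker]
  apply Units.ext
  rw [Φ.det_diag hd (Φ.tor_e hd t) (Φ.tor_f hd t) (Φ.tor_k hd t), Units.val_one]
  have h1 : (t : F) ≠ 0 := t.ne_zero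
  have h2 := H.conj_ne_zero h1
  field_simp

omit hd in
theorem uel_mem_ker {a l : F} (h : IsPar H a l) :
    Φ.uel a l h ∈ (detHom H).ker :=
  MonoidHom.mem_ker.2 (detHom_root _)

omit hd [FiniteDimensional F V] in
theorem isPar_conj {a l : F} (t : Fˣ) (h : IsPar H a l) :
    IsPar H (H.conj t * (H.conj t / t) * a) ((t : F) * H.conj t * l) := by
  unfold IsPar at *
  have h1 : (t : F) ≠ 0 := t.ne_zero
  have h2 := H.conj_ne_zero h1
  simp only [map_mul, map_div₀, H.conj_conj]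
  field_simp
  linear_combination ((t : F) * H.conj t) * h

theorem tor_conj {a l : F} (t : Fˣ) (h : IsPar H a l) :
    Φ.tor hd t * Φ.uel a l h * (Φ.tor hd t)⁻¹ =
      Φ.uel (H.conj t * (H.conj t / t) * a) ((t : F) * H.conj t * l) (isPar_conj t h) := by
  rw [uel, root_conj, uel]
  have c' : RootCond H ((t : F) • Φ.e) ((a * (H.conj t / t)) • Φ.k) l := by
    have := (Φ.rootCond h).map (Φ.tor hd t)
    rwa [tor_e, map_smul, tor_k, smul_smul] at this
  rw [root_congr _ c' (Φ.tor_e hd t) (by rw [map_smul, tor_k, smul_smul]) rfl,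
    root_smul _ t.ne_zero c']
  refine root_congr _ _ rfl ?_ rfl
  rw [smul_smul]
  congr 1
  ring

/-- The isometries of determinant one fixing the line of `e`. -/
theorem exists_uel_mul_tor {g : Unit' H} (hg : g ∈ (detHom H).ker)
    {c : F} (hc : g.1 Φ.e = c • Φ.e) :
    ∃ (a l : F) (h : IsPar H a l) (t : Fˣ), (t : F) = c ∧ g = Φ.uel a l h * Φ.tor hd t := by
  have hc0 : c ≠ 0 := fun h => unit_ne_zero g Φ.e_ne (by rw [hc, h, zero_smul])
  set t := Units.mk0 c hc0 with ht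
  set g₁ := g * (Φ.tor hd t)⁻¹ with hg₁
  have h1 : g₁.1 Φ.e = Φ.e := by
    have h : ((Φ.tor hd t)⁻¹).1 Φ.e = c⁻¹ • Φ.e := by
      have := inv_apply_self (Φ.tor hd t) (c⁻¹ • Φ.e)
      rwa [map_smul, tor_e, smul_smul, ht, Units.val_mk0, inv_mul_cancel₀ hc0, one_smul] at this
    rw [hg₁, mul_apply, h, map_smul, hc, smul_smul, inv_mul_cancel₀ hc0, one_smul]
  have hg₁k : g₁ ∈ (detHom H).ker := mul_mem hg (inv_mem (Φ.tor_mem_ker hd t))
  set y := g₁.1 Φ.f with hy
  set a := H.h y Φ.k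
  set l := H.h y Φ.f
  have hye : H.h y Φ.e = 1 := by rw [hy, ← h1, unit_h, Φ.fe]
  have hyv : y = Φ.vec l 1 a := by rw [← hye]; exact Φ.eq_vec hd y
  have hpar : IsPar H a l := by
    have h := unit_h g₁ Φ.f Φ.f
    rw [← hy, hyv, h_vec_vec, Φ.ff, map_one] at h
    unfold IsPar
    linear_combination h
  refine ⟨a, l, hpar, t, rfl, ?_⟩
  set g₂ := (Φ.uel a l hpar)⁻¹ * g₁ with hg₂
  have he2 : g₂.1 Φ.e = Φ.e := by
    rw [hg₂, mul_apply, h1]
    conv_lhs => rw [← Φ.uel_apply_e hpar]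
    exact inv_apply_self _ _
  have hf2 : g₂.1 Φ.f = Φ.f := by
    rw [hg₂, mul_apply, ← hy, hyv, ← Φ.uel_apply_f hpar, inv_apply_self]
  set z := g₂.1 Φ.k with hz
  have hk2 : z = H.h z Φ.k • Φ.k := by
    have e1 : H.h z Φ.f = 0 := by rw [hz, ← hf2, unit_h, Φ.kf]
    have e2 : H.h z Φ.e = 0 := by rw [hz, ← he2, unit_h, Φ.ke]
    conv_lhs => rw [Φ.eq_vec hd z, e1, e2]
    simp [vec]
  have hdet := Φ.det_diag hd (g := g₂) (a := 1) (b := 1) (by rw [he2, one_smul])
    (by rw [hf2, one_smul]) hk2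
  rw [MonoidHom.mem_ker.1 (mul_mem (inv_mem (Φ.uel_mem_ker hpar)) hg₁k), Units.val_one,
    one_mul, one_mul] at hdet
  have h2 : g₂ = 1 := Φ.map_ext hd (by rw [he2, one_apply]) (by rw [hf2, one_apply])
    (by rw [one_apply]; rw [← hdet, one_smul] at hk2; exact hk2)
  rw [hg₂, inv_mul_eq_one, hg₁] at h2
  rw [h2, inv_mul_cancel_right]

end Frame

end CfsgLib.MinIndexPSU
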