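import Cfsg.Agent.Lib.MinIndexPSU.Lines
import Cfsg.Agent.Lib.PSL2Sub.Transfer

/-!
The action of the stabiliser of an anisotropic point on the projective line of the orthogonal plane.
-/

set_option autoImplicit false

namespace CfsgLib.MinIndexPSU

open Module CfsgLib.Classical.Herm CfsgLib.Classical.Herm.HermSpace CfsgLib.PSL2Sub
open Matrix (ProjGenLinGroup of_apply cons_val' cons_val_zero cons_val_one cons_val_fin_one)
open scoped OnePoint MatrixGroups Matrix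

variable {F V : Type*} [Field F] [AddCommGroup V] [Module F V] [FiniteDimensional F V]
  {H : HermSpace F V} (Φ : Frame H)

namespace Frame

/-- The isometries of determinant one fixing the line of `k`. -/
def LS : Subgroup (Unit' H) where
  carrier := {g | g ∈ (detHom H).ker ∧ ∃ c : F, g.1 Φ.k = c • Φ.k}
  one_mem' := ⟨one_mem _, 1, by rw [one_smul]; rfl⟩
  mul_mem' := by
    rintro a b ⟨ha, c, hca⟩ ⟨hb, d, hdb⟩
    exact ⟨mul_mem ha hb, d * c, by rw [mul_apply, hdb, map_smul, hca, smul_smul]⟩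
  inv_mem' := by
    rintro a ⟨ha, c, hca⟩
    refine ⟨inv_mem ha, c⁻¹, ?_⟩
    have hc0 : c ≠ 0 := fun h => unit_ne_zero a Φ.k_ne (by rw [hca, h, zero_smul])
    conv_lhs => rw [← inv_smul_smul₀ hc0 Φ.k, map_smul, ← hca, inv_apply_self]

theorem mem_LS {g : Unit' H} : g ∈ Φ.LS ↔ g ∈ (detHom H).ker ∧ ∃ c : F, g.1 Φ.k = c • Φ.k :=
  Iff.rfl

theorem tor_mem_LS (hd : finrank F V = 3) (t : Fˣ) : Φ.tor hd t ∈ Φ.LS :=
  ⟨Φ.tor_mem_ker hd t, _, Φ.tor_k hd t⟩

theorem uel_zero_mem_LS {l : F} (h : IsPar H 0 l) : Φ.uel 0 l h ∈ Φ.LS :=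
  ⟨Φ.uel_mem_ker h, 1, by rw [Φ.uel_apply_k]; simp [vec]⟩

theorem perp_of_mem_LS {g : Unit' H} (hg : g ∈ Φ.LS) {u : V} (hu : H.h u Φ.k = 0) :
    H.h (g.1 u) Φ.k = 0 := by
  obtain ⟨c, hc⟩ := hg.2
  have hc0 : c ≠ 0 := fun h => unit_ne_zero g Φ.k_ne (by rw [hc, h, zero_smul])
  have h2 : H.h (g.1 u) (c • Φ.k) = 0 := by rw [← hc, unit_h, hu]
  rw [H.smul_right, mul_eq_zero] at h2
  exact h2.resolve_left (H.conj_ne_zero hc0)

/-- The matrix on the plane of `e` and `f`. -/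
def planeMat (g : Unit' H) : Matrix (Fin 2) (Fin 2) F :=
  !![H.h (g.1 Φ.e) Φ.f, H.h (g.1 Φ.f) Φ.f; H.h (g.1 Φ.e) Φ.e, H.h (g.1 Φ.f) Φ.e]

variable (hd : finrank F V = 3)
include hd

theorem apply_plane {g : Unit' H} (hg : g ∈ Φ.LS) (a b : F) : g.1 (Φ.vec a b 0) =
    Φ.vec (Φ.planeMat g 0 0 * a + Φ.planeMat g 0 1 * b)
      (Φ.planeMat g 1 0 * a + Φ.planeMat g 1 1 * b) 0 := by
  conv_lhs => rw [Φ.eq_vec hd (g.1 (Φ.vec a b 0))]
  rw [Φ.perp_of_mem_LS hg (Φ.h_vec_k a b 0)]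
  simp only [vec, zero_smul, add_zero, map_add, map_smul, H.add_left, H.smul_left, planeMat,
    of_apply, cons_val', cons_val_zero, cons_val_one, cons_val_fin_one]
  congr 1 <;> congr 1 <;> ring

theorem planeMat_mul {g g' : Unit' H} (hg : g ∈ Φ.LS) (hg' : g' ∈ Φ.LS) :
    Φ.planeMat (g * g') = Φ.planeMat g * Φ.planeMat g' := by
  have he : Φ.e = Φ.vec 1 0 0 := by simp [vec]
  have hf : Φ.f = Φ.vec 0 1 0 := by simp [vec]
  have e1 := Φ.apply_plane hd hg' 1 0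
  have e2 := Φ.apply_plane hd hg' 0 1
  simp only [← he, ← hf, mul_one, mul_zero, add_zero, zero_add] at e1 e2
  ext i j
  rw [Matrix.mul_apply, Fin.sum_univ_two]
  fin_cases i <;> fin_cases j
  · show H.h (g.1 (g'.1 Φ.e)) Φ.f = _
    rw [e1, Φ.apply_plane hd hg, Φ.h_vec_f]; rfl
  · show H.h (g.1 (g'.1 Φ.f)) Φ.f = _
    rw [e2, Φ.apply_plane hd hg, Φ.h_vec_f]; rfl
  · show H.h (g.1 (g'.1 Φ.e)) Φ.e = _
    rw [e1, Φ.apply_plane hd hg, Φ.h_vec_e]; rfl
  · show H.h (g.1 (g'.1 Φ.f)) Φ.e = _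
    rw [e2, Φ.apply_plane hd hg, Φ.h_vec_e]; rfl

theorem planeMat_one : Φ.planeMat 1 = 1 := by
  ext i j
  fin_cases i <;> fin_cases j <;> simp [planeMat, one_apply, Φ.ef, Φ.ff, Φ.ee, Φ.fe]

/-- The action on the plane. -/
noncomputable def plane : Φ.LS →* Matrix.GeneralLinearGroup (Fin 2) F where
  toFun g := ⟨Φ.planeMat g.1, Φ.planeMat (g⁻¹).1,
    by rw [← Φ.planeMat_mul hd g.2 g⁻¹.2, ← Subgroup.coe_mul, mul_inv_cancel, Subgroup.coe_one,
      Φ.planeMat_one hd],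
    by rw [← Φ.planeMat_mul hd g⁻¹.2 g.2, ← Subgroup.coe_mul, inv_mul_cancel, Subgroup.coe_one,
      Φ.planeMat_one hd]⟩
  map_one' := Units.ext (Φ.planeMat_one hd)
  map_mul' a b := Units.ext (Φ.planeMat_mul hd a.2 b.2)

/-- The action on the projective line. -/
noncomputable def toPG : Φ.LS →* PG F :=
  ProjGenLinGroup.mk.comp (Φ.plane hd)

omit hd

/-- A vector representing a point of the projective line. -/
def pt (P : OnePoint F) : V := OnePoint.elim P Φ.e fun y => Φ.vec y 1 0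

theorem pt_infty : Φ.pt ∞ = Φ.vec 1 0 0 := by simp [pt, vec]

theorem pt_coe (y : F) : Φ.pt (y : OnePoint F) = Φ.vec y 1 0 := rfl

theorem pt_perp (P : OnePoint F) : H.h (Φ.pt P) Φ.k = 0 := by
  cases P with
  | infty => rw [pt_infty, h_vec_k]
  | coe y => rw [pt_coe, h_vec_k]

theorem pt_ne (P : OnePoint F) : Φ.pt P ≠ 0 := by
  cases P with
  | infty => exact Φ.e_ne
  | coe y =>
    intro h
    have := congrArg (fun z => H.h z Φ.e) h
    simp [pt_coe, Φ.h_vec_e, H.zero_left] at this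

include hd in
theorem exists_pt {u : V} (hu0 : u ≠ 0) (huk : H.h u Φ.k = 0) :
    ∃ (P : OnePoint F) (c : F), c ≠ 0 ∧ u = c • Φ.pt P := by
  have hv := Φ.eq_vec hd u
  rw [huk] at hv
  by_cases h : H.h u Φ.e = 0
  · refine ⟨∞, H.h u Φ.f, fun h0 => hu0 ?_, ?_⟩
    · rw [hv, h, h0]; simp [vec]
    · rw [h] at hv
      rw [pt_infty]
      conv_lhs => rw [hv]
      simp [vec]
  · refine ⟨((H.h u Φ.f / H.h u Φ.e : F) : OnePoint F), H.h u Φ.e, h, ?_⟩
    rw [pt_coe]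
    conv_lhs => rw [hv]
    simp [vec, smul_smul, mul_div_cancel₀ _ h]

include hd in
theorem pt_inj {P Q : OnePoint F} {c : F} (h : Φ.pt P = c • Φ.pt Q) : P = Q := by
  have he := congrArg (fun z => H.h z Φ.e) h
  have hf := congrArg (fun z => H.h z Φ.f) h
  cases P <;> cases Q <;>
    simp [pt_infty, pt_coe, Φ.h_vec_e, Φ.h_vec_f, H.smul_left] at he hf <;>
    grind

/-- The isotropic points. -/
def isoPts : Set (OnePoint F) := {P | H.h (Φ.pt P) (Φ.pt P) = 0}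

theorem infty_mem_isoPts : (∞ : OnePoint F) ∈ Φ.isoPts := Φ.ee

theorem coe_mem_isoPts {y : F} : (y : OnePoint F) ∈ Φ.isoPts ↔ y ∈ skew H := by
  show H.h (Φ.vec y 1 0) (Φ.vec y 1 0) = 0 ↔ _
  rw [Φ.h_vec_vec, map_one, map_zero, mul_one, one_mul, mul_zero, add_zero, mem_skew]

theorem card_isoPts [Fintype F] {q : ℕ} (hF : Fintype.card F = q ^ 2)
    (hc : ∀ a, H.conj a = a ^ q) : Nat.card Φ.isoPts = q + 1 := by
  rw [← card_skew hF hc (H := H), ← Finite.card_option]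
  refine (Nat.card_congr (Equiv.ofBijective (fun o : Option (skew H) => o.elim
    (⟨∞, Φ.infty_mem_isoPts⟩ : Φ.isoPts) fun y => ⟨(y.1 : OnePoint F), Φ.coe_mem_isoPts.2 y.2⟩)
    ⟨?_, ?_⟩)).symm
  · rintro (_ | y) (_ | y') h <;> simp at h ⊢
    exact Subtype.ext (congrArg Subtype.val h)
  · rintro ⟨P, hP⟩
    cases P with
    | infty => exact ⟨none, rfl⟩
    | coe y => exact ⟨some ⟨y, Φ.coe_mem_isoPts.1 hP⟩, rfl⟩

variable [DecidableEq F]
include hd

theorem toPG_smul (g : Φ.LS) {P Q : OnePoint F} {c : F} (h : g.1.1 (Φ.pt P) = c • Φ.pt Q) :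
    Φ.toPG hd g • P = Q := by
  have hc : c ≠ 0 := fun h0 => unit_ne_zero g.1 (Φ.pt_ne P) (by rw [h, h0, zero_smul])
  show ProjGenLinGroup.mk (Φ.plane hd g) • P = Q
  rw [mk_smul_onePoint]
  have hm : ∀ i j, (Φ.plane hd g) i j = Φ.planeMat g.1 i j := fun i j => rfl
  cases P with
  | infty =>
    rw [pt_infty, Φ.apply_plane hd g.2] at h
    simp only [mul_one, mul_zero, add_zero] at h
    have he := congrArg (fun z => H.h z Φ.e) h
    have hf := congrArg (fun z => H.h z Φ.f) h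
    simp only [Φ.h_vec_e, Φ.h_vec_f, H.smul_left] at he hf
    rw [OnePoint.smul_infty_eq_ite]
    simp only [hm]
    cases Q with
    | infty =>
      rw [pt_infty, Φ.h_vec_e, mul_zero] at he
      rw [if_pos he]
    | coe y =>
      rw [pt_coe, Φ.h_vec_e, mul_one] at he
      rw [pt_coe, Φ.h_vec_f] at hf
      rw [he, if_neg hc, hf, mul_div_cancel_left₀ _ hc]
  | coe x =>
    rw [pt_coe, Φ.apply_plane hd g.2] at h
    have he := congrArg (fun z => H.h z Φ.e) h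
    have hf := congrArg (fun z => H.h z Φ.f) h
    simp only [Φ.h_vec_e, Φ.h_vec_f, H.smul_left, mul_one] at he hf
    rw [OnePoint.smul_some_eq_ite]
    simp only [hm]
    cases Q with
    | infty =>
      rw [pt_infty, Φ.h_vec_e, mul_zero] at he
      rw [if_pos he]
    | coe y =>
      rw [pt_coe, Φ.h_vec_e, mul_one] at he
      rw [pt_coe, Φ.h_vec_f] at hf
      rw [he, if_neg hc, hf, mul_div_cancel_left₀ _ hc]

theorem exists_smul_pt (g : Φ.LS) (P : OnePoint F) :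
    ∃ c : F, c ≠ 0 ∧ g.1.1 (Φ.pt P) = c • Φ.pt (Φ.toPG hd g • P) := by
  obtain ⟨Q, c, hc, h⟩ := Φ.exists_pt hd (unit_ne_zero g.1 (Φ.pt_ne P))
    (Φ.perp_of_mem_LS g.2 (Φ.pt_perp P))
  exact ⟨c, hc, by rw [Φ.toPG_smul hd g h]; exact h⟩

theorem smul_mem_isoPts (g : Φ.LS) {P : OnePoint F} (hP : P ∈ Φ.isoPts) :
    Φ.toPG hd g • P ∈ Φ.isoPts := by
  obtain ⟨c, hc, h⟩ := Φ.exists_smul_pt hd g P
  have h2 : H.h (g.1.1 (Φ.pt P)) (g.1.1 (Φ.pt P)) = 0 := by rw [unit_h]; exact hP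
  rw [h, H.smul_left, H.smul_right] at h2
  show H.h _ _ = 0
  simpa [hc, H.conj_ne_zero hc] using h2

/-- A projective transformation of prime order `r ∤ q + 1` from the stabiliser fixes an isotropic
point. -/
theorem exists_fixed_isoPt [Fintype F] {q : ℕ} (hF : Fintype.card F = q ^ 2)
    (hc : ∀ a, H.conj a = a ^ q) (g : Φ.LS) {r : ℕ} (hr : r.Prime) (hrq : ¬ r ∣ q + 1)
    (hg : Φ.toPG hd g ^ r = 1) : ∃ P ∈ Φ.isoPts, Φ.toPG hd g • P = P := by
  set h := Φ.toPG hd g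
  have : Finite (OnePoint F) := inferInstanceAs (Finite (Option F))
  have := Fintype.ofFinite Φ.isoPts
  set f : Φ.isoPts → Φ.isoPts := fun P => ⟨h • P.1, Φ.smul_mem_isoPts hd g P.2⟩
  have hbij : Function.Bijective f := Finite.injective_iff_bijective.1 fun P Q hPQ =>
    Subtype.ext (MulAction.injective h (congrArg Subtype.val hPQ :))
  set σ : Equiv.Perm Φ.isoPts := Equiv.ofBijective f hbij
  have hσ : ∀ (m : ℕ) (P : Φ.isoPts), ((σ ^ m) P).1 = h ^ m • P.1 := by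
    intro m
    induction m with
    | zero => intro P; simp
    | succ m ih =>
      intro P
      rw [pow_succ', Equiv.Perm.mul_apply, pow_succ', mul_smul, ← ih]
      rfl
  have hσr : σ ^ r ^ 1 = 1 := Equiv.ext fun P => Subtype.ext (by rw [pow_one, hσ, hg]; simp)
  have : Fact r.Prime := ⟨hr⟩
  obtain ⟨⟨P, hP⟩, hfix⟩ := Equiv.Perm.exists_fixed_point_of_prime (α := Φ.isoPts)
    (by rw [← Nat.card_eq_fintype_card, Φ.card_isoPts hF hc]; exact hrq) hσr
  exact ⟨P, hP, (congrArg Subtype.val hfix :)⟩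

end Frame

/-- The characteristic and the exponent. -/
theorem exists_prime_pow [Fintype F] {q : ℕ} (hF : Fintype.card F = q ^ 2) :
    ∃ p f : ℕ, p.Prime ∧ 0 < f ∧ q = p ^ f ∧ CharP F p := by
  obtain ⟨p, hp⟩ := CharP.exists F
  obtain ⟨n, hpp, hn⟩ := FiniteField.card F p
  obtain ⟨f, -, hf⟩ := (Nat.dvd_prime_pow hpp).1 (show q ∣ p ^ (n : ℕ) by
    rw [← hn, hF]; exact dvd_pow_self q two_ne_zero)
  refine ⟨p, f, hpp, Nat.pos_of_ne_zero fun h => ?_, hf, hp⟩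
  have := two_le_of_card hF
  rw [hf, h, pow_zero] at this
  omega

end CfsgLib.MinIndexPSU
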