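import Cfsg.Agent.Lib.MinIndexPSU.Borel
import Cfsg.Agent.Lib.Classical.Herm.Std

/-!
Subgroups of the projective group as subgroups of the isometry group; the stabiliser of an
isotropic line.
-/

set_option autoImplicit false

namespace CfsgLib.MinIndexPSU

open Module CfsgLib.Classical.Herm

variable {F : Type*} [Field F] [Fintype F] {q : ℕ} (hF : Fintype.card F = q ^ 2)
include hF

/-- The group of isometries over a given projective subgroup. -/
noncomputable def liftUnit (K : Subgroup (Cfsg.PSU 3 F q)) : Subgroup (Unit' (stdHerm hF 3)) :=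
  ((K.comap (QuotientGroup.mk' _)).map (suEquiv hF 3).toMonoidHom).map
    ((detHom (stdHerm hF 3)).ker).subtype

theorem liftUnit_le (K : Subgroup (Cfsg.PSU 3 F q)) :
    liftUnit hF K ≤ (detHom (stdHerm hF 3)).ker := Subgroup.map_subtype_le _

theorem relIndex_liftUnit (K : Subgroup (Cfsg.PSU 3 F q)) :
    (liftUnit hF K).relIndex (detHom (stdHerm hF 3)).ker = K.index := by
  rw [Subgroup.relIndex, liftUnit, Subgroup.subgroupOf,
    Subgroup.comap_map_eq_self_of_injective (Subgroup.subtype_injective _),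
    Subgroup.index_map_of_bijective (suEquiv hF 3).bijective, Subgroup.index_comap_of_surjective _ (QuotientGroup.mk'_surjective _)]

theorem liftUnit_ne (K : Subgroup (Cfsg.PSU 3 F q)) (hK : K ≠ ⊤) :
    liftUnit hF K ≠ (detHom (stdHerm hF 3)).ker := fun h => hK (by
  rw [← Subgroup.index_eq_one, ← relIndex_liftUnit hF, h, Subgroup.relIndex_self])

omit hF in
theorem finrank_three : finrank F (Fin 3 → F) = 3 := by simp

theorem exists_frame_std : Nonempty (Frame (stdHerm hF 3)) := by
  obtain ⟨e, f, p⟩ := exists_pair_std hF (le_refl 3)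
  obtain ⟨Φ, -⟩ := exists_frame finrank_three p
  exact ⟨Φ⟩

/-- The index `q ^ 3 + 1` is attained. -/
theorem exists_index_borel : ∃ K : Subgroup (Cfsg.PSU 3 F q), K.index = q ^ 3 + 1 := by
  obtain ⟨Φ⟩ := exists_frame_std hF
  set H := stdHerm hF 3
  let ψ : Cfsg.SU 3 F q →* Unit' H := (detHom H).ker.subtype.comp (suEquiv hF 3).toMonoidHom
  have hψ : Function.Injective ψ :=
    (Subgroup.subtype_injective _).comp (suEquiv hF 3).injective
  have hidx : (Φ.B.comap ψ).index = q ^ 3 + 1 := by
    rw [← Φ.relIndex_B finrank_three hF (fun a => rfl), Subgroup.relIndex, Subgroup.subgroupOf,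
      ← Subgroup.index_comap_of_surjective (f := (suEquiv hF 3).toMonoidHom)
        ((Φ.B).comap (detHom H).ker.subtype) (suEquiv hF 3).surjective, Subgroup.comap_comap]
  refine ⟨(Φ.B.comap ψ).map (QuotientGroup.mk' _), ?_⟩
  rw [Subgroup.index_map_eq _ (QuotientGroup.mk'_surjective _) ?_, hidx]
  intro z hz
  rw [QuotientGroup.ker_mk', Subgroup.mem_center_iff] at hz
  have hcomm : ∀ (g : Unit' H), g ∈ (detHom H).ker → ψ z * g = g * ψ z := by
    intro g hg
    obtain ⟨g', hg'⟩ := (suEquiv hF 3).surjective ⟨g, hg⟩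
    have : ψ g' = g := congrArg Subtype.val hg'
    rw [← this, ← map_mul, ← map_mul, hz g']
  refine ⟨(suEquiv hF 3 z).2, ?_⟩
  obtain ⟨l, hl0, hl⟩ := H.exists_skew
  have hp : Frame.IsPar H 0 l := by simpa [Frame.IsPar] using hl
  refine ⟨H.h ((ψ z).1 Φ.e) Φ.f, ?_⟩
  by_contra hne
  set x := (ψ z).1 Φ.e with hx
  have h1 : (Φ.uel 0 l hp).1 x = x := by
    have := congrArg (fun k : Unit' H => k.1 Φ.e) (hcomm _ (Φ.uel_mem_ker hp))
    simp only [mul_apply, Φ.uel_apply_e] at this
    exact this.symm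
  have hxe : H.h x Φ.e = 0 := by
    by_contra h0
    have h3 := h1
    rw [Frame.uel, root_apply] at h3
    simp [H.zero_right, hl0, h0, Φ.e_ne] at h3
  obtain ⟨c, hc⟩ := eq_smul_of_isotropic finrank_three Φ.e_ne Φ.ee
    (show H.h x x = 0 by rw [hx, unit_h, Φ.ee]) (H.h_comm_zero hxe)
  exact hne (by rw [hc, H.smul_left, Φ.ef, mul_one])

end CfsgLib.MinIndexPSU
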