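import Cfsg.Agent.Lib.MinIndexPSU.Torus
import Cfsg.Agent.Lib.MinIndexPSU.LineImage
import Cfsg.Agent.Lib.MinIndexPSU.Exceptional

/-!
A subgroup of index `q ^ 3` would act regularly on pairs of a partition: only `q = 3` survives,
and a count of elements of order seven excludes it.
-/

set_option autoImplicit false

namespace CfsgLib.MinIndexPSU

open Module CfsgLib.Classical.Herm CfsgLib.Classical.Herm.HermSpace
open scoped OnePoint

variable {F V : Type*} [Field F] [AddCommGroup V] [Module F V] [FiniteDimensional F V]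
  {H : HermSpace F V} (hd : finrank F V = 3)
include hd

/-- The isotropic eigenvectors of a torus element with norm different from one. -/
theorem Frame.eigen_tor (Φ : Frame H) {t : Fˣ} (hN : (t : F) * H.conj t ≠ 1) {u : V}
    (huu : H.h u u = 0) {c : F} (hu : (Φ.tor hd t).1 u = c • u) :
    (∃ a : F, u = a • Φ.e) ∨ ∃ b : F, u = b • Φ.f := by
  have hv := Φ.eq_vec hd u
  set a := H.h u Φ.f
  set b := H.h u Φ.e
  set d := H.h u Φ.k
  clear_value a b d
  subst hv
  have e1 := congrArg (fun z => H.h z Φ.f) hu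
  have e2 := congrArg (fun z => H.h z Φ.e) hu
  simp only [Φ.tor_apply, Frame.torFun, Φ.h_vec_f, Φ.h_vec_e, H.smul_left] at e1 e2
  rw [Φ.h_vec_vec] at huu
  by_cases ha : a = 0
  · right
    refine ⟨b, ?_⟩
    subst ha
    rw [zero_mul, map_zero, mul_zero, zero_add, zero_add, mul_eq_zero] at huu
    rcases huu with h | h
    · simp [Frame.vec, h]
    · rw [(map_eq_zero H.conj).1 h]; simp [Frame.vec]
  · left
    refine ⟨a, ?_⟩
    by_cases hb : b = 0
    · subst hb
      rw [map_zero, mul_zero, zero_mul, zero_add, zero_add, mul_eq_zero] at huu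
      rcases huu with h | h
      · simp [Frame.vec, h]
      · rw [(map_eq_zero H.conj).1 h]; simp [Frame.vec]
    · exfalso
      apply hN
      have h1 : (t : F) = c := mul_right_cancel₀ ha e1
      have h2 : (H.conj (t : F))⁻¹ = c := mul_right_cancel₀ hb e2
      nth_rewrite 1 [h1, ← h2]
      exact inv_mul_cancel₀ (H.conj_ne_zero t.ne_zero)

variable [Fintype F] {q : ℕ} (hF : Fintype.card F = q ^ 2) (hc : ∀ a, H.conj a = a ^ q)
  (M : Subgroup (Unit' H)) (hM : M ≤ (detHom H).ker)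
  (hn : M.relIndex (detHom H).ker = q ^ 3) (hZ : ∀ Φ : Frame H, Φ.Z M = ⊥) (hq : 3 ≤ q)
include hF hc hM hn hZ hq

theorem regular_param (Φ : Frame H) : Φ.A M = ⊥ ∧ Φ.K M = ⊤ := by
  have h := Φ.relIndex_mul_card hd hF hc M hM hn.le
  rw [hn, hZ, AddSubgroup.card_bot, mul_one, mul_assoc] at h
  have hq3 : 0 < q ^ 3 := by positivity
  have h' := Nat.eq_of_mul_eq_mul_left hq3 h
  have hA : Nat.card (Φ.A M) = 1 := by
    have h1 : Nat.card (Φ.A M) ∣ q ^ 2 := by
      have := AddSubgroup.card_addSubgroup_dvd_card (Φ.A M)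
      rwa [Nat.card_eq_fintype_card (α := F), hF] at this
    have h2 : Nat.card (Φ.A M) ∣ q ^ 2 - 1 := ⟨_, h'.symm⟩
    have h3 := Nat.dvd_sub h1 h2
    rwa [Nat.sub_sub_self (Nat.one_le_pow _ _ (by omega)), Nat.dvd_one] at h3
  rw [hA, one_mul] at h'
  exact ⟨AddSubgroup.eq_bot_of_card_eq _ hA,
    Subgroup.eq_top_of_card_eq _ (by rw [h', natCard_units hF hc])⟩

/-- There is an adapted frame at every isotropic point. -/
theorem regular_adapted {u : V} (hu0 : u ≠ 0) (huu : H.h u u = 0) :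
    ∃ Ψ : Frame H, Ψ.e = u ∧ Ψ.Adapted hd M := by
  obtain ⟨z, p⟩ := exists_isotropic_partner (H := H) huu hu0
  obtain ⟨Φ, he, -⟩ := exists_frame hd p
  obtain ⟨t, htK, hto⟩ := exists_generator (Φ.K M)
  rw [(regular_param hd hF hc M hM hn hZ hq Φ).2, Subgroup.card_top, natCard_units hF hc] at hto
  have h3q : 3 * q ≤ q ^ 2 := by rw [pow_two]; exact Nat.mul_le_mul_right q hq
  have hx1 : H.conj (t : F) * (H.conj t / t) ≠ 1 := by
    intro hx
    have h1 : t ^ (2 * q) = t ^ 1 := by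
      apply Units.ext
      rw [Units.val_pow_eq_pow_val, pow_one, mul_comm, pow_mul, ← hc]
      have ht := t.ne_zero
      field_simp at hx
      linear_combination hx
    rw [pow_eq_pow_iff_modEq, hto, Nat.ModEq, Nat.mod_eq_of_lt (by omega),
      Nat.mod_eq_of_lt (by omega)] at h1
    omega
  have hN1 : (t : F) * H.conj t ≠ 1 := by
    intro hN
    have h1 : t ^ (q + 1) = 1 := by
      apply Units.ext
      rw [Units.val_pow_eq_pow_val, Units.val_one, pow_succ', ← hc]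
      exact hN
    have := Nat.le_of_dvd (by omega) (hto ▸ orderOf_dvd_of_pow_eq_one h1)
    omega
  obtain ⟨Ψ, hΨ, hA⟩ := Φ.exists_adapted_of_gen hd M htK hx1 hN1
  exact ⟨Ψ, hΨ.trans he, hA⟩

theorem regular_eq_tor (Φ : Frame H) (hA : Φ.Adapted hd M) {g : Unit' H} (hg : g ∈ M) {c : F}
    (hge : g.1 Φ.e = c • Φ.e) : ∃ t : Fˣ, (t : F) = c ∧ g = Φ.tor hd t := by
  obtain ⟨a, l, h, t, ht, rfl⟩ := Φ.exists_uel_mul_tor hd (hM hg) hge
  obtain ⟨hA0, hK⟩ := regular_param hd hF hc M hM hn hZ hq Φ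
  have hm : Φ.uel a l h ∈ M := by
    have := mul_mem hg (inv_mem (hA t (by rw [hK]; exact Subgroup.mem_top t)))
    rwa [mul_inv_cancel_right] at this
  have ha : a ∈ Φ.A M := ⟨l, h, hm⟩
  rw [hA0, AddSubgroup.mem_bot] at ha
  subst ha
  have hl : l ∈ Φ.Z M := ⟨h, hm⟩
  rw [hZ, AddSubgroup.mem_bot] at hl
  subst hl
  exact ⟨t, ht, by rw [Φ.uel_zero, one_mul]⟩

/-- The second line of an adapted frame is determined by the first. -/
theorem regular_unique (Φ Ψ : Frame H) (hΦ : Φ.Adapted hd M) (hΨ : Ψ.Adapted hd M) {c : F}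
    (hc' : Ψ.e = c • Φ.e) : ∃ d : F, Ψ.f = d • Φ.f := by
  have hc0 : c ≠ 0 := fun h => Ψ.e_ne (by rw [hc', h, zero_smul])
  obtain ⟨z, hzt, hto⟩ := exists_generator (Ψ.K M)
  rw [(regular_param hd hF hc M hM hn hZ hq Ψ).2, Subgroup.card_top, natCard_units hF hc] at hto
  have hmem : Ψ.tor hd z ∈ M := hΨ z (by rw [hzt]; exact Subgroup.mem_zpowers z)
  have he : (Ψ.tor hd z).1 Φ.e = (z : F) • Φ.e := by
    have := Ψ.tor_e hd z
    rw [hc', map_smul, smul_comm] at this
    exact smul_right_injective V hc0 this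
  obtain ⟨s, hs, heq⟩ := regular_eq_tor hd hF hc M hM hn hZ hq Φ hΦ hmem he
  rw [Units.ext hs] at heq
  have hN : (z : F) * H.conj z ≠ 1 := by
    intro hN
    have h1 : z ^ (q + 1) = 1 := by
      apply Units.ext
      rw [Units.val_pow_eq_pow_val, Units.val_one, pow_succ', ← hc]
      exact hN
    have := Nat.le_of_dvd (by omega) (hto ▸ orderOf_dvd_of_pow_eq_one h1)
    have h3q : 3 * q ≤ q ^ 2 := by rw [pow_two]; exact Nat.mul_le_mul_right q hq
    omega
  rcases Φ.eigen_tor hd hN Ψ.ff (by rw [← heq]; exact Ψ.tor_f hd z) with ⟨a, ha⟩ | h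
  · exfalso
    have := Ψ.fe
    rw [ha, hc', H.smul_left, H.smul_right, Φ.ee, mul_zero, mul_zero] at this
    exact zero_ne_one this
  · exact h

variable (Φ : Frame H) (hΦ : Φ.Adapted hd M)
include hΦ

/-- Each point of the line through the frame has its partner on the line. -/
theorem regular_partner {y : F} (hy : y ∈ skew H) (hy0 : y ≠ 0) :
    ∃ (Ψ : Frame H) (y' α β : F), Ψ.Adapted hd M ∧ y' ∈ skew H ∧ y' ≠ 0 ∧ y' ≠ y ∧
      Ψ.e = α • Φ.vec y 1 0 ∧ Ψ.f = β • Φ.vec y' 1 0 := by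
  classical
  set g := Φ.vec y 1 0 with hg
  have hgg : H.h g g = 0 := Φ.coe_mem_isoPts.2 hy
  have hg0 : g ≠ 0 := Φ.pt_ne (y : OnePoint F)
  obtain ⟨Ψ, hΨe, hΨ⟩ := regular_adapted hd hF hc M hM hn hZ hq hg0 hgg
  obtain ⟨t, htK, hto⟩ := exists_generator (Φ.K M)
  obtain ⟨hA0, hK⟩ := regular_param hd hF hc M hM hn hZ hq Φ
  rw [hK, Subgroup.card_top, natCard_units hF hc] at hto
  set ν := t ^ (q - 1)
  have hord : orderOf ν = q + 1 := by
    rw [orderOf_pow' _ (by omega), hto]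
    have hqq : q ^ 2 - 1 = (q - 1) * (q + 1) := by
      rw [mul_comm, ← Nat.sq_sub_sq, one_pow]
    rw [hqq, Nat.gcd_mul_right_left, Nat.mul_div_cancel_left _ (by omega)]
  have hνN : (ν : F) * H.conj ν = 1 := by
    rw [hc, ← pow_succ', ← Units.val_pow_eq_pow_val, ← hord, pow_orderOf_eq_one, Units.val_one]
  have hν3 : (ν : F) ^ 3 ≠ 1 := fun h => by
    have h' : ν ^ 3 = 1 := Units.ext (by rw [Units.val_pow_eq_pow_val, h, Units.val_one])
    have := Nat.le_of_dvd (by norm_num) (hord ▸ orderOf_dvd_of_pow_eq_one h')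
    omega
  have hνc : (H.conj (ν : F))⁻¹ = ν := inv_eq_of_mul_eq_one_left hνN
  have hzg : (Φ.tor hd ν).1 Ψ.e = (ν : F) • Ψ.e := by
    rw [hΨe, hg, show Φ.vec y 1 0 = y • Φ.e + Φ.f by simp [Frame.vec], map_add, map_smul,
      Φ.tor_e, Φ.tor_f, hνc]
    module
  obtain ⟨s, hs, heq⟩ := regular_eq_tor hd hF hc M hM hn hZ hq Ψ hΨ
    (hΦ ν (by rw [hK]; exact Subgroup.mem_top ν)) hzg
  rw [Units.ext hs] at heq
  have hk : ∃ d : F, d ≠ 0 ∧ Ψ.k = d • Φ.k := by
    have h := Ψ.tor_k hd ν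
    rw [← heq] at h
    have hv := Φ.eq_vec hd Ψ.k
    refine ⟨H.h Ψ.k Φ.k, fun h0 => ?_, ?_⟩
    · have e1 := congrArg (fun z => H.h z Φ.f) h
      have e2 := congrArg (fun z => H.h z Φ.e) h
      simp only [Φ.tor_apply, Frame.torFun, Φ.h_vec_f, Φ.h_vec_e, H.smul_left] at e1 e2
      have hne : (ν : F) ≠ H.conj ν / ν := by
        intro he
        apply hν3
        rw [eq_div_iff ν.ne_zero] at he
        linear_combination (ν : F) * he + hνN
      rw [hνc] at e2
      have a0 : H.h Ψ.k Φ.f = 0 := by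
        by_contra ha
        exact hne (mul_right_cancel₀ ha e1)
      have b0 : H.h Ψ.k Φ.e = 0 := by
        by_contra hb
        exact hne (mul_right_cancel₀ hb e2)
      exact Ψ.k_ne (by rw [hv, a0, b0, h0]; simp [Frame.vec])
    · have e1 := congrArg (fun z => H.h z Φ.f) h
      have e2 := congrArg (fun z => H.h z Φ.e) h
      simp only [Φ.tor_apply, Frame.torFun, Φ.h_vec_f, Φ.h_vec_e, H.smul_left] at e1 e2
      have hne : (ν : F) ≠ H.conj ν / ν := by
        intro he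
        apply hν3
        rw [eq_div_iff ν.ne_zero] at he
        linear_combination (ν : F) * he + hνN
      rw [hνc] at e2
      have a0 : H.h Ψ.k Φ.f = 0 := by
        by_contra ha
        exact hne (mul_right_cancel₀ ha e1)
      have b0 : H.h Ψ.k Φ.e = 0 := by
        by_contra hb
        exact hne (mul_right_cancel₀ hb e2)
      conv_lhs => rw [hv, a0, b0]
      simp [Frame.vec]
  obtain ⟨d, hd0, hk⟩ := hk
  have hfk : H.h Ψ.f Φ.k = 0 := by
    have := Ψ.fk
    rw [hk, H.smul_right, mul_eq_zero] at this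
    exact this.resolve_left (H.conj_ne_zero hd0)
  obtain ⟨P, β, hβ, hf⟩ := Φ.exists_pt hd Ψ.f_ne hfk
  have hKt : ∀ Ξ : Frame H, Ξ.K M = ⊤ := fun Ξ => (regular_param hd hF hc M hM hn hZ hq Ξ).2
  have hΨs := Ψ.adapted_swap hd hM hΨ (hKt Ψ)
  cases P with
  | infty =>
    exfalso
    obtain ⟨b, hb⟩ := regular_unique hd hF hc M hM hn hZ hq Φ Ψ.swap hΦ hΨs (c := β)
      (show Ψ.f = β • Φ.e from hf)
    have hb' : Φ.pt (y : OnePoint F) = b • Φ.pt ((0 : F) : OnePoint F) := by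
      rw [Φ.pt_coe, Φ.pt_coe, ← hg, ← hΨe, show Φ.vec 0 1 0 = Φ.f by simp [Frame.vec]]
      exact hb
    exact hy0 (OnePoint.coe_eq_coe.1 (Φ.pt_inj hd hb'))
  | coe y' =>
    refine ⟨Ψ, y', 1, β, hΨ, ?_, ?_, ?_, by rw [hΨe, one_smul], hf⟩
    · have := Ψ.ff
      rw [hf, H.smul_left, H.smul_right] at this
      simp only [mul_eq_zero, hβ, H.conj_ne_zero hβ, false_or] at this
      exact Φ.coe_mem_isoPts.1 this
    · intro h0
      subst h0
      obtain ⟨b, hb⟩ := regular_unique hd hF hc M hM hn hZ hq Φ.swap Ψ.swap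
        (Φ.adapted_swap hd hM hΦ hK) hΨs (c := β)
        (show Ψ.f = β • Φ.f by rw [hf, Φ.pt_coe]; simp [Frame.vec])
      have hb' : Φ.pt (y : OnePoint F) = b • Φ.pt ∞ := by
        rw [Φ.pt_coe, ← hg, ← hΨe]
        exact hb
      exact OnePoint.coe_ne_infty y (Φ.pt_inj hd hb')
    · intro h0
      subst h0
      have := Ψ.fe
      rw [hf, hΨe, Φ.pt_coe, ← hg, H.smul_left, hgg, mul_zero] at this
      exact zero_ne_one this

/-- The partner of a point is its negative. -/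
theorem regular_neg {y : F} (hy : y ∈ skew H) (hy0 : y ≠ 0) :
    ∃ (Ψ : Frame H) (α β : F), Ψ.Adapted hd M ∧ (-1 : F) ≠ 1 ∧
      Ψ.e = α • Φ.vec y 1 0 ∧ Ψ.f = β • Φ.vec (-y) 1 0 := by
  classical
  obtain ⟨Ψ, y', α, β, hΨ, hy', hy'0, hne, he, hf⟩ :=
    regular_partner hd hF hc M hM hn hZ hq Φ hΦ hy hy0
  have hKt : ∀ Ξ : Frame H, Ξ.K M = ⊤ := fun Ξ => (regular_param hd hF hc M hM hn hZ hq Ξ).2
  set c := y' / y with hcdef
  have hcy : c * y = y' := div_mul_cancel₀ _ hy0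
  have hcc : H.conj c = c := by
    rw [hcdef, map_div₀, eq_neg_of_add_eq_zero_right (mem_skew.1 hy'),
      eq_neg_of_add_eq_zero_right (mem_skew.1 hy), neg_div_neg_eq]
  have hc0 : c ≠ 0 := div_ne_zero hy'0 hy0
  obtain ⟨s, hs⟩ := H.norm_surj c hcc
  have hs0 : s ≠ 0 := fun h => hc0 (by rw [← hs, h, zero_mul])
  set σ := Units.mk0 s hs0
  have htor := hΦ σ (by rw [hKt]; exact Subgroup.mem_top σ)
  have hact : ∀ w : F, (Φ.tor hd σ).1 (Φ.vec w 1 0) = (H.conj s)⁻¹ • Φ.vec (c * w) 1 0 := by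
    intro w
    have h2 := H.conj_ne_zero hs0
    rw [show Φ.vec w 1 0 = w • Φ.e + Φ.f by simp [Frame.vec], map_add, map_smul, Φ.tor_e, Φ.tor_f,
      Units.val_mk0, ← hs]
    simp only [Frame.vec, zero_smul, add_zero, smul_add, smul_smul]
    match_scalars <;> field_simp
  -- the pair moved by the torus
  set Ψ₁ := Ψ.map (Φ.tor hd σ) with hΨ₁
  have hΨ₁A := Ψ.adapted_map hd hΨ htor
  have e1 : Ψ₁.e = (α * (H.conj s)⁻¹) • Φ.vec y' 1 0 := by
    show (Φ.tor hd σ).1 Ψ.e = _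
    rw [he, map_smul, hact, smul_smul, hcy]
  have f1 : Ψ₁.f = (β * (H.conj s)⁻¹) • Φ.vec (c * y') 1 0 := by
    show (Φ.tor hd σ).1 Ψ.f = _
    rw [hf, map_smul, hact, smul_smul]
  have hΨs := Ψ.adapted_swap hd hM hΨ (hKt Ψ)
  have hβ0 : β ≠ 0 := fun h => Ψ.f_ne (by rw [hf, h, zero_smul])
  have hα0 : α * (H.conj s)⁻¹ ≠ 0 := fun h => Ψ₁.e_ne (by rw [e1, h, zero_smul])
  obtain ⟨d, hd'⟩ := regular_unique hd hF hc M hM hn hZ hq Ψ.swap Ψ₁ hΨs hΨ₁A
    (c := α * (H.conj s)⁻¹ * β⁻¹) (by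
      show Ψ₁.e = _ • Ψ.f
      rw [e1, hf, smul_smul, mul_assoc _ β⁻¹, inv_mul_cancel₀ hβ0, mul_one])
  change Ψ₁.f = d • Ψ.e at hd'
  rw [f1, he, smul_smul] at hd'
  have hg0 : β * (H.conj s)⁻¹ ≠ 0 := mul_ne_zero hβ0 (inv_ne_zero (H.conj_ne_zero hs0))
  have heq : c * y' = y := OnePoint.coe_eq_coe.1 (Φ.pt_inj hd
    (P := ((c * y' : F) : OnePoint F)) (Q := (y : OnePoint F))
    (c := (β * (H.conj s)⁻¹)⁻¹ * (d * α)) (by
      rw [Φ.pt_coe, Φ.pt_coe, ← smul_smul, ← hd', inv_smul_smul₀ hg0]))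
  have hc2 : c * c = 1 := mul_right_cancel₀ hy0 (by rw [mul_assoc, hcy, heq, one_mul])
  have hc1 : c ≠ 1 := fun h => hne (by rw [← hcy, h, one_mul])
  have hcm : c = -1 := (mul_self_eq_one_iff.1 hc2).resolve_left hc1
  refine ⟨Ψ, α, β, hΨ, fun h => hc1 (hcm.trans h), he, ?_⟩
  rw [hf, ← hcy, hcm, neg_one_mul]

theorem regular_q_three (hq5 : q ≠ 5) : q = 3 := by
  classical
  obtain ⟨y, hy0, hy⟩ := H.exists_skew
  have hys : y ∈ skew H := mem_skew.2 hy
  obtain ⟨Ψ, α, β, hΨ, h2, he, hf⟩ := regular_neg hd hF hc M hM hn hZ hq Φ hΦ hys hy0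
  have h20 : (2 : F) ≠ 0 := fun h => h2 (by linear_combination -h)
  have hα0 : α ≠ 0 := fun h => Ψ.e_ne (by rw [he, h, zero_smul])
  have hβ0 : β ≠ 0 := fun h => Ψ.f_ne (by rw [hf, h, zero_smul])
  have key : ∀ r : F, H.conj r = r → r ≠ 0 → r ≠ 1 → r ≠ -1 → r ^ 2 = -1 := by
    intro r hr hr0 hr1 hr2
    have h1r : 1 - r ≠ 0 := sub_ne_zero.2 (Ne.symm hr1)
    have h1r' : 1 + r ≠ 0 := fun h => hr2 (by linear_combination h)
    have hrs : r * y ∈ skew H := by
      rw [mem_skew, map_mul, hr]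
      linear_combination r * hy
    set y₂ := (1 + r) * β / ((1 - r) * α) with hy₂
    have hP : Ψ.vec y₂ 1 0 = (2 * β / (1 - r)) • Φ.vec (r * y) 1 0 := by
      simp only [Frame.vec, he, hf, zero_smul, add_zero, smul_add, smul_smul, one_smul, hy₂]
      match_scalars <;> field_simp <;> ring
    have hP' : Ψ.vec (-y₂) 1 0 = (-(2 * r * β) / (1 - r)) • Φ.vec (y / r) 1 0 := by
      simp only [Frame.vec, he, hf, zero_smul, add_zero, smul_add, smul_smul, one_smul, hy₂]
      match_scalars <;> field_simp <;> ring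
    have hy₂s : y₂ ∈ skew H := by
      rw [← Ψ.coe_mem_isoPts]
      show H.h (Ψ.vec y₂ 1 0) (Ψ.vec y₂ 1 0) = 0
      rw [hP, H.smul_left, H.smul_right,
        show H.h (Φ.vec (r * y) 1 0) (Φ.vec (r * y) 1 0) = 0 from Φ.coe_mem_isoPts.2 hrs,
        mul_zero, mul_zero]
    have hy₂0 : y₂ ≠ 0 := div_ne_zero (mul_ne_zero h1r' hβ0) (mul_ne_zero h1r hα0)
    obtain ⟨Ψ₂, α₂, β₂, hΨ₂, -, he₂, hf₂⟩ :=
      regular_neg hd hF hc M hM hn hZ hq Ψ hΨ hy₂s hy₂0
    obtain ⟨Ψ₃, α₃, β₃, hΨ₃, -, he₃, hf₃⟩ :=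
      regular_neg hd hF hc M hM hn hZ hq Φ hΦ hrs (mul_ne_zero hr0 hy0)
    have hα₃ : α₃ ≠ 0 := fun h => Ψ₃.e_ne (by rw [he₃, h, zero_smul])
    obtain ⟨d, hd'⟩ := regular_unique hd hF hc M hM hn hZ hq Ψ₃ Ψ₂ hΨ₃ hΨ₂
      (c := α₂ * (2 * β / (1 - r)) * α₃⁻¹) (by
        rw [he₂, hP, he₃, smul_smul, smul_smul, mul_assoc _ α₃⁻¹, inv_mul_cancel₀ hα₃, mul_one])
    rw [hf₂, hP', hf₃, smul_smul, smul_smul] at hd'
    have hne : β₂ * (-(2 * r * β) / (1 - r)) ≠ 0 := mul_ne_zero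
      (fun h => Ψ₂.f_ne (by rw [hf₂, h, zero_smul]))
      (div_ne_zero (neg_ne_zero.2 (mul_ne_zero (mul_ne_zero h20 hr0) hβ0)) h1r)
    have heq := OnePoint.coe_eq_coe.1 (Φ.pt_inj hd
      (P := ((y / r : F) : OnePoint F)) (Q := ((-(r * y) : F) : OnePoint F))
      (c := (β₂ * (-(2 * r * β) / (1 - r)))⁻¹ * (d * β₃)) (by
        rw [Φ.pt_coe, Φ.pt_coe, ← smul_smul, ← hd', inv_smul_smul₀ hne]))
    rw [div_eq_iff hr0] at heq
    have h' : y * (1 + r ^ 2) = 0 := by linear_combination heq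
    linear_combination (mul_eq_zero.1 h').resolve_left hy0
  -- the fixed field has at most five elements
  have hfix : Nat.card {x : F // H.conj x = x} = q := by
    refine le_antisymm (card_fixed_le hF hc) ?_
    have h1 := AddSubgroup.card_eq_card_quotient_mul_card_addSubgroup (skew H)
    rw [card_skew hF hc, Nat.card_eq_fintype_card (α := F), hF, pow_two,
      show Nat.card (F ⧸ skew H) = Nat.card (trace H).range from
        Nat.card_congr (QuotientAddGroup.quotientKerEquivRange (trace H)).toEquiv] at h1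
    rw [Nat.eq_of_mul_eq_mul_right (by omega) h1]
    exact Nat.card_le_card_of_injective (fun y => (⟨y.1, by
      obtain ⟨w, hw⟩ := y.2
      rw [← hw]
      show H.conj (w + H.conj w) = w + H.conj w
      rw [map_add, H.conj_conj, add_comm]⟩ : {x : F // H.conj x = x}))
      fun u v h => Subtype.ext (congrArg Subtype.val h :)
  have hle : q ≤ 5 := by
    by_cases hi : ∃ i : F, i ^ 2 = -1
    · obtain ⟨i, hi⟩ := hi
      have hsub : {x : F | H.conj x = x} ⊆ ↑({0, 1, -1, i, -i} : Finset F) := by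
        intro r hr
        simp only [Finset.coe_insert, Finset.coe_singleton, Set.mem_insert_iff, Set.mem_singleton_iff]
        by_cases h0 : r = 0
        · exact Or.inl h0
        by_cases h1 : r = 1
        · exact Or.inr (Or.inl h1)
        by_cases hm : r = -1
        · exact Or.inr (Or.inr (Or.inl hm))
        have := key r hr h0 h1 hm
        rcases sq_eq_sq_iff_eq_or_eq_neg.1 (this.trans hi.symm) with h | h
        · exact Or.inr (Or.inr (Or.inr (Or.inl h)))
        · exact Or.inr (Or.inr (Or.inr (Or.inr h)))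
      have h := Set.ncard_le_ncard hsub
      rw [Set.ncard_coe_finset, ← Nat.card_coe_set_eq] at h
      rw [show Nat.card ↑{x : F | H.conj x = x} = q from hfix] at h
      exact h.trans Finset.card_le_five
    · push Not at hi
      have hsub : {x : F | H.conj x = x} ⊆ ↑({0, 1, -1} : Finset F) := by
        intro r hr
        simp only [Finset.coe_insert, Finset.coe_singleton, Set.mem_insert_iff, Set.mem_singleton_iff]
        by_cases h0 : r = 0
        · exact Or.inl h0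
        by_cases h1 : r = 1
        · exact Or.inr (Or.inl h1)
        by_cases hm : r = -1
        · exact Or.inr (Or.inr hm)
        exact absurd (key r hr h0 h1 hm) (hi r)
      have h := Set.ncard_le_ncard hsub
      rw [Set.ncard_coe_finset, ← Nat.card_coe_set_eq] at h
      rw [show Nat.card ↑{x : F | H.conj x = x} = q from hfix] at h
      exact (h.trans Finset.card_le_three).trans (by norm_num)
  obtain ⟨p, f, hp, hf0, hqf, hchar⟩ := exists_prime_pow' hF
  rcases (show q = 3 ∨ q = 4 by omega) with h | h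
  · exact h
  · exfalso
    have h4 : p ∣ 2 ^ 2 := by
      rw [show (2 : ℕ) ^ 2 = p ^ f by rw [← hqf, h]; norm_num]
      exact dvd_pow_self p hf0.ne'
    have hp2 : p = 2 := (Nat.prime_dvd_prime_iff_eq hp Nat.prime_two).1 (hp.dvd_of_dvd_pow h4)
    subst hp2
    exact h20 (by exact_mod_cast CharP.cast_eq_zero F 2)

omit Φ hΦ in
/-- No subgroup of index `q ^ 3`. -/
theorem no_regular (Φ : Frame H) (hq5 : q ≠ 5) : False := by
  classical
  obtain ⟨Ψ, -, hΨ⟩ := regular_adapted hd hF hc M hM hn hZ hq Φ.e_ne Φ.ee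
  have hq3 := regular_q_three hd hF hc M hM hn hZ hq Ψ hΨ hq5
  subst hq3
  have hcard := card_mul_relIndex hd hF hc M hM Φ
  rw [hn] at hcard
  norm_num [-Nat.card_eq_fintype_card] at hcard
  have hM' : Nat.card M = 224 := by omega
  have := finite_unit' (H := H) hd
  have : Fact (Nat.Prime 7) := ⟨by norm_num⟩
  obtain ⟨P⟩ := (inferInstance : Nonempty (Sylow 7 M))
  have hP : Nat.card (P : Subgroup M) = 7 := by
    rw [P.card_eq_multiplicity, hM', show (224 : ℕ) = 7 * 32 by norm_num,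
      Nat.factorization_mul (by norm_num) (by norm_num), Finsupp.add_apply,
      Nat.Prime.factorization_self (by norm_num),
      Nat.factorization_eq_zero_of_not_dvd (by norm_num), add_zero, pow_one]
  obtain ⟨⟨x, hxP⟩, hxo⟩ := exists_prime_orderOf_dvd_card' (G := (P : Subgroup M)) 7 (by rw [hP])
  rw [Subgroup.orderOf_mk] at hxo
  have hxo' : orderOf (x : Unit' H) = 7 := by rw [Subgroup.orderOf_coe]; exact hxo
  have hnl : ∀ w : V, w ≠ 0 → ∀ c : F, (x : Unit' H).1 w ≠ c • w := fun w hw c =>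
    no_fixed_line hd hF hc (hM x.2) (by norm_num) hxo' (by norm_num) (by norm_num) hw c
  have hPx : Subgroup.zpowers x = (P : Subgroup M) := by
    refine Subgroup.eq_of_le_of_card_ge (Subgroup.zpowers_le.2 hxP) ?_
    rw [Nat.card_zpowers, hxo, hP]
  set N := Subgroup.normalizer (P : Set M) with hNdef
  have hns : Nat.card (Sylow 7 M) = 1 ∨ Nat.card (Sylow 7 M) = 8 := by
    have h1 := P.card_dvd_index
    have h2 : (P : Subgroup M).index = 32 := by
      have := (P : Subgroup M).index_mul_card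
      rw [hP, hM'] at this
      omega
    rw [h2] at h1
    have h3 : Nat.card (Sylow 7 M) % 7 = 1 := card_sylow_modEq_one 7 M
    have key : ∀ d ∈ Nat.divisors 32, d % 7 = 1 → d = 1 ∨ d = 8 := by decide +kernel
    exact key _ (Nat.mem_divisors.2 ⟨h1, by norm_num⟩) h3
  have hN4 : 2 ^ 2 ∣ Nat.card N := by
    have h1 := N.index_mul_card
    rw [← P.card_eq_index_normalizer, hM'] at h1
    rcases hns with h | h <;> rw [h] at h1 <;> omega
  have : Fact (Nat.Prime 2) := ⟨Nat.prime_two⟩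
  obtain ⟨S, hS⟩ := Sylow.exists_subgroup_card_pow_prime 2 hN4
  have hi : ∀ y : N, ∃ i : ℕ, i < 7 ∧ x ^ i = (y : M) * x * (y : M)⁻¹ := by
    rintro ⟨y, hy⟩
    have hconj : y * x * y⁻¹ ∈ (P : Subgroup M) := (Subgroup.mem_normalizer_iff.1 hy x).1 hxP
    rw [← hPx] at hconj
    have h := (isOfFinOrder_of_finite x).mem_zpowers_iff_mem_range_orderOf.1 hconj
    rw [hxo, Finset.mem_image] at h
    obtain ⟨i, hi, he⟩ := h
    exact ⟨i, Finset.mem_range.1 hi, he⟩
  have hnone : ∀ y : N, y ∈ S → y ≠ 1 → y * y = 1 → (y : M) * x * (y : M)⁻¹ ≠ x := by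
    intro y _ hy1 hyy he
    have hcomm : ((y : M) : Unit' H) * x = x * (y : M) :=
      (congrArg Subtype.val (mul_inv_eq_iff_eq_mul.1 he) :)
    have : Nontrivial V := Module.nontrivial_of_finrank_pos (R := F) (by omega)
    have hyu : ((y : M) : Unit' H) ^ 2 = 1 := by
      rw [pow_two]; exact congrArg (fun z : N => ((z : M) : Unit' H)) hyy
    obtain ⟨w, hw0, c, hw⟩ := exists_eigen_of_pow (H := H) hF _ (m := 2) (by norm_num) hyu
    have hs := scalar_of_commute hd hnl hcomm hw0 hw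
    exact hy1 (Subtype.ext (Subtype.ext (scalar_eq_one hd Φ (hM (y : M).2) hs (m := 2)
      (by norm_num) hyu)))
  have h4 : ∀ y : N, y ∈ S → y ^ 4 = 1 := fun y hy => by
    have h : (⟨y, hy⟩ : S) ^ Nat.card S = 1 := pow_card_eq_one'
    rw [hS] at h
    exact congrArg Subtype.val h
  have hsq : ∀ y : N, y ∈ S → y * y = 1 := by
    intro y hy
    by_contra hne
    have hy4 : (y * y) * (y * y) = 1 := by
      have h := h4 y hy
      rw [show y * y * (y * y) = y ^ 4 by simp only [pow_succ, pow_zero, one_mul, mul_assoc]]; exact h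
    refine hnone _ (mul_mem hy hy) hne hy4 ?_
    obtain ⟨i, hi7, hxi⟩ := hi y
    have h := conj_pow_eq hxi.symm 4
    rw [show ((y : M)) ^ 4 = 1 from (congrArg Subtype.val (h4 y hy) :), one_mul, inv_one,
      mul_one] at h
    nth_rewrite 1 [← pow_one x] at h
    rw [pow_eq_pow_iff_modEq, hxo] at h
    have key : ∀ i < 7, 1 % 7 = i ^ 4 % 7 → i ^ 2 % 7 = 1 := by decide +kernel
    have h2 := conj_pow_eq hxi.symm 2
    rw [← pow_mod_orderOf x (i ^ 2), hxo, key i hi7 h, pow_one, pow_two] at h2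
    exact h2
  have hone : ∀ y : N, y ∈ S → y ≠ 1 → (y : M) * x * (y : M)⁻¹ = x ^ 6 := by
    intro y hy hy1
    obtain ⟨i, hi7, hxi⟩ := hi y
    have h := conj_pow_eq hxi.symm 2
    rw [pow_two, show (y : M) * y = 1 from congrArg Subtype.val (hsq y hy), one_mul, inv_one,
      mul_one] at h
    nth_rewrite 1 [← pow_one x] at h
    rw [pow_eq_pow_iff_modEq, hxo] at h
    have key : ∀ i < 7, 1 % 7 = i ^ 2 % 7 → i = 1 ∨ i = 6 := by decide +kernel
    rcases key i hi7 h with rfl | rfl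
    · exact absurd (by rw [← hxi, pow_one]) (hnone y hy hy1 (hsq y hy))
    · exact hxi.symm
  obtain ⟨⟨a, ha⟩, ⟨b, hb⟩, ha1, hb1, hab⟩ : ∃ a b : S, a ≠ 1 ∧ b ≠ 1 ∧ a ≠ b := by
    have := Fintype.ofFinite S
    obtain ⟨a, b, hab⟩ := Finset.one_lt_card_iff.1 (show 1 < ((Finset.univ : Finset S).erase 1).card by
      rw [Finset.card_erase_of_mem (Finset.mem_univ _), Finset.card_univ, ← Nat.card_eq_fintype_card,
        hS]
      norm_num)
    exact ⟨a, b, (Finset.mem_erase.1 hab.1).1, (Finset.mem_erase.1 hab.2.1).1, hab.2.2⟩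
  have ha1' : a ≠ 1 := fun h => ha1 (Subtype.ext h)
  have hb1' : b ≠ 1 := fun h => hb1 (Subtype.ext h)
  have hab' : a ≠ b := fun h => hab (Subtype.ext h)
  refine hnone (a * b) (mul_mem ha hb) (fun h => hab' ?_) (hsq _ (mul_mem ha hb)) ?_
  · rw [eq_inv_of_mul_eq_one_left h, inv_eq_of_mul_eq_one_right (hsq b hb)]
  · calc ((a * b : N) : M) * x * ((a * b : N) : M)⁻¹
          = (a : M) * ((b : M) * x * (b : M)⁻¹) * (a : M)⁻¹ := by
            rw [Subgroup.coe_mul]; group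
      _ = x := by
            rw [hone b hb hb1', ← conj_pow, hone a ha ha1', ← pow_mul,
              show 6 * 6 = 7 * 5 + 1 from rfl, pow_succ, pow_mul, ← hxo, pow_orderOf_eq_one, one_pow,
              one_mul]

end CfsgLib.MinIndexPSU
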