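import Cfsg.Agent.Lib.MinIndexPSU.Transvections
import Cfsg.Agent.Lib.MinIndexPSU.Regular
import Cfsg.Agent.Lib.MinIndexPSU.Eleven
import Cfsg.Agent.Lib.MinIndexPSU.Psu

/-!
The minimal index of a proper subgroup of `PSU₃(q)`.
-/

set_option autoImplicit false

namespace CfsgLib.MinIndexPSU

open Module CfsgLib.Classical.Herm CfsgLib.Classical.Herm.HermSpace

variable {F V : Type*} [Field F] [AddCommGroup V] [Module F V] [FiniteDimensional F V]
  {H : HermSpace F V} [Fintype F]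

/-- A proper subgroup has index more than `q ^ 3`. -/
theorem eq_ker_of_relIndex_le (hd : finrank F V = 3) {q : ℕ} (hF : Fintype.card F = q ^ 2)
    (hc : ∀ a, H.conj a = a ^ q) (hP : Perfectable H) (hq : 3 ≤ q) (hq5 : q ≠ 5) (Φ : Frame H)
    (M : Subgroup (Unit' H)) (hM : M ≤ (detHom H).ker)
    (hn : M.relIndex (detHom H).ker ≤ q ^ 3) : M = (detHom H).ker := by
  classical
  by_contra hMne
  obtain ⟨p, f, hp, hf0, hqf, hchar⟩ := exists_prime_pow' hF
  have : Fact p.Prime := ⟨hp⟩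
  have hne : ∀ Ψ : Frame H, Ψ.Z M ≠ skew H := fun Ψ h =>
    hMne (eq_of_Z_eq hd hF hc M hM hn hP Ψ h)
  have hZ : ∀ Ψ : Frame H, Ψ.Z M = ⊥ := by
    intro Ψ
    by_contra hbot
    rcases Z_cases hd hF hc (p := p) M hM hn Ψ (hne Ψ) hbot with ⟨rfl, h⟩ | ⟨hq9, h⟩
    · exact no_two hd hF hc M hM hn Ψ hq (by exact_mod_cast CharP.cast_eq_zero F 2) h
    · exact no_three hd hF hc M hM hn Ψ hq9 h
  by_cases hn' : M.relIndex (detHom H).ker = q ^ 3
  · exact no_regular hd hF hc M hM hn' hZ hq Φ hq5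
  obtain ⟨Ψ, -, hΨ⟩ := line_adapted hd hF hc M hM hn hn' hZ hq hq5 Φ.e_ne Φ.ee
  by_cases h11 : q = 11
  · subst h11
    exact no_eleven hd hF hc M hM hn hn' hZ Ψ hΨ
  · exact line_no_plane hd hF hc M hM hn hn' hZ hq hq5 Ψ hΨ h11

theorem cube_lt_index {F : Type*} [Field F] [Fintype F] {q : ℕ} (hF : Fintype.card F = q ^ 2)
    (hq : 3 ≤ q) (hq5 : q ≠ 5) (K : Subgroup (Cfsg.PSU 3 F q)) (hK : K ≠ ⊤) :
    q ^ 3 + 1 ≤ K.index := by
  by_contra hlt
  obtain ⟨Φ⟩ := exists_frame_std hF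
  exact liftUnit_ne hF K hK (eq_ker_of_relIndex_le finrank_three hF (fun _ => rfl)
    (perfectable_std hF (le_refl 3) (by omega)) hq hq5 Φ _ (liftUnit_le hF K)
    (by rw [relIndex_liftUnit]; omega))

end CfsgLib.MinIndexPSU
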