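import Cfsg.Agent.Lib.MinIndexPSU.Torus
import Cfsg.Agent.Lib.MinIndexPSU.LineImage
import Cfsg.Agent.Lib.MinIndexPSU.Exceptional

/-!
No transvections and a full line of root parameters: the plane groups are too small.
-/

set_option autoImplicit false

namespace CfsgLib.MinIndexPSU

open Module CfsgLib.Classical.Herm CfsgLib.Classical.Herm.HermSpace CfsgLib.PSL2Sub
open Matrix (ProjGenLinGroup)
open scoped OnePoint

theorem pow_alt_four (x : alternatingGroup (Fin 4)) : x ^ 2 = 1 ∨ x ^ 3 = 1 := by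
  revert x; decide +kernel

theorem pow_perm_four (x : Equiv.Perm (Fin 4)) : x ^ 2 = 1 ∨ x ^ 3 = 1 ∨ x ^ 4 = 1 := by
  revert x; decide +kernel

theorem pow_alt_five (x : alternatingGroup (Fin 5)) : x ^ 2 = 1 ∨ x ^ 3 = 1 ∨ x ^ 5 = 1 := by
  revert x; decide +kernel

theorem card_order_four_perm :
    (Finset.univ.filter fun x : Equiv.Perm (Fin 4) => x ^ 4 = 1 ∧ x ^ 2 ≠ 1).card ≤ 6 := by
  decide +kernel

variable {F V : Type*} [Field F] [AddCommGroup V] [Module F V] [FiniteDimensional F V]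
  {H : HermSpace F V} [Fintype F] (hd : finrank F V = 3) {q : ℕ}
  (hF : Fintype.card F = q ^ 2) (hc : ∀ a, H.conj a = a ^ q)
  (M : Subgroup (Unit' H)) (hM : M ≤ (detHom H).ker)
  (hn : M.relIndex (detHom H).ker ≤ q ^ 3) (hn' : M.relIndex (detHom H).ker ≠ q ^ 3)
  (hZ : ∀ Φ : Frame H, Φ.Z M = ⊥) (hq : 3 ≤ q) (hq5 : q ≠ 5)
include hd hF hc hM hn hn' hZ hq hq5

theorem line_A_ne (Φ : Frame H) : Φ.A M ≠ ⊥ := by
  intro hA
  have h := Φ.relIndex_mul_card hd hF hc M hM hn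
  rw [hA, hZ, AddSubgroup.card_bot, mul_one, mul_one] at h
  have hK : Nat.card (Φ.K M) ≤ q ^ 2 - 1 :=
    (Subgroup.card_le_card_group _).trans (natCard_units hF hc).le
  have h0 : 0 < q ^ 2 - 1 := by
    have : 3 * q ≤ q ^ 2 := by rw [pow_two]; exact Nat.mul_le_mul_right q hq
    omega
  have h2 : q ^ 3 * (q ^ 2 - 1) ≤ M.relIndex (detHom H).ker * (q ^ 2 - 1) :=
    h ▸ Nat.mul_le_mul_left _ hK
  exact hn' (le_antisymm hn (Nat.le_of_mul_le_mul_right h2 h0))

theorem line_char (Φ : Frame H) : (2 : F) ≠ 0 := by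
  intro h2
  apply line_A_ne hd hF hc M hM hn hn' hZ hq hq5 Φ
  refine eq_bot_iff.2 fun a ha => AddSubgroup.mem_bot.2 ?_
  have h := Φ.norm_mem_Z M h2 ha
  rw [hZ, AddSubgroup.mem_bot, mul_eq_zero] at h
  rcases h with h | h
  · exact h
  · exact (map_eq_zero H.conj).1 h

theorem line_pow (Φ : Frame H) {t : Fˣ} (ht : t ∈ Φ.K M) : t ^ (3 * (q - 1)) = 1 :=
  Φ.pow_eq_one_of_mem_K M hF hc hd (hZ Φ) (line_A_ne hd hF hc M hM hn hn' hZ hq hq5 Φ) ht

/-- The numerical parameters. -/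
theorem line_numbers (Φ : Frame H) : q % 6 = 5 ∧ 11 ≤ q ∧ Nat.card (Φ.A M) = q ∧
    (Nat.card (Φ.K M) = 3 * (q - 1) ∨ 2 * Nat.card (Φ.K M) = 3 * (q - 1)) ∧
    (∀ c : F, H.conj c = c → ∀ a ∈ Φ.A M, c * a ∈ Φ.A M) := by
  classical
  have hAne := line_A_ne hd hF hc M hM hn hn' hZ hq hq5 Φ
  have h2 := line_char hd hF hc M hM hn hn' hZ hq hq5 Φ
  obtain ⟨p, f, hp, hf0, hqf, hchar⟩ := exists_prime_pow' hF
  have hp2 : p ≠ 2 := by
    rintro rfl
    exact h2 (by exact_mod_cast CharP.cast_eq_zero F 2)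
  have hqodd : q % 2 = 1 := by
    rw [hqf]; exact Nat.odd_iff.1 ((hp.odd_of_ne_two hp2).pow)
  obtain ⟨t, htK, hto⟩ := exists_generator (Φ.K M)
  have htmem : t ∈ Φ.K M := by rw [htK]; exact Subgroup.mem_zpowers t
  obtain ⟨j, hj⟩ : Nat.card (Φ.K M) ∣ 3 * (q - 1) :=
    hto ▸ orderOf_dvd_of_pow_eq_one (line_pow hd hF hc M hM hn hn' hZ hq hq5 Φ htmem)
  have hKd : Nat.card (Φ.K M) ∣ q ^ 2 - 1 := by
    have := Subgroup.card_subgroup_dvd_card (Φ.K M)
    rwa [natCard_units hF hc] at this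
  obtain ⟨i, hi⟩ := hKd
  have hAle := Φ.card_A_le M hF hc (hZ Φ)
  have hle := q_sq_le hd hF hc M hM hn Φ
  rw [hZ, AddSubgroup.card_bot, mul_one] at hle
  set k := Nat.card (Φ.K M)
  have hkq : q ≤ k := by
    by_contra h
    have h1 := hle.trans (Nat.mul_le_mul hAle (show k ≤ q - 1 by omega))
    rw [Nat.mul_sub, mul_one, ← pow_two] at h1
    have : 3 * q ≤ q ^ 2 := by rw [pow_two]; exact Nat.mul_le_mul_right q hq
    omega
  have hj12 : j = 1 ∨ j = 2 := by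
    rcases Nat.lt_or_ge j 3 with h | h
    · interval_cases j
      · rw [mul_zero] at hj; omega
      · exact Or.inl rfl
      · exact Or.inr rfl
    · exfalso
      have h1 : k * 3 ≤ k * j := Nat.mul_le_mul_left k h
      rw [← hj] at h1
      omega
  have hk0 : 0 < k := by omega
  have hq1 : q ^ 2 - 1 = (q - 1) * (q + 1) := by rw [mul_comm, ← Nat.sq_sub_sq, one_pow]
  have hij : 3 * i = j * (q + 1) := by
    refine Nat.eq_of_mul_eq_mul_left hk0 ?_
    calc k * (3 * i) = 3 * (k * i) := by ring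
      _ = 3 * ((q - 1) * (q + 1)) := by rw [← hi, hq1]
      _ = (3 * (q - 1)) * (q + 1) := by ring
      _ = k * (j * (q + 1)) := by rw [hj]; ring
  have hq6 : q % 6 = 5 := by rcases hj12 with rfl | rfl <;> omega
  -- the fixed field stabilises `A`
  obtain ⟨a, ha, ha0⟩ : ∃ a ∈ Φ.A M, a ≠ 0 := by
    by_contra h
    push Not at h
    exact hAne (eq_bot_iff.2 fun a ha => AddSubgroup.mem_bot.2 (h a ha))
  let E : AddSubgroup F :=
    { carrier := {c | H.conj c = c ∧ ∀ a ∈ Φ.A M, c * a ∈ Φ.A M}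
      zero_mem' := ⟨map_zero _, fun a _ => by rw [zero_mul]; exact zero_mem _⟩
      add_mem' := fun {c d} hc' hd' => ⟨by rw [map_add, hc'.1, hd'.1],
        fun a ha => by rw [add_mul]; exact add_mem (hc'.2 a ha) (hd'.2 a ha)⟩
      neg_mem' := fun {c} hc' => ⟨by rw [map_neg, hc'.1],
        fun a ha => by rw [neg_mul]; exact neg_mem (hc'.2 a ha)⟩ }
  let ξ : ↥(Φ.K M) →* Fˣ := (powMonoidHom (2 * q - 1)).comp (Φ.K M).subtype
  have hξ : ∀ s : ↥(Φ.K M), ((ξ s : Fˣ) : F) = H.conj (s.1 : F) * (H.conj s.1 / s.1) := by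
    intro s
    show (((s.1 : Fˣ) ^ (2 * q - 1) : Fˣ) : F) = _
    rw [Units.val_pow_eq_pow_val, hc, ← mul_div_assoc, ← pow_add,
      eq_div_iff s.1.ne_zero, ← pow_succ]
    congr 1; omega
  have hξE : ∀ s, ((ξ s : Fˣ) : F) ∈ E := by
    intro s
    refine ⟨?_, fun b hb => ?_⟩
    · have h := Φ.conj_div_eq M (hZ Φ) (Φ.A_stable M hd s.2 ha) ha ha0
      rw [mul_div_cancel_right₀ _ ha0] at h
      rw [hξ, h]
    · rw [hξ]; exact Φ.A_stable M hd s.2 hb
  have hker : Nat.card ξ.ker ≤ 3 := by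
    refine le_trans (Nat.le_of_eq (Nat.card_congr (ξ.ker.equivMapOfInjective (Φ.K M).subtype
      Subtype.val_injective).toEquiv)) (card_le_of_pow_eq_one _ (by norm_num) ?_)
    rintro _ ⟨s, hs, rfl⟩
    have h1 : (s.1 : Fˣ) ^ (2 * q - 1) = 1 := MonoidHom.mem_ker.1 hs
    have h3 := line_pow hd hF hc M hM hn hn' hZ hq hq5 Φ s.2
    have e : (s.1 : Fˣ) ^ (3 * (2 * q - 1)) = (s.1 : Fˣ) ^ (3 * (q - 1) * 2) * (s.1 : Fˣ) ^ 3 := by
      rw [← pow_add]; congr 1; omega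
    rw [mul_comm 3 (2 * q - 1), pow_mul, h1, one_pow, pow_mul, h3, one_pow, one_mul] at e
    exact e.symm
  have hrange : Nat.card ξ.range + 1 ≤ Nat.card E := by
    rw [← Finite.card_option]
    let φ : Option ξ.range → E := fun o => o.elim ⟨0, zero_mem _⟩ fun u =>
      ⟨((u.1 : Fˣ) : F), by obtain ⟨s, hs⟩ := u.2; rw [← hs]; exact hξE s⟩
    refine Nat.card_le_card_of_injective φ ?_
    rintro (_ | u) (_ | u') h
    · rfl
    · exact absurd (congrArg Subtype.val h).symm u'.1.ne_zero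
    · exact absurd (congrArg Subtype.val h) u.1.ne_zero
    · exact congrArg some (Subtype.ext (Units.ext (congrArg Subtype.val h :)))
  have hkker : k ≤ 3 * Nat.card ξ.range := by
    have h1 : ξ.ker.index * Nat.card ξ.ker = k := Subgroup.index_mul_card _
    rw [Subgroup.index_ker, mul_comm] at h1
    rw [← h1]
    exact Nat.mul_le_mul_right _ hker
  obtain ⟨e, -, he⟩ := (Nat.dvd_prime_pow hp).1 (show Nat.card E ∣ p ^ (f * 2) by
    have := AddSubgroup.card_addSubgroup_dvd_card E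
    rwa [Nat.card_eq_fintype_card (α := F), hF, hqf, ← pow_mul] at this)
  have hEfix : Nat.card E ≤ Nat.card {c : F // H.conj c = c} :=
    Nat.card_le_card_of_injective (fun c : E => (⟨c.1, c.2.1⟩ : {c : F // H.conj c = c}))
      fun c d h => Subtype.ext (congrArg Subtype.val h :)
  have hEq : Nat.card E = q := by
    refine le_antisymm (hEfix.trans (card_fixed_le hF hc)) ?_
    by_contra hlt
    have hef : e < f := by
      by_contra h
      exact hlt (by rw [he, hqf]; exact Nat.pow_le_pow_right hp.pos (by omega))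
    have h3 : 3 * p ^ e ≤ q := by
      rw [hqf]
      calc 3 * p ^ e ≤ p * p ^ e := Nat.mul_le_mul_right _ (by have := hp.two_le; omega)
        _ = p ^ (e + 1) := (pow_succ' p e).symm
        _ ≤ p ^ f := Nat.pow_le_pow_right hp.pos hef
    rw [← he] at h3
    rcases hj12 with rfl | rfl <;> omega
  have hfix : ∀ c : F, H.conj c = c → c ∈ E := by
    intro c hcc
    obtain ⟨d, hd'⟩ := ((Nat.bijective_iff_injective_and_card
      (fun c : E => (⟨c.1, c.2.1⟩ : {c : F // H.conj c = c}))).2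
      ⟨fun c d h => Subtype.ext (congrArg Subtype.val h :),
        le_antisymm hEfix ((card_fixed_le hF hc).trans hEq.ge)⟩).2 ⟨c, hcc⟩
    have : d.1 = c := congrArg Subtype.val hd'
    exact this ▸ d.2
  refine ⟨hq6, by omega, le_antisymm hAle ?_, ?_, fun c hcc => (hfix c hcc).2⟩
  · rw [← hEq]
    exact Nat.card_le_card_of_injective (fun c : E => (⟨c.1 * a, c.2.2 a ha⟩ : Φ.A M))
      fun c d h => Subtype.ext (mul_right_cancel₀ ha0 (congrArg Subtype.val h :))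
  · rcases hj12 with rfl | rfl
    · left; omega
    · right; omega

theorem line_index (Φ : Frame H) :
    M.relIndex (detHom H).ker * (q * Nat.card (Φ.K M)) = q ^ 3 * (q ^ 2 - 1) := by
  have h := Φ.relIndex_mul_card hd hF hc M hM hn
  rw [hZ, AddSubgroup.card_bot, mul_one,
    (line_numbers hd hF hc M hM hn hn' hZ hq hq5 Φ).2.2.1, mul_assoc] at h
  exact h

/-- The eigenvalue groups agree at all points. -/
theorem line_K_eq (Φ Ψ : Frame H) : Ψ.K M = Φ.K M := by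
  classical
  have hn0 : 0 < M.relIndex (detHom H).ker := by
    have := finite_unit' (H := H) hd
    exact Nat.pos_of_ne_zero Subgroup.index_ne_zero_of_finite
  have hcard : Nat.card (Ψ.K M) = Nat.card (Φ.K M) :=
    Nat.eq_of_mul_eq_mul_left (show 0 < q by omega) (Nat.eq_of_mul_eq_mul_left hn0
      ((line_index hd hF hc M hM hn hn' hZ hq hq5 Ψ).trans
        (line_index hd hF hc M hM hn hn' hZ hq hq5 Φ).symm))
  set k := Nat.card (Φ.K M)
  have hk : 0 < k := Nat.card_pos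
  have : NeZero k := ⟨hk.ne'⟩
  have key : ∀ K : Subgroup Fˣ, Nat.card K = k → K = rootsOfUnity k F := fun K hK =>
    Subgroup.eq_of_le_of_card_ge (fun t ht => (mem_rootsOfUnity k t).2 (by
      have := Subgroup.pow_index_mem (⊥ : Subgroup K) ⟨t, ht⟩
      rw [Subgroup.index_bot, Subgroup.mem_bot, hK] at this
      exact congrArg Subtype.val this))
      ((card_rootsOfUnity F k).trans hK.ge)
  rw [key _ rfl, key _ hcard]

theorem line_gen (Φ : Frame H) {t : Fˣ} (ht : t ∈ Φ.K M) (hto : orderOf t = Nat.card (Φ.K M))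
    {m : ℕ} (hm : ((t : F) * H.conj t) ^ m = 1) : Nat.card (Φ.K M) ∣ 6 * m := by
  have h1 : t ^ ((q + 1) * m) = 1 := by
    apply Units.ext
    rw [Units.val_pow_eq_pow_val, Units.val_one, pow_mul, pow_succ', ← hc]
    exact hm
  have d1 := hto ▸ orderOf_dvd_of_pow_eq_one h1
  have d2 := hto ▸ orderOf_dvd_of_pow_eq_one (line_pow hd hF hc M hM hn hn' hZ hq hq5 Φ ht)
  have d3 := Nat.dvd_sub (d1.mul_left 3) (d2.mul_right m)
  have e : 3 * ((q + 1) * m) - 3 * (q - 1) * m = 6 * m := by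
    rw [← mul_assoc, ← Nat.sub_mul, show 3 * (q + 1) - 3 * (q - 1) = 6 by omega]
  rwa [e] at d3

theorem line_adapted {u : V} (hu0 : u ≠ 0) (huu : H.h u u = 0) :
    ∃ Ψ : Frame H, Ψ.e = u ∧ Ψ.Adapted hd M := by
  obtain ⟨z, p⟩ := exists_isotropic_partner (H := H) huu hu0
  obtain ⟨Φ, he, -⟩ := exists_frame hd p
  obtain ⟨t, htK, hto⟩ := exists_generator (Φ.K M)
  obtain ⟨hq6, hq11, -, hk, -⟩ := line_numbers hd hF hc M hM hn hn' hZ hq hq5 Φ
  have htmem : t ∈ Φ.K M := by rw [htK]; exact Subgroup.mem_zpowers t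
  have hN1 : (t : F) * H.conj t ≠ 1 := by
    intro hN
    have := Nat.le_of_dvd (by norm_num)
      (line_gen hd hF hc M hM hn hn' hZ hq hq5 Φ htmem hto (m := 1) (by rw [pow_one]; exact hN))
    omega
  have hx1 : H.conj (t : F) * (H.conj t / t) ≠ 1 := by
    intro hx
    have h1 : t ^ (2 * q - 1) = 1 := by
      apply Units.ext
      rw [Units.val_pow_eq_pow_val, Units.val_one, ← hx, hc, ← mul_div_assoc, ← pow_add,
        eq_div_iff t.ne_zero, ← pow_succ]
      congr 1; omega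
    have h3 := line_pow hd hF hc M hM hn hn' hZ hq hq5 Φ htmem
    have e : t ^ (3 * (2 * q - 1)) = t ^ (3 * (q - 1) * 2) * t ^ 3 := by
      rw [← pow_add]; congr 1; omega
    rw [mul_comm 3 (2 * q - 1), pow_mul, h1, one_pow, pow_mul, h3, one_pow, one_mul] at e
    have := Nat.le_of_dvd (by norm_num) (hto ▸ orderOf_dvd_of_pow_eq_one e.symm)
    omega
  obtain ⟨Ψ, hΨ, hA⟩ := Φ.exists_adapted_of_gen hd M htK hx1 hN1
  exact ⟨Ψ, hΨ.trans he, hA⟩

/-- `-1` is an eigenvalue. -/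
theorem line_neg_one (Φ : Frame H) : (-1 : Fˣ) ∈ Φ.K M := by
  classical
  have := finite_unit' (H := H) hd
  have h2 := line_char hd hF hc M hM hn hn' hZ hq hq5 Φ
  obtain ⟨hq6, -, -, -, -⟩ := line_numbers hd hF hc M hM hn hn' hZ hq hq5 Φ
  have : Fact (Nat.Prime 2) := ⟨Nat.prime_two⟩
  have hqodd : q % 2 = 1 := by omega
  have hn0 : 0 < M.relIndex (detHom H).ker := Nat.pos_of_ne_zero Subgroup.index_ne_zero_of_finite
  have hMc : Nat.card M = (q ^ 3 + 1) * (q * Nat.card (Φ.K M)) := by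
    refine Nat.eq_of_mul_eq_mul_left hn0 ?_
    rw [card_mul_relIndex hd hF hc M hM Φ, ← line_index hd hF hc M hM hn hn' hZ hq hq5 Φ]
    ring
  have heven : 2 ∣ Nat.card M := by
    rw [hMc]
    refine Dvd.dvd.mul_right (Nat.dvd_of_mod_eq_zero ?_) _
    rw [Nat.add_mod, Nat.pow_mod, hqodd]
  obtain ⟨⟨z, hzM⟩, hz⟩ := exists_prime_orderOf_dvd_card' (G := M) 2 heven
  rw [Subgroup.orderOf_mk] at hz
  have hzz : z * z = 1 := by
    have := pow_orderOf_eq_one z
    rwa [hz, pow_two] at this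
  obtain ⟨u, hu0, huu, d, hzu⟩ := exists_fixed_isotropic_of_involution hd h2 z hzz
  obtain ⟨m, hm, c, hc0, hmu⟩ := exists_mem_map_line hd hF hc M hM hn hu0 huu Φ.e_ne Φ.ee
  set z' := m * z * m⁻¹
  have hz'e : z'.1 Φ.e = d • Φ.e := by
    have : Φ.e = c⁻¹ • m.1 u := by rw [hmu, inv_smul_smul₀ hc0]
    rw [this, map_smul, smul_comm]
    congr 1
    show (m * z * m⁻¹).1 (m.1 u) = _
    rw [mul_apply, mul_apply, inv_apply_self, hzu, map_smul]
  have hz'M : z' ∈ M := mul_mem (mul_mem hm hzM) (inv_mem hm)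
  have hz'B : z' ∈ M ⊓ Φ.B := ⟨hz'M, hM hz'M, d, hz'e⟩
  have hz'o : orderOf z' = 2 := by
    rw [show z' = MulAut.conj m z from rfl, MulEquiv.orderOf_eq, hz]
  have h2K : 2 ∣ Nat.card (Φ.K M) := by
    have h := (M ⊓ Φ.B).orderOf_dvd_natCard hz'B
    rw [hz'o, Φ.card_inf_B M hd, Φ.card_rset M, hZ, AddSubgroup.card_bot, mul_one,
      (line_numbers hd hF hc M hM hn hn' hZ hq hq5 Φ).2.2.1] at h
    exact (Nat.prime_two.dvd_mul.1 h).resolve_left (by omega)
  obtain ⟨⟨s, hs⟩, hso⟩ := exists_prime_orderOf_dvd_card' (G := Φ.K M) 2 h2K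
  rw [Subgroup.orderOf_mk] at hso
  have hs2 : (s : F) * s = 1 := by
    rw [← Units.val_mul, ← pow_two, ← hso, pow_orderOf_eq_one, Units.val_one]
  rcases mul_self_eq_one_iff.1 hs2 with h | h
  · rw [show s = 1 from Units.ext h, orderOf_one] at hso
    omega
  · rwa [show s = -1 from Units.ext (by rw [h, Units.val_neg, Units.val_one])] at hs

variable (Φ : Frame H) (hΦ : Φ.Adapted hd M)
include hΦ

/-- At each isotropic point of the plane there is an adapted frame with the same plane. -/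
theorem line_plane {P : OnePoint F} (hP : P ∈ Φ.isoPts) :
    ∃ Ψ : Frame H, Ψ.Adapted hd M ∧ Ψ.e = Φ.pt P ∧ ∃ c : F, c ≠ 0 ∧ Ψ.k = c • Φ.k := by
  obtain ⟨Ψ₀, he₀, hΨ₀⟩ := line_adapted hd hF hc M hM hn hn' hZ hq hq5 (Φ.pt_ne P) hP
  have h2 := line_char hd hF hc M hM hn hn' hZ hq hq5 Φ
  set z := Φ.tor hd (-1) with hz
  have hzM : z ∈ M := hΦ _ (line_neg_one hd hF hc M hM hn hn' hZ hq hq5 Φ)
  have hzp : ∀ u, H.h u Φ.k = 0 → z.1 u = -u := by
    intro u hu
    rw [hz, Φ.tor_apply, Frame.torFun, hu, mul_zero]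
    conv_rhs => rw [Φ.eq_vec hd u, hu]
    simp [Frame.vec, Units.val_neg]
    abel
  have hzk : z.1 Φ.k = Φ.k := by
    rw [hz, Φ.tor_k]
    simp [Units.val_neg]
  have hze : z.1 Ψ₀.e = (-1 : F) • Ψ₀.e := by rw [he₀, hzp _ (Φ.pt_perp P), neg_one_smul]
  obtain ⟨a, l, h, t, ht, hzeq⟩ := Ψ₀.exists_uel_mul_tor hd (hM hzM) hze
  have ht1 : t = -1 := Units.ext (by rw [ht, Units.val_neg, Units.val_one])
  subst ht1
  have hT := hΨ₀ _ (line_neg_one hd hF hc M hM hn hn' hZ hq hq5 Ψ₀)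
  have hu : Ψ₀.uel a l h ∈ M := by
    have := mul_mem hzM (inv_mem hT)
    rwa [hzeq, mul_inv_cancel_right] at this
  have hzz : z * z = 1 := by rw [hz, Φ.tor_mul, neg_one_mul, neg_neg, Φ.tor_one hd]
  have hTT : Ψ₀.tor hd (-1) * Ψ₀.tor hd (-1) = 1 := by
    rw [Ψ₀.tor_mul, neg_one_mul, neg_neg, Ψ₀.tor_one hd]
  have hl : 2 * l + a * H.conj a = 0 := by
    rw [hzeq] at hzz
    have e1 : Ψ₀.uel a l h * (Ψ₀.tor hd (-1) * Ψ₀.uel a l h * (Ψ₀.tor hd (-1))⁻¹) = 1 := by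
      rw [inv_eq_of_mul_eq_one_right hTT, ← hzz]; group
    rw [Ψ₀.tor_conj, Ψ₀.uel_mul, ← Ψ₀.uel_zero] at e1
    have := (Ψ₀.uel_inj _ _ e1).2
    simp only [Units.val_neg, Units.val_one, map_neg, map_one] at this
    linear_combination this
  obtain ⟨-, -, -, -, hstab⟩ := line_numbers hd hF hc M hM hn hn' hZ hq hq5 Ψ₀
  have hhalf : H.conj ((2 : F)⁻¹) = (2 : F)⁻¹ := by rw [map_inv₀, map_ofNat]
  obtain ⟨m, hm, hum⟩ := hstab _ hhalf a ⟨l, h, hu⟩
  set u := Ψ₀.uel ((2 : F)⁻¹ * a) m hm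
  have key : u * Ψ₀.tor hd (-1) * u⁻¹ = z := by
    rw [hzeq, show u * Ψ₀.tor hd (-1) * u⁻¹ =
      u * (Ψ₀.tor hd (-1) * u⁻¹ * (Ψ₀.tor hd (-1))⁻¹) * Ψ₀.tor hd (-1) by group]
    congr 1
    rw [Ψ₀.uel_inv, Ψ₀.tor_conj, Ψ₀.uel_mul]
    refine Ψ₀.uel_congr _ _ ?_ ?_
    · simp only [Units.val_neg, Units.val_one, map_neg, map_one]
      field_simp
      ring
    · simp only [Units.val_neg, Units.val_one, map_neg, map_one, map_mul, hhalf]
      have hm' := hm
      unfold Frame.IsPar at hm'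
      simp only [map_mul, hhalf] at hm'
      have h22 : (2 : F) * (2 : F)⁻¹ = 1 := mul_inv_cancel₀ h2
      linear_combination hm' - (2 : F)⁻¹ * hl + (-((2 : F)⁻¹) * a * H.conj a + l) * h22
  refine ⟨Ψ₀.map u, Ψ₀.adapted_map hd hΨ₀ hum, ?_, ?_⟩
  · show u.1 Ψ₀.e = _
    rw [Ψ₀.uel_apply_e, he₀]
  · set Ψ := Ψ₀.map u
    have hzΨ : z.1 Ψ.k = Ψ.k := by
      have h := Ψ.tor_k hd (-1)
      rw [Frame.map_tor, key] at h
      simpa [Units.val_neg] using h
    have hv := Φ.eq_vec hd Ψ.k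
    have e1 := congrArg (fun w => H.h w Φ.f) hzΨ
    have e2 := congrArg (fun w => H.h w Φ.e) hzΨ
    simp only [hz, Φ.tor_apply, Frame.torFun, Φ.h_vec_f, Φ.h_vec_e, Units.val_neg, Units.val_one,
      map_neg, map_one, inv_neg, inv_one, neg_one_mul] at e1 e2
    have a0 : H.h Ψ.k Φ.f = 0 := (mul_eq_zero.1 (show (2 : F) * H.h Ψ.k Φ.f = 0 by
      linear_combination -e1)).resolve_left h2
    have b0 : H.h Ψ.k Φ.e = 0 := (mul_eq_zero.1 (show (2 : F) * H.h Ψ.k Φ.e = 0 by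
      linear_combination -e2)).resolve_left h2
    have hk : Ψ.k = H.h Ψ.k Φ.k • Φ.k := by
      conv_lhs => rw [hv, a0, b0]
      simp [Frame.vec]
    exact ⟨_, fun h0 => Ψ.k_ne (by rw [hk, h0, zero_smul]), hk⟩

theorem line_LS {Ψ : Frame H} {c : F} (hc0 : c ≠ 0) (hk : Ψ.k = c • Φ.k) (t : Fˣ) :
    Ψ.tor hd t ∈ Φ.LS := by
  refine ⟨Ψ.tor_mem_ker hd t, H.conj (t : F) / t, ?_⟩
  have h := Ψ.tor_k hd t
  rw [hk, map_smul, smul_comm] at h
  exact smul_right_injective V hc0 h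

variable [DecidableEq F]

/-- Trivial action on the plane forces norm one. -/
theorem line_norm_eq_one {Ψ : Frame H} {c : F} (hc0 : c ≠ 0) (hk : Ψ.k = c • Φ.k) (t : Fˣ)
    (hρ : Φ.toPG hd ⟨Ψ.tor hd t, line_LS hd hF hc M hM hn hn' hZ hq hq5 Φ hΦ hc0 hk t⟩ = 1) :
    (t : F) * H.conj t = 1 := by
  have hperp : H.h (Ψ.e + Ψ.f) Φ.k = 0 := by
    have h : H.h (Ψ.e + Ψ.f) Ψ.k = 0 := by rw [H.add_left, Ψ.ek, Ψ.fk, add_zero]
    rw [hk, H.smul_right, mul_eq_zero] at h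
    exact h.resolve_left (H.conj_ne_zero hc0)
  have hne : Ψ.e + Ψ.f ≠ 0 := fun h => by
    have := congrArg (fun w => H.h w Ψ.e) h
    simp [H.add_left, Ψ.ee, Ψ.fe, H.zero_left] at this
  obtain ⟨Q, b, hb, hQ⟩ := Φ.exists_pt hd hne hperp
  obtain ⟨d, -, hd'⟩ := Φ.exists_smul_pt hd
    ⟨Ψ.tor hd t, line_LS hd hF hc M hM hn hn' hZ hq hq5 Φ hΦ hc0 hk t⟩ Q
  rw [hρ, one_smul (Matrix.ProjGenLinGroup (Fin 2) F) Q] at hd'
  have h := congrArg (fun w => b • w) hd'
  rw [← map_smul, ← hQ, smul_comm, ← hQ, map_add, Ψ.tor_e, Ψ.tor_f] at h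
  have e1 := congrArg (fun w => H.h w Ψ.f) h
  have e2 := congrArg (fun w => H.h w Ψ.e) h
  simp [H.add_left, H.smul_left, Ψ.ee, Ψ.ef, Ψ.fe, Ψ.ff] at e1 e2
  exact (mul_eq_one_iff_eq_inv₀ (H.conj_ne_zero t.ne_zero)).2 (e1.trans e2.symm)

theorem line_no_plane (hq11 : q ≠ 11) : False := by
  classical
  obtain ⟨p, f, hp, hf0, hqf, hchar⟩ := exists_prime_pow' hF
  have : Fact p.Prime := ⟨hp⟩
  have : Finite (PG F) := Finite.of_surjective _ ProjGenLinGroup.mk_surjective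
  obtain ⟨hq6, hqge, -, hk, -⟩ := line_numbers hd hF hc M hM hn hn' hZ hq hq5 Φ
  obtain ⟨t, htK, hto⟩ := exists_generator (Φ.K M)
  have htmem : t ∈ Φ.K M := by rw [htK]; exact Subgroup.mem_zpowers t
  have hKall := line_K_eq hd hF hc M hM hn hn' hZ hq hq5 Φ
  have hpq1 : ¬ p ∣ q + 1 := fun h => by
    have h1 : p ∣ q := hqf ▸ dvd_pow_self p hf0.ne'
    exact hp.one_lt.ne' (Nat.dvd_one.1 ((Nat.dvd_add_right h1).1 h))
  set L : Subgroup (PG F) := (M.subgroupOf Φ.LS).map (Φ.toPG hd)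
  choose fr hfA hfe c hc0 hfk using fun (P : Φ.isoPts) =>
    line_plane hd hF hc M hM hn hn' hZ hq hq5 Φ hΦ P.2
  have hel : ∀ (P : Φ.isoPts) (s : Fˣ), s ∈ Φ.K M →
      Φ.toPG hd ⟨(fr P).tor hd s,
        line_LS hd hF hc M hM hn hn' hZ hq hq5 Φ hΦ (hc0 P) (hfk P) s⟩ ∈ L := by
    intro P s hs
    exact ⟨⟨(fr P).tor hd s, line_LS hd hF hc M hM hn hn' hZ hq hq5 Φ hΦ (hc0 P) (hfk P) s⟩,
      hfA P s (by rw [hKall]; exact hs), rfl⟩
  let h : Φ.isoPts → L := fun P => ⟨_, hel P t htmem⟩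
  -- the second fixed point
  have hsnd : ∀ P : Φ.isoPts, ∃ (Q : OnePoint F) (b : F), b ≠ 0 ∧ (fr P).f = b • Φ.pt Q := by
    intro P
    refine Φ.exists_pt hd (fr P).f_ne ?_
    have := (fr P).fk
    rw [hfk, H.smul_right, mul_eq_zero] at this
    exact this.resolve_left (H.conj_ne_zero (hc0 P))
  choose snd b hb hsndeq using hsnd
  have hfix1 : ∀ P : Φ.isoPts, h P • P.1 = P.1 := fun P =>
    Φ.toPG_smul hd _ (c := (t : F)) (by
      show ((fr P).tor hd t).1 (Φ.pt P.1) = _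
      rw [← hfe P]; exact (fr P).tor_e hd t)
  have hfix2 : ∀ P : Φ.isoPts, h P • snd P = snd P := fun P =>
    Φ.toPG_smul hd _ (c := (H.conj (t : F))⁻¹) (by
      show ((fr P).tor hd t).1 (Φ.pt (snd P)) = _
      have h := (fr P).tor_f hd t
      rw [hsndeq, map_smul, smul_comm] at h
      exact smul_right_injective V (hb P) h)
  have hsndne : ∀ P : Φ.isoPts, snd P ≠ P.1 := by
    intro P he
    have := (fr P).fe
    rw [hsndeq, he, ← hfe, H.smul_left, (fr P).ee, mul_zero] at this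
    exact zero_ne_one this
  have hpow : ∀ (P : Φ.isoPts) (m : ℕ), h P ^ m = 1 → Nat.card (Φ.K M) ∣ 6 * m := by
    intro P m hm
    apply line_gen hd hF hc M hM hn hn' hZ hq hq5 Φ htmem hto
    have hρ : Φ.toPG hd ⟨(fr P).tor hd (t ^ m),
        line_LS hd hF hc M hM hn hn' hZ hq hq5 Φ hΦ (hc0 P) (hfk P) (t ^ m)⟩ = 1 := by
      have e : (⟨(fr P).tor hd t, line_LS hd hF hc M hM hn hn' hZ hq hq5 Φ hΦ (hc0 P) (hfk P) t⟩ :
          Φ.LS) ^ m = ⟨(fr P).tor hd (t ^ m),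
            line_LS hd hF hc M hM hn hn' hZ hq hq5 Φ hΦ (hc0 P) (hfk P) (t ^ m)⟩ :=
        Subtype.ext (by rw [Subgroup.coe_pow]; exact (fr P).tor_pow hd t m)
      rw [← e, map_pow]
      exact congrArg Subtype.val hm
    have := line_norm_eq_one hd hF hc M hM hn hn' hZ hq hq5 Φ hΦ (hc0 P) (hfk P) _ hρ
    rwa [Units.val_pow_eq_pow_val, map_pow, ← mul_pow] at this
  have h1 : ∀ P, h P ≠ 1 := fun P hP => by
    have := Nat.le_of_dvd (by norm_num) (hpow P 1 (by rw [pow_one]; exact hP))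
    omega
  have h2 : ∀ P, h P ^ 2 ≠ 1 := fun P hP => by
    have := Nat.le_of_dvd (by norm_num) (hpow P 2 hP)
    omega
  have h3 : ∀ P, h P ^ 3 ≠ 1 := fun P hP => by
    obtain ⟨r, hr⟩ := hpow P 3 hP
    have : r ≤ 1 := by
      by_contra hlt
      have : Nat.card (Φ.K M) * 2 ≤ Nat.card (Φ.K M) * r := Nat.mul_le_mul_left _ (by omega)
      omega
    interval_cases r <;> omega
  -- stabilisers are tori
  have hstab : ∀ (P : Φ.isoPts) (g : Φ.LS), g.1 ∈ M → Φ.toPG hd g • P.1 = P.1 →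
      ∃ s ∈ Φ.K M, g.1 = (fr P).tor hd s := by
    intro P g hg hgP
    obtain ⟨a, -, ha⟩ := Φ.exists_smul_pt hd g P.1
    rw [hgP, ← hfe P] at ha
    obtain ⟨d, hd'⟩ := g.2.2
    obtain ⟨s, hs, -, hgs⟩ := (fr P).eq_tor_of_fix_k hd hM (hZ _) (hfA P) hg ha
      (d := d) (by rw [hfk, map_smul, hd', smul_comm])
    exact ⟨s, by rwa [hKall] at hs, hgs⟩
  have hpL : ¬ p ∣ Nat.card L := by
    intro hdvd
    obtain ⟨⟨_, g, hg, rfl⟩, hx⟩ := exists_prime_orderOf_dvd_card' (G := L) p hdvd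
    rw [← Subgroup.orderOf_coe] at hx
    change orderOf (Φ.toPG hd g) = p at hx
    have hgp : Φ.toPG hd g ^ p = 1 := hx ▸ pow_orderOf_eq_one _
    have hg1 : Φ.toPG hd g ≠ 1 := fun e => hp.one_lt.ne (by rw [← hx, e, orderOf_one])
    obtain ⟨P, hP, hgP⟩ := Φ.exists_fixed_isoPt hd hF hc g hp hpq1 hgp
    obtain ⟨s, -, hgs⟩ := hstab ⟨P, hP⟩ g hg hgP
    have hgQ : Φ.toPG hd g • snd ⟨P, hP⟩ = snd ⟨P, hP⟩ := by
      refine Φ.toPG_smul hd g (c := (H.conj (s : F))⁻¹) ?_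
      rw [hgs]
      have h := (fr ⟨P, hP⟩).tor_f hd s
      rw [hsndeq, map_smul, smul_comm] at h
      exact smul_right_injective V (hb _) h
    exact hsndne ⟨P, hP⟩ (unique_fixed_of_pow_char p hg1 hgp hgP hgQ)
  have hsq_fix : ∀ P : Φ.isoPts, (h P ^ 2) • P.1 = P.1 ∧ (h P ^ 2) • snd P = snd P := fun P =>
    ⟨by rw [pow_two, mul_smul, hfix1, hfix1], by rw [pow_two, mul_smul, hfix2, hfix2]⟩
  have hfix_or : ∀ (g : L), g ≠ 1 → ∀ {x y z : OnePoint F}, x ≠ y → g • x = x → g • y = y →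
      g • z = z → z = x ∨ z = y := fun g hg x y z hxy hx hy hz =>
    fixed_eq_or (fun e => hg (Subtype.ext e)) hxy hx hy hz
  have hcyc : ∀ A : Subgroup L, IsCyclic A → (∀ P, h P ^ 2 ∈ A) → False := by
    intro A hA hmem
    obtain ⟨⟨g, hgA⟩, hgen⟩ := hA.exists_generator
    have hgP : ∀ P, ∃ i : ℤ, g ^ i = h P ^ 2 := fun P => by
      obtain ⟨i, hi⟩ := Subgroup.mem_zpowers_iff.1 (hgen ⟨_, hmem P⟩)
      exact ⟨i, congrArg Subtype.val hi⟩
    set P₀ : Φ.isoPts := ⟨∞, Φ.infty_mem_isoPts⟩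
    have hall : ∀ P : Φ.isoPts, P.1 = P₀.1 ∨ P.1 = snd P₀ := by
      intro P
      by_cases hg2 : g ^ 2 = 1
      · have he : ∀ Q, h Q ^ 2 = g := by
          intro Q
          obtain ⟨i, hi⟩ := hgP Q
          rcases Int.even_or_odd' i with ⟨j, rfl | rfl⟩
          · exfalso
            apply h2 Q
            rw [← hi, zpow_mul, zpow_ofNat, hg2, one_zpow]
          · rw [← hi, zpow_add, zpow_mul, zpow_ofNat, hg2, one_zpow, one_mul, zpow_one]
        exact hfix_or _ (h2 P₀) (hsndne P₀).symm (hsq_fix P₀).1 (hsq_fix P₀).2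
          (by rw [he P₀, ← he P]; exact (hsq_fix P).1)
      · have hperm : ∀ Q : Φ.isoPts, g ^ 2 • Q.1 = Q.1 ∧ g ^ 2 • snd Q = snd Q := by
          intro Q
          obtain ⟨i, hi⟩ := hgP Q
          have hcomm : Commute g (h Q ^ 2) := by rw [← hi]; exact Commute.self_zpow g i
          have hmv : ∀ x : OnePoint F, (h Q ^ 2) • x = x → (h Q ^ 2) • g • x = g • x := by
            intro x hx
            rw [← mul_smul, ← hcomm.eq, mul_smul, hx]
          have a1 := hfix_or _ (h2 Q) (hsndne Q).symm (hsq_fix Q).1 (hsq_fix Q).2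
            (hmv _ (hsq_fix Q).1)
          have a2 := hfix_or _ (h2 Q) (hsndne Q).symm (hsq_fix Q).1 (hsq_fix Q).2
            (hmv _ (hsq_fix Q).2)
          have hinj := MulAction.injective (α := L) (β := OnePoint F) g
          rw [pow_two, mul_smul, mul_smul]
          rcases a1 with a1 | a1 <;> rcases a2 with a2 | a2
          · exact absurd (hinj (a1.trans a2.symm)) (hsndne Q).symm
          · exact ⟨by rw [a1, a1], by rw [a2, a2]⟩
          · exact ⟨by rw [a1, a2], by rw [a2, a1]⟩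
          · exact absurd (hinj (a1.trans a2.symm)) (hsndne Q).symm
        exact hfix_or _ hg2 (hsndne P₀).symm (hperm P₀).1 (hperm P₀).2 (hperm P).1
    have hle := Nat.card_le_card_of_injective
      (fun P : Φ.isoPts => (if P.1 = P₀.1 then true else false : Bool)) (fun P Q hPQ => by
        rcases hall P with e1 | e1 <;> rcases hall Q with e2 | e2 <;>
          simp [e1, e2, hsndne P₀] at hPQ ⊢ <;> exact Subtype.ext (e1.trans e2.symm))
    rw [Φ.card_isoPts hF hc, Nat.card_eq_fintype_card (α := Bool), Fintype.card_bool] at hle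
    omega
  have hdvd := fun P m hm => hpow P m hm
  rcases classify_finite p L with ⟨hL, -⟩ | hD | hB | ⟨-, ⟨e⟩⟩ | ⟨-, ⟨e⟩⟩ | ⟨-, ⟨e⟩⟩ | hE
  · haveI := hL
    exact hcyc ⊤ (isCyclic_of_surjective (Subgroup.topEquiv.symm.toMonoidHom)
      Subgroup.topEquiv.symm.surjective) fun P => Subgroup.mem_top _
  · obtain ⟨A, hA2, hAc, -, -, -⟩ := hD
    refine hcyc A hAc fun P => ?_
    rw [pow_two]
    exact Subgroup.mul_self_mem_of_index_two hA2 _
  · exact hpL hB.1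
  · set P : Φ.isoPts := ⟨∞, Φ.infty_mem_isoPts⟩
    rcases pow_alt_four (e (h P)) with hm | hm <;>
      rw [← map_pow, ← map_one e] at hm
    · exact h2 P (e.injective hm)
    · exact h3 P (e.injective hm)
  · have h4 : ∀ P, h P ^ 4 = 1 := by
      intro P
      rcases pow_perm_four (e (h P)) with hm | hm | hm <;> rw [← map_pow, ← map_one e] at hm
      · exact absurd (e.injective hm) (h2 P)
      · exact absurd (e.injective hm) (h3 P)
      · exact e.injective hm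
    have hinj : Function.Injective h := by
      intro P Q hPQ
      rcases hfix_or (h P) (h1 P) (hsndne P).symm (hfix1 P) (hfix2 P)
        (z := Q.1) (by rw [hPQ]; exact hfix1 Q) with hQ | hQ
      · exact Subtype.ext hQ.symm
      exfalso
      have hQP : h Q • P.1 = P.1 := by rw [← hPQ]; exact hfix1 P
      obtain ⟨s, -, hs⟩ := hstab P ⟨(fr Q).tor hd t,
        line_LS hd hF hc M hM hn hn' hZ hq hq5 Φ hΦ (hc0 Q) (hfk Q) t⟩
        (hfA Q t (by rw [hKall]; exact htmem)) hQP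
      change (fr Q).tor hd t = (fr P).tor hd s at hs
      have e1 := (fr Q).tor_e hd t
      rw [hs, hfe Q, hQ] at e1
      have e2 := (fr P).tor_f hd s
      rw [hsndeq, map_smul, e1, smul_comm ((H.conj (s : F))⁻¹) (b P)] at e2
      have hts : (t : F) = (H.conj (s : F))⁻¹ :=
        smul_left_injective F (Φ.pt_ne (snd P)) (smul_right_injective V (hb P) e2)
      have hρ : Φ.toPG hd ⟨(fr P).tor hd (s * t⁻¹),
          line_LS hd hF hc M hM hn hn' hZ hq hq5 Φ hΦ (hc0 P) (hfk P) (s * t⁻¹)⟩ = 1 := by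
        have e : (⟨(fr P).tor hd (s * t⁻¹),
            line_LS hd hF hc M hM hn hn' hZ hq hq5 Φ hΦ (hc0 P) (hfk P) (s * t⁻¹)⟩ : Φ.LS) *
            ⟨(fr P).tor hd t, line_LS hd hF hc M hM hn hn' hZ hq hq5 Φ hΦ (hc0 P) (hfk P) t⟩ =
            ⟨(fr Q).tor hd t, line_LS hd hF hc M hM hn hn' hZ hq hq5 Φ hΦ (hc0 Q) (hfk Q) t⟩ :=
          Subtype.ext (by
            show (fr P).tor hd (s * t⁻¹) * (fr P).tor hd t = (fr Q).tor hd t
            rw [hs, Frame.tor_mul, inv_mul_cancel_right])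
        have h' := congrArg (Φ.toPG hd) e
        rw [map_mul] at h'
        exact mul_eq_right.1 (h'.trans (congrArg Subtype.val hPQ.symm))
      have hN := line_norm_eq_one hd hF hc M hM hn hn' hZ hq hq5 Φ hΦ (hc0 P) (hfk P) _ hρ
      have hct : H.conj (t : F) = (s : F)⁻¹ := by rw [hts, map_inv₀, H.conj_conj]
      rw [Units.val_mul, map_mul, Units.val_inv_eq_inv_val, map_inv₀, hct, inv_inv, hts,
        inv_inv] at hN
      have hN2 : ((t : F) * H.conj t) ^ 2 = 1 := by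
        rw [hct, hts, ← mul_inv, inv_pow, inv_eq_one]
        linear_combination hN
      have := Nat.le_of_dvd (by norm_num)
        (line_gen hd hF hc M hM hn hn' hZ hq hq5 Φ htmem hto hN2)
      omega
    have h6 : q + 1 ≤ 6 := by
      refine le_trans ?_ card_order_four_perm
      rw [← Φ.card_isoPts hF hc]
      have hle := Nat.card_le_card_of_injective (fun P => (⟨e (h P),
        by rw [← map_pow, h4, map_one],
        fun hh => h2 P (e.injective (by rw [map_pow, hh, map_one]))⟩ :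
        {x : Equiv.Perm (Fin 4) // x ^ 4 = 1 ∧ x ^ 2 ≠ 1}))
        fun P Q hh => hinj (e.injective (congrArg Subtype.val hh :))
      rwa [Nat.card_eq_fintype_card (α := {x : Equiv.Perm (Fin 4) // x ^ 4 = 1 ∧ x ^ 2 ≠ 1}),
        Fintype.card_subtype] at hle
    omega
  · set P : Φ.isoPts := ⟨∞, Φ.infty_mem_isoPts⟩
    rcases pow_alt_five (e (h P)) with hm | hm | hm <;> rw [← map_pow, ← map_one e] at hm
    · exact h2 P (e.injective hm)
    · exact h3 P (e.injective hm)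
    · obtain ⟨r, hr⟩ := hpow P 5 (e.injective hm)
      have : r ≤ 2 := by
        by_contra hlt
        have : Nat.card (Φ.K M) * 3 ≤ Nat.card (Φ.K M) * r := Nat.mul_le_mul_left _ (by omega)
        omega
      interval_cases r <;> omega
  · obtain ⟨g₀, E, -, hpts, -⟩ := hE
    obtain ⟨g, hg1, hgp, -⟩ := (hpts (g₀ • OnePoint.map E.subtype ∞)).2
      ⟨∞, (inv_smul_smul _ _).symm⟩
    apply hpL
    have hgp' : g ^ p = 1 := Subtype.ext (by rw [Subgroup.coe_pow]; exact hgp)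
    rw [← orderOf_eq_prime hgp' hg1]
    exact orderOf_dvd_natCard g

end CfsgLib.MinIndexPSU
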