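import Cfsg.Agent.Lib.MinIndexPSU.Space
import Mathlib.Algebra.Group.Subgroup.Pointwise
import Mathlib.GroupTheory.GroupAction.Quotient

/-!
The radical of the stabiliser of an isotropic point acting on a set: the invariants `Rb` and `Wc`,
and counts of points moved by a transvection group.
-/

set_option autoImplicit false
set_option linter.unusedSectionVars false

namespace CfsgLib.MinIndexPSU

open Module CfsgLib.Classical.Herm CfsgLib.Classical.Herm.HermSpace
open scoped Pointwise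

variable {F V : Type*} [Field F] [AddCommGroup V] [Module F V] {H : HermSpace F V}

open _root_.Classical in
/-- A root element, or `1` when the parameters are not admissible. -/
noncomputable def rootG (H : HermSpace F V) (u w : V) (l : F) : rootGen H :=
  if c : RootCond H u w l then ⟨root H u w l c, root_mem c⟩ else 1

theorem rootG_coe {u w : V} {l : F} (c : RootCond H u w l) :
    (rootG H u w l).1 = root H u w l c := by
  rw [rootG, dif_pos c]

theorem rootG_apply {u w : V} {l : F} (c : RootCond H u w l) (x : V) :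
    (rootG H u w l).1.1 x = x + H.h x u • w + (-(H.h x w) + l * H.h x u) • u := by
  rw [rootG_coe c, root_apply]

theorem rootG_of_not {u w : V} {l : F} (c : ¬ RootCond H u w l) : rootG H u w l = 1 := by
  rw [rootG, dif_neg c]

theorem rootG_mul {u w w' : V} {l l' : F} (c : RootCond H u w l) (c' : RootCond H u w' l') :
    rootG H u w l * rootG H u w' l' = rootG H u (w + w') (l + l' - H.h w' w) :=
  Subtype.ext (by rw [Subgroup.coe_mul, rootG_coe c, rootG_coe c', rootG_coe (c.add c'), root_mul])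

theorem rootG_inv {u w : V} {l : F} (c : RootCond H u w l) :
    (rootG H u w l)⁻¹ = rootG H u (-w) (H.conj l) :=
  Subtype.ext (by rw [Subgroup.coe_inv, rootG_coe c, rootG_coe c.neg, root_inv])

theorem rootG_conj (g : rootGen H) (u w : V) (l : F) :
    g * rootG H u w l * g⁻¹ = rootG H (g.1.1 u) (g.1.1 w) l := by
  by_cases c : RootCond H u w l
  · exact Subtype.ext (by
      rw [Subgroup.coe_mul, Subgroup.coe_mul, Subgroup.coe_inv, rootG_coe c, rootG_coe (c.map g.1),
        root_conj])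
  · rw [rootG_of_not c, rootG_of_not, mul_one, mul_inv_cancel]
    intro c'
    have h := c'.map g.1⁻¹
    rw [inv_apply_self, inv_apply_self] at h
    exact c h

theorem rootG_smul {u w : V} {l a : F} (ha : a ≠ 0) (c : RootCond H (a • u) w l) :
    rootG H (a • u) w l = rootG H u (H.conj a • w) (a * H.conj a * l) :=
  Subtype.ext (by rw [rootG_coe c, rootG_coe (c.smul a ha), root_smul a ha c])

theorem rootCond_add_smul {u w : V} {l : F} (d : F) (c : RootCond H u w l) :
    RootCond H u (w + d • u) (l + (H.conj d - d)) := by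
  refine ⟨c.1, by rw [H.add_left, H.smul_left, c.2.1, c.1]; ring, ?_⟩
  rw [map_add, map_sub, H.conj_conj, H.add_left, H.add_right, H.add_right, H.smul_left,
    H.smul_left, H.smul_right, H.smul_right, c.1, c.2.1, H.h_comm_zero c.2.1]
  linear_combination c.2.2

theorem rootG_add_smul {u w : V} {l : F} (d : F) (c : RootCond H u w l) :
    rootG H u (w + d • u) (l + (H.conj d - d)) = rootG H u w l :=
  Subtype.ext (by rw [rootG_coe c, rootG_coe (rootCond_add_smul d c), root_add_smul d c])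

theorem rootG_zero (u : V) : rootG H u 0 0 = 1 := by
  by_cases c : RootCond H u 0 0
  · exact Subtype.ext (by rw [rootG_coe c]; exact unit_ext fun x => rootFun_zero u x)
  · exact rootG_of_not c

theorem rootCond_skew {u : V} (hu : H.h u u = 0) {c : F} (hc : c ∈ skew H) :
    RootCond H u 0 c :=
  ⟨hu, H.zero_left u, by rw [H.zero_left, add_zero]; exact hc⟩

theorem inv_smul_vec (g : rootGen H) (x : V) : (g⁻¹).1.1 (g.1.1 x) = x := inv_apply_self g.1 x

theorem smul_inv_vec (g : rootGen H) (x : V) : g.1.1 ((g⁻¹).1.1 x) = x := self_apply_inv g.1 x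

variable {Ω : Type*} [MulAction (rootGen H) Ω]

/-- The transvection parameters at `u` fixing `x`. -/
noncomputable def Wc (u : V) (x : Ω) : AddSubgroup F where
  carrier := {c | c ∈ skew H ∧ rootG H u 0 c • x = x}
  add_mem' {a b} ha hb := by
    refine ⟨add_mem ha.1 hb.1, ?_⟩
    by_cases hu : H.h u u = 0
    · have h := rootG_mul (rootCond_skew hu ha.1) (rootCond_skew hu hb.1)
      rw [add_zero, H.zero_left, sub_zero] at h
      rw [← h, mul_smul, hb.2, ha.2]
    · rw [rootG_of_not fun c => hu c.1, one_smul]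
  zero_mem' := ⟨zero_mem _, by rw [rootG_zero, one_smul]⟩
  neg_mem' {a} ha := by
    refine ⟨neg_mem ha.1, ?_⟩
    by_cases hu : H.h u u = 0
    · have h := rootG_inv (rootCond_skew hu ha.1)
      rw [neg_zero, eq_neg_of_add_eq_zero_right (mem_skew.1 ha.1)] at h
      rw [← h, inv_smul_eq_iff]
      exact ha.2.symm
    · rw [rootG_of_not fun c => hu c.1, one_smul]

/-- The whole transvection group at `u` fixes `x`. -/
def ZFix (H : HermSpace F V) [MulAction (rootGen H) Ω] (u : V) (x : Ω) : Prop :=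
  ∀ c ∈ skew H, rootG H u 0 c • x = x

theorem Wc_le (u : V) (x : Ω) : Wc (H := H) u x ≤ skew H := fun _ h => h.1

theorem zFix_iff (u : V) (x : Ω) : ZFix H u x ↔ Wc (H := H) u x = skew H :=
  ⟨fun h => le_antisymm (Wc_le u x) fun c hc => ⟨hc, h c hc⟩,
    fun h c hc => (h.symm ▸ hc : c ∈ Wc (H := H) u x).2⟩

theorem conj_smul_smul (g k : rootGen H) (x : Ω) : (g * k * g⁻¹) • g • x = g • k • x := by
  rw [← mul_smul, inv_mul_cancel_right, mul_smul]

theorem zFix_map (g : rootGen H) (u : V) (x : Ω) :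
    ZFix H (g.1.1 u) (g • x) ↔ ZFix H u x := by
  refine forall₂_congr fun c _ => ?_
  rw [show rootG H (g.1.1 u) 0 c = g * rootG H u 0 c * g⁻¹ by rw [rootG_conj, map_zero],
    conj_smul_smul, smul_left_cancel_iff]

theorem zFix_smul_vec {u : V} (hu : H.h u u = 0) {a : F} (ha : a ≠ 0) (x : Ω) :
    ZFix H (a • u) x ↔ ZFix H u x := by
  have hau : H.h (a • u) (a • u) = 0 := by rw [H.smul_left, H.smul_right, hu]; ring
  have hN : ∀ c : F, c ∈ skew H → a * H.conj a * c ∈ skew H := fun c hc => by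
    rw [mem_skew, map_mul, map_mul, H.conj_conj]
    linear_combination a * H.conj a * (mem_skew.1 hc)
  have key : ∀ c ∈ skew H, rootG H (a • u) 0 c = rootG H u 0 (a * H.conj a * c) := fun c hc => by
    rw [rootG_smul ha (rootCond_skew hau hc), smul_zero]
  have ha' := H.conj_ne_zero ha
  refine ⟨fun h c hc => ?_, fun h c hc => by rw [key c hc]; exact h _ (hN c hc)⟩
  have hc' : (a * H.conj a)⁻¹ * c ∈ skew H := by
    rw [mem_skew, map_mul, map_inv₀, map_mul, H.conj_conj, mul_comm (H.conj a)]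
    linear_combination (a * H.conj a)⁻¹ * (mem_skew.1 hc)
  have h1 := h _ hc'
  rw [key _ hc', mul_inv_cancel_left₀ (mul_ne_zero ha ha')] at h1
  exact h1

variable {e f : V} [hp : Fact (IsHPair H e f)]

/-- Admissible parameters of the radical. -/
def Cd (a : perp2 H e f) (l : F) : Prop := l + H.conj l + H.h a.1 a.1 = 0

theorem Cd.rootCond {a : perp2 H e f} {l : F} (h : Cd a l) : RootCond H e a.1 l :=
  ⟨hp.out.1, (mem_perp2.1 a.2).1, h⟩

theorem exists_cd (a : perp2 H e f) : ∃ l, Cd a l := by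
  obtain ⟨l, hl⟩ := H.exists_trace (c := -H.h a.1 a.1) (by rw [map_neg, H.conj_diag])
  exact ⟨l, show _ = _ by linear_combination hl⟩

theorem cd_zero_iff {l : F} : Cd (0 : perp2 H e f) l ↔ l ∈ skew H := by
  rw [Cd, Submodule.coe_zero, H.zero_left, add_zero, mem_skew]

theorem Cd.add {a b : perp2 H e f} {l l' : F} (h : Cd a l) (h' : Cd b l') :
    Cd (a + b) (l + l' - H.h b.1 a.1) := (h.rootCond.add h'.rootCond).2.2

/-- The element of the radical with parameters `a`, `l`. -/
noncomputable abbrev qx (a : perp2 H e f) (l : F) : rootGen H := rootG H e a.1 l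

theorem qx_mul {a b : perp2 H e f} {l l' : F} (h : Cd a l) (h' : Cd b l') :
    qx a l * qx b l' = qx (a + b) (l + l' - H.h b.1 a.1) := rootG_mul h.rootCond h'.rootCond

theorem Cd.neg {a : perp2 H e f} {l : F} (h : Cd a l) : Cd (-a) (H.conj l) := h.rootCond.neg.2.2

theorem qx_inv {a : perp2 H e f} {l : F} (h : Cd a l) : (qx a l)⁻¹ = qx (-a) (H.conj l) :=
  rootG_inv h.rootCond

theorem qx_injective {a b : perp2 H e f} {l l' : F} (h : Cd a l) (h' : Cd b l')
    (e' : qx a l = qx b l') : a = b ∧ l = l' := by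
  have h1 := congrArg (fun g : rootGen H => g.1.1 f) e'
  simp only [rootG_apply h.rootCond, rootG_apply h'.rootCond, hp.out.2.2,
    H.h_comm_zero (mem_perp2.1 a.2).2, H.h_comm_zero (mem_perp2.1 b.2).2, neg_zero, zero_add,
    mul_one, one_smul, add_assoc, add_right_inj] at h1
  have hab : a = b := by
    have h2 := congrArg (proj2 hp.out) h1
    rwa [proj2_add, proj2_add, proj2_smul, proj2_smul, proj2_of_mem, proj2_of_mem,
      show proj2 hp.out e = 0 from Subtype.ext (by rw [proj2_coe, hp.out.1, h_e_f hp.out]; simp),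
      smul_zero, smul_zero, add_zero, add_zero] at h2
  subst hab
  exact ⟨rfl, smul_left_injective F hp.out.left_ne_zero (add_left_cancel h1)⟩

/-- The radical. -/
noncomputable def Qs (H : HermSpace F V) (e f : V) [Fact (IsHPair H e f)] : Subgroup (rootGen H) where
  carrier := {g | ∃ (a : perp2 H e f) (l : F), Cd a l ∧ g = qx a l}
  mul_mem' := by
    rintro _ _ ⟨a, l, h, rfl⟩ ⟨b, l', h', rfl⟩
    exact ⟨_, _, h.add h', qx_mul h h'⟩
  one_mem' := ⟨0, 0, cd_zero_iff.2 (zero_mem _), (rootG_zero e).symm⟩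
  inv_mem' := by
    rintro _ ⟨a, l, h, rfl⟩
    exact ⟨_, _, h.neg, qx_inv h⟩

/-- The parameters of radical elements fixing `x`, projected to the complement. -/
noncomputable def Rb (H : HermSpace F V) (e f : V) [Fact (IsHPair H e f)]
    [MulAction (rootGen H) Ω] (x : Ω) : AddSubgroup (perp2 H e f) where
  carrier := {a | ∃ l, Cd a l ∧ qx a l • x = x}
  add_mem' := by
    rintro a b ⟨l, h, hx⟩ ⟨l', h', hx'⟩
    exact ⟨_, h.add h', by rw [← qx_mul h h', mul_smul, hx', hx]⟩
  zero_mem' := ⟨0, cd_zero_iff.2 (zero_mem _), by rw [qx, Submodule.coe_zero, rootG_zero, one_smul]⟩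
  neg_mem' := by
    rintro a ⟨l, h, hx⟩
    exact ⟨_, h.neg, by rw [← qx_inv h, inv_smul_eq_iff]; exact hx.symm⟩

theorem mem_Rb {x : Ω} {a : perp2 H e f} :
    a ∈ Rb H e f x ↔ ∃ l, Cd a l ∧ qx a l • x = x := Iff.rfl

theorem comm_mem_Wc {x : Ω} {a b : perp2 H e f} (ha : a ∈ Rb H e f x) (hb : b ∈ Rb H e f x) :
    H.h a.1 b.1 - H.h b.1 a.1 ∈ Wc (H := H) e x := by
  obtain ⟨l, h, hx⟩ := ha
  obtain ⟨l', h', hx'⟩ := hb
  have hs : H.h a.1 b.1 - H.h b.1 a.1 ∈ skew H := by
    rw [mem_skew, map_sub, H.symm', H.symm']; ring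
  refine ⟨hs, ?_⟩
  have h1 : qx (0 : perp2 H e f) (H.h a.1 b.1 - H.h b.1 a.1) * (qx b l' * qx a l) = qx a l * qx b l' := by
    rw [qx_mul h' h, qx_mul h h', qx_mul (cd_zero_iff.2 hs) (h'.add h)]
    simp only [zero_add, add_comm b a, Submodule.coe_zero, H.zero_right]
    congr 1
    ring
  calc rootG H e 0 (H.h a.1 b.1 - H.h b.1 a.1) • x
      = (qx (0 : perp2 H e f) (H.h a.1 b.1 - H.h b.1 a.1) * (qx b l' * qx a l)) • x := by
        rw [mul_smul, mul_smul, hx, hx']; simp [qx]
    _ = x := by rw [h1, mul_smul, hx', hx]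

/-- `g` scales `e` by `μ` and `f` accordingly. -/
def Lev (g : rootGen H) (e f : V) (μ : F) : Prop :=
  g.1.1 e = μ • e ∧ g.1.1 f = (H.conj μ)⁻¹ • f

theorem Lev.ne_zero {g : rootGen H} {μ : F} (h : Lev g e f μ) : μ ≠ 0 := fun h0 =>
  unit_ne_zero g.1 hp.out.left_ne_zero (by rw [h.1, h0, zero_smul])

theorem Lev.mem {g : rootGen H} {μ : F} (h : Lev g e f μ) {a : V} (ha : a ∈ perp2 H e f) :
    g.1.1 a ∈ perp2 H e f := by
  have hμ := H.conj_ne_zero h.ne_zero
  have h1 := unit_h g.1 a e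
  have h2 := unit_h g.1 a f
  rw [h.1, H.smul_right, (mem_perp2.1 ha).1] at h1
  rw [h.2, H.smul_right, (mem_perp2.1 ha).2, map_inv₀, H.conj_conj] at h2
  exact mem_perp2.2 ⟨(mul_eq_zero.1 h1).resolve_left hμ,
    (mul_eq_zero.1 h2).resolve_left (inv_ne_zero h.ne_zero)⟩

/-- The induced map on parameters. -/
def Lev.act {g : rootGen H} {μ : F} (h : Lev g e f μ) (a : perp2 H e f) : perp2 H e f :=
  H.conj μ • ⟨g.1.1 a.1, h.mem a.2⟩

theorem Lev.act_coe {g : rootGen H} {μ : F} (h : Lev g e f μ) (a : perp2 H e f) :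
    (h.act a : V) = H.conj μ • g.1.1 a.1 := rfl

theorem Lev.conj_qx {g : rootGen H} {μ : F} (h : Lev g e f μ) {a : perp2 H e f} {l : F}
    (ha : Cd a l) :
    Cd (h.act a) (μ * H.conj μ * l) ∧ g * qx a l * g⁻¹ = qx (h.act a) (μ * H.conj μ * l) := by
  have c := ha.rootCond.map g.1
  rw [h.1] at c
  refine ⟨(c.smul μ h.ne_zero).2.2, ?_⟩
  rw [qx, rootG_conj, h.1, rootG_smul h.ne_zero c, qx, h.act_coe]

theorem Lev.inv {g : rootGen H} {μ : F} (h : Lev g e f μ) : Lev g⁻¹ e f μ⁻¹ := by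
  have hμ := h.ne_zero
  have hμ' := H.conj_ne_zero hμ
  constructor
  · have h1 := congrArg (g.1⁻¹).1 h.1
    rw [inv_apply_self, map_smul] at h1
    rw [Subgroup.coe_inv]
    conv_rhs => rw [h1, smul_smul, inv_mul_cancel₀ hμ, one_smul]
  · have h1 := congrArg (g.1⁻¹).1 h.2
    rw [inv_apply_self, map_smul] at h1
    rw [Subgroup.coe_inv, map_inv₀, inv_inv]
    conv_rhs => rw [h1, smul_smul, mul_inv_cancel₀ hμ', one_smul]

theorem Lev.act_inv {g : rootGen H} {μ : F} (h : Lev g e f μ) (a : perp2 H e f) :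
    h.inv.act (h.act a) = a ∧ h.act (h.inv.act a) = a := by
  have hμ' := H.conj_ne_zero h.ne_zero
  constructor <;> refine Subtype.ext ?_ <;>
    simp only [Lev.act_coe, map_smul, inv_smul_vec, smul_inv_vec, smul_smul,
      map_inv₀, inv_mul_cancel₀ hμ', mul_inv_cancel₀ hμ', one_smul]

theorem Lev.Rb_smul {g : rootGen H} {μ : F} (h : Lev g e f μ) (x : Ω) (a : perp2 H e f) :
    h.act a ∈ Rb H e f (g • x) ↔ a ∈ Rb H e f x := by
  constructor
  · rintro ⟨l, hl, hx⟩
    obtain ⟨h1, h2⟩ := h.inv.conj_qx hl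
    rw [(h.act_inv a).1] at h1 h2
    exact ⟨_, h1, by rw [← h2, inv_inv, mul_smul, mul_smul, hx, inv_smul_smul]⟩
  · rintro ⟨l, hl, hx⟩
    obtain ⟨h1, h2⟩ := h.conj_qx hl
    exact ⟨_, h1, by rw [← h2, conj_smul_smul, hx]⟩

theorem Lev.Wc_smul {g : rootGen H} {μ : F} (h : Lev g e f μ) (x : Ω) (c : F) :
    μ * H.conj μ * c ∈ Wc (H := H) e (g • x) ↔ c ∈ Wc (H := H) e x := by
  have hN : ∀ c, c ∈ skew H ↔ μ * H.conj μ * c ∈ skew H := fun c => by
    simp only [mem_skew, map_mul, H.conj_conj]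
    rw [show μ * H.conj μ * c + H.conj μ * μ * H.conj c = μ * H.conj μ * (c + H.conj c) by ring,
      mul_eq_zero, or_iff_right (mul_ne_zero h.ne_zero (H.conj_ne_zero h.ne_zero))]
  refine and_congr (hN c).symm ?_
  by_cases hc : c ∈ skew H
  · obtain ⟨-, h2⟩ := h.conj_qx (cd_zero_iff.2 hc)
    have h0 : h.act (0 : perp2 H e f) = 0 := Subtype.ext (by simp [Lev.act_coe])
    rw [h0] at h2
    simp only [qx, Submodule.coe_zero] at h2
    rw [← h2, conj_smul_smul, smul_left_cancel_iff]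
  · have hs : ∀ d, RootCond H e 0 d → d ∈ skew H := fun d k => by
      have := k.2.2
      rwa [H.zero_left, add_zero] at this
    rw [rootG_of_not fun k => hc ((hN c).2 (hs _ k)), rootG_of_not fun k => hc (hs _ k),
      one_smul, one_smul]
    simp

theorem Rb_smul_Qs {g : rootGen H} (hg : g ∈ Qs H e f) (x : Ω) :
    Rb H e f (g • x) = Rb H e f x ∧ Wc (H := H) e (g • x) = Wc (H := H) e x := by
  obtain ⟨b, l', hb, rfl⟩ := hg
  have key : ∀ {a : perp2 H e f} {l : F}, Cd a l →
      Cd a (l + (H.h b.1 a.1 - H.h a.1 b.1)) ∧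
      qx a (l + (H.h b.1 a.1 - H.h a.1 b.1)) • qx b l' • x = qx b l' • qx a l • x := by
    intro a l h
    have h1 : Cd a (l + (H.h b.1 a.1 - H.h a.1 b.1)) := by
      have h' : l + H.conj l + H.h a.1 a.1 = 0 := h
      show _ = _
      rw [map_add, map_sub, H.symm', H.symm']
      linear_combination h'
    refine ⟨h1, ?_⟩
    rw [← mul_smul, ← mul_smul, qx_mul h1 hb, qx_mul hb h, add_comm a b]
    congr 2
    ring
  refine ⟨AddSubgroup.ext fun a => ⟨?_, ?_⟩, AddSubgroup.ext fun c => and_congr_right fun hc => ?_⟩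
  · rintro ⟨l, h, hx⟩
    have h0 : Cd a (l - (H.h b.1 a.1 - H.h a.1 b.1)) := by
      have h' : l + H.conj l + H.h a.1 a.1 = 0 := h
      show _ = _
      rw [map_sub, map_sub, H.symm', H.symm']
      linear_combination h'
    obtain ⟨-, h2⟩ := key h0
    rw [sub_add_cancel, hx, smul_left_cancel_iff] at h2
    exact ⟨_, h0, h2.symm⟩
  · rintro ⟨l, h, hx⟩
    obtain ⟨h1, h2⟩ := key h
    exact ⟨_, h1, by rw [h2, hx]⟩
  · obtain ⟨-, h2⟩ := key (cd_zero_iff.2 hc)
    simp only [qx, Submodule.coe_zero, H.zero_left, H.zero_right, sub_self, add_zero] at h2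
    simp only [qx, h2, smul_left_cancel_iff]

end CfsgLib.MinIndexPSU
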