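import Cfsg.Agent.Lib.Classical.Herm.Std

/-!
Finite Hermitian spaces: norm-one determinants, orthonormal bases, counts of vectors of given value,
the orthogonal complement of a hyperbolic pair and the extension of its isometries.
-/

set_option autoImplicit false
set_option linter.unusedSectionVars false

namespace CfsgLib.MinIndexPSU

open Module CfsgLib.Classical.Herm CfsgLib.Classical.Herm.HermSpace

variable {F V : Type*} [Field F] [AddCommGroup V] [Module F V] {H : HermSpace F V}

/-- The standing hypotheses: `|F| = q ^ 2` and the involution is `a ↦ a ^ q`. -/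
structure IsQ [Fintype F] (H : HermSpace F V) (q : ℕ) : Prop where
  card : Fintype.card F = q ^ 2
  pow : ∀ a, H.conj a = a ^ q

/-- The trace-zero elements. -/
def skew (H : HermSpace F V) : AddSubgroup F where
  carrier := {c | c + H.conj c = 0}
  add_mem' {a b} ha hb := by
    have ha' : a + H.conj a = 0 := ha
    have hb' : b + H.conj b = 0 := hb
    show a + b + H.conj (a + b) = 0
    rw [map_add]; linear_combination ha' + hb'
  zero_mem' := by simp
  neg_mem' {a} ha := by
    have ha' : a + H.conj a = 0 := ha
    show -a + H.conj (-a) = 0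
    rw [map_neg]; linear_combination -ha'

theorem mem_skew {c : F} : c ∈ skew H ↔ c + H.conj c = 0 := Iff.rfl

section Field

variable [Fintype F] {q : ℕ} (hQ : IsQ H q)

include hQ

theorem IsQ.two_le : 2 ≤ q := two_le_of_card hQ.card

theorem IsQ.conj_eq : H.conj = qPow hQ.card := RingHom.ext fun a => by rw [hQ.pow, qPow_apply]

theorem card_fixed : Nat.card {c : F // H.conj c = c} = q := by
  classical
  have hq := hQ.two_le
  have e : {c : F // H.conj c = c} ≃ Option (powMonoidHom (q - 1) : Fˣ →* Fˣ).ker :=
    { toFun := fun c => if h : c.1 = 0 then none else some ⟨Units.mk0 c.1 h,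
        (qPow_fixed_unit_iff hQ.card _).1 (by rw [← hQ.conj_eq]; exact c.2)⟩
      invFun := fun o => o.elim ⟨0, map_zero _⟩ fun u => ⟨((u : Fˣ) : F), by
        rw [hQ.conj_eq]; exact (qPow_fixed_unit_iff hQ.card _).2 u.2⟩
      left_inv := fun c => by
        by_cases h : c.1 = 0
        · simp only [h, dite_true, Option.elim_none]
          exact Subtype.ext h.symm
        · simp [h]
      right_inv := fun o => by
        cases o with
        | none => simp
        | some u => simp }
  rw [Nat.card_congr e, Finite.card_option, card_fixed_units hQ.card]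
  omega

theorem card_skew : Nat.card (skew H) = q := by
  obtain ⟨τ, hτ0, hτ⟩ := H.exists_skew
  have hτ' := H.conj_ne_zero hτ0
  rw [← card_fixed hQ]
  refine Nat.card_congr
    { toFun := fun c => ⟨c.1 / τ, ?_⟩
      invFun := fun k => ⟨k.1 * τ, ?_⟩
      left_inv := fun c => Subtype.ext (div_mul_cancel₀ _ hτ0)
      right_inv := fun k => Subtype.ext (mul_div_cancel_right₀ _ hτ0) }
  · have hc : H.conj c.1 = -c.1 := eq_neg_of_add_eq_zero_right (mem_skew.1 c.2)
    rw [map_div₀, hc, eq_neg_of_add_eq_zero_right hτ, neg_div_neg_eq]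
  · rw [mem_skew, map_mul, k.2]
    linear_combination k.1 * hτ

theorem card_trace_fibre {c : F} (hc : H.conj c = c) :
    Nat.card {l : F // l + H.conj l + c = 0} = q := by
  obtain ⟨l₀, hl₀⟩ := H.exists_trace (c := -c) (by rw [map_neg, hc])
  rw [← card_skew hQ]
  refine Nat.card_congr
    { toFun := fun l => ⟨l.1 - l₀, ?_⟩
      invFun := fun k => ⟨k.1 + l₀, ?_⟩
      left_inv := fun l => Subtype.ext (sub_add_cancel _ _)
      right_inv := fun k => Subtype.ext (add_sub_cancel_right _ _) }
  · rw [mem_skew, map_sub]
    linear_combination l.2 - hl₀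
  · rw [map_add]
    linear_combination (mem_skew.1 k.2) + hl₀

theorem exists_norm_one_gen :
    ∃ g : F, g * H.conj g = 1 ∧ g ≠ 1 ∧ g ^ 2 ≠ 1 := by
  have hq := hQ.two_le
  obtain ⟨g, hg⟩ := (inferInstance : IsCyclic (powMonoidHom (q + 1) : Fˣ →* Fˣ).ker).exists_generator
  have ho := orderOf_eq_card_of_forall_mem_zpowers hg
  rw [card_normOne_units hQ.card] at ho
  have h1 : g ≠ 1 := fun h => by rw [h, orderOf_one] at ho; omega
  have h2 : g ^ 2 ≠ 1 := fun h => by
    have := Nat.le_of_dvd two_pos (orderOf_dvd_of_pow_eq_one h)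
    omega
  refine ⟨((g : Fˣ) : F), ?_, fun h => h1 (Subtype.ext (Units.ext h)), fun h => h2 ?_⟩
  · have := congrArg Units.val (MonoidHom.mem_ker.1 g.2)
    rw [powMonoidHom_apply, Units.val_pow_eq_pow_val, Units.val_one] at this
    rw [hQ.pow, ← pow_succ', this]
  · exact Subtype.ext (Units.ext (by simpa using h))

end Field

/-- The determinant of an isometry has norm one. -/
theorem det_norm_one [FiniteDimensional F V] (g : Unit' H) :
    (detHom H g : F) * H.conj (detHom H g : F) = 1 := by
  have hg : g ∈ Subgroup.closure (shearSet H) := by rw [closure_shear]; trivial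
  induction hg using Subgroup.closure_induction with
  | mem x hx =>
    obtain ⟨v, c, hc, rfl⟩ := hx
    rw [detHom_shear, map_add, map_one, map_mul, H.conj_diag]
    linear_combination H.h v v * hc.eq
  | one => simp
  | mul x y _ _ hx hy =>
    rw [map_mul, Units.val_mul, map_mul]
    linear_combination (detHom H y : F) * H.conj (detHom H y : F) * hx + hy
  | inv x _ hx => rw [map_inv, Units.val_inv_eq_inv_val, map_inv₀, ← mul_inv, hx, inv_one]

/-- Transitivity on vectors of a non-zero value. -/
theorem exists_map_value {u w : V} (hne : H.h u u ≠ 0) (e : H.h u u = H.h w w) :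
    ∃ g : Unit' H, g.1 u = w := by
  obtain ⟨a, ha⟩ := H.norm_surj _ (H.conj_diag u)
  have ha0 : a ≠ 0 := fun h => hne (by rw [← ha, h, zero_mul])
  have h1 : ∀ x : V, H.h x x = H.h u u → H.h (a⁻¹ • x) (a⁻¹ • x) = 1 := fun x hx => by
    have := H.conj_ne_zero ha0
    rw [H.smul_left, H.smul_right, hx, ← ha, map_inv₀]
    field_simp
  obtain ⟨g, hg⟩ := exists_map_norm_one (h1 u rfl) (h1 w e.symm)
  refine ⟨g, smul_right_injective V (inv_ne_zero ha0) ?_⟩
  show a⁻¹ • g.1 u = a⁻¹ • w
  rw [← map_smul, hg]

section Orthonormal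

variable [FiniteDimensional F V]

theorem exists_orthonormal : ∀ k ≤ finrank F V, ∃ v : Fin k → V,
    ∀ i j, H.h (v i) (v j) = if i = j then 1 else 0 := by
  intro k
  induction k with
  | zero => exact fun _ => ⟨Fin.elim0, fun i => i.elim0⟩
  | succ k ih =>
    intro hk
    obtain ⟨v, hv⟩ := ih (by omega)
    let L : V →ₗ[F] (Fin k → F) := LinearMap.pi fun i => H.form (v i)
    have h1 := LinearMap.finrank_range_add_finrank_ker L
    have h2 := Submodule.finrank_le (LinearMap.range L)
    rw [Module.finrank_fintype_fun_eq_card, Fintype.card_fin] at h2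
    obtain ⟨e₀, he₀, hne⟩ := Submodule.exists_mem_ne_zero_of_ne_bot (p := LinearMap.ker L) (by
      intro h0
      rw [h0, finrank_bot] at h1
      omega)
    obtain ⟨y, hy, hyy⟩ := H.exists_value_in {x | ∀ i, H.h x (v i) = 0}
      (fun x => x - ∑ i, H.h x (v i) • v i)
      (fun x i => by
        rw [H.sub_left, ← H.form_apply (∑ j, H.h x (v j) • v j), map_sum]
        simp [H.smul_left, hv])
      (fun x y hy => by
        rw [H.sub_left, ← H.form_apply (∑ j, H.h x (v j) • v j), map_sum]
        simp [H.smul_left, fun i => H.h_comm_zero (hy i)])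
      (fun a ha b hb c i => by rw [H.add_left, H.smul_left, ha i, hb i]; ring)
      (fun a ha c i => by rw [H.smul_left, ha i]; ring)
      (e₀ := e₀) (fun i => congrFun he₀ i) hne (c := 1) (map_one _)
    refine ⟨Fin.cons y v, fun i j => ?_⟩
    refine Fin.cases ?_ ?_ i <;> refine Fin.cases ?_ ?_ j
    · simpa using hyy
    · intro j; simpa [(Fin.succ_ne_zero j).symm] using hy j
    · intro i; simpa [Fin.succ_ne_zero i] using H.h_comm_zero (hy i)
    · intro j i; simpa using hv i j

variable [Fintype F] {q : ℕ} (hQ : IsQ H q)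

include hQ

/-- A finite Hermitian space is standard. -/
theorem exists_std_equiv : ∃ φ : (Fin (finrank F V) → F) ≃ₗ[F] V,
    ∀ x y, H.h (φ x) (φ y) = Cfsg.hermForm (finrank F V) F q x y := by
  classical
  obtain ⟨v, hv⟩ := exists_orthonormal (H := H) (finrank F V) le_rfl
  set Φ := Fintype.linearCombination F v
  have hΦ : ∀ x y, H.h (Φ x) (Φ y) = Cfsg.hermForm (finrank F V) F q x y := fun x y => by
    have h1 : ∀ j, H.h (Φ x) (v j) = x j := fun j => by
      rw [← H.form_apply, Fintype.linearCombination_apply, map_sum]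
      simp [H.smul_left, hv]
    have h2 : H.h (Φ y) (Φ x) = ∑ j, y j * H.conj (x j) := by
      rw [← H.form_apply (Φ y) (Φ x)]
      conv_lhs => arg 2; rw [Fintype.linearCombination_apply]
      rw [map_sum]
      refine Finset.sum_congr rfl fun j _ => ?_
      rw [map_smul, H.form_apply, ← H.symm' (Φ x) (v j), h1, smul_eq_mul]
    rw [← H.symm', h2, map_sum, Cfsg.hermForm]
    refine Finset.sum_congr rfl fun j _ => ?_
    rw [map_mul, H.conj_conj, hQ.pow, mul_comm]
  have hinj : Function.Injective Φ := fun x y h => funext fun j => by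
    have e : ∀ z, H.h (Φ z) (v j) = z j := fun z => by
      rw [← H.form_apply, Fintype.linearCombination_apply, map_sum]
      simp [H.smul_left, hv]
    rw [← e x, h, e]
  exact ⟨LinearEquiv.ofBijective Φ ⟨hinj,
    (LinearMap.injective_iff_surjective_of_finrank_eq_finrank (by simp)).1 hinj⟩, hΦ⟩

/-- The number of vectors of a given value. -/
theorem card_value (c : F) :
    Nat.card {v : V // H.h v v = c} = levelCount (finrank F V) F q c := by
  obtain ⟨φ, hφ⟩ := exists_std_equiv hQ
  exact (Nat.card_congr (φ.toEquiv.subtypeEquiv fun x => by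
    show _ ↔ H.h (φ x) (φ x) = c
    rw [hφ])).symm

theorem card_value_one_mul {c : F} (hc : H.conj c = c) (hc0 : c ≠ 0) :
    (q : ℤ) * Nat.card {v : V // H.h v v = c} =
      (q : ℤ) ^ (2 * finrank F V) - (-(q : ℤ)) ^ finrank F V := by
  rw [card_value hQ, levelCount_norm hQ.card _ (by rwa [← hQ.conj_eq]) hc0,
    levelCount_one_formula hQ.card]

theorem card_iso_mul :
    (q : ℤ) * (Nat.card {v : V // v ≠ 0 ∧ H.h v v = 0} + 1) =
      (q : ℤ) ^ (2 * finrank F V) + (-(q : ℤ)) ^ finrank F V * ((q : ℤ) - 1) := by
  classical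
  haveI : Finite V := Module.finite_of_finite F
  have e : {v : V // H.h v v = 0} ≃ Option {v : V // v ≠ 0 ∧ H.h v v = 0} :=
    { toFun := fun v => if h : v.1 = 0 then none else some ⟨v.1, h, v.2⟩
      invFun := fun o => o.elim ⟨0, H.zero_left 0⟩ fun u => ⟨u.1, u.2.2⟩
      left_inv := fun v => by
        by_cases h : v.1 = 0
        · simp only [h, dite_true, Option.elim_none]
          exact Subtype.ext h.symm
        · simp [h]
      right_inv := fun o => by
        cases o with
        | none => simp
        | some u => simp [u.2.1] }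
  have h := card_value hQ (V := V) 0
  rw [Nat.card_congr e, Finite.card_option] at h
  rw [← levelCount_zero_formula hQ.card, ← h]
  push_cast
  ring

end Orthonormal

/-! ### The complement of a hyperbolic pair -/

/-- The vectors orthogonal to `e` and `f`. -/
def perp2 (H : HermSpace F V) (e f : V) : Submodule F V :=
  LinearMap.ker (H.form e) ⊓ LinearMap.ker (H.form f)

theorem mem_perp2 {e f x : V} : x ∈ perp2 H e f ↔ H.h x e = 0 ∧ H.h x f = 0 := Iff.rfl

variable {e f : V} (p : IsHPair H e f)

include p

/-- The projection to the complement of a hyperbolic pair. -/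
def proj2 (x : V) : perp2 H e f := ⟨pairProj H e f x, pairProj_mem p x⟩

theorem proj2_coe (x : V) : (proj2 p x : V) = x + (-(H.h x f)) • e + (-(H.h x e)) • f := rfl

theorem decomp2 (x : V) : x = H.h x f • e + H.h x e • f + (proj2 p x : V) := by
  rw [proj2_coe]; module

theorem h_e_f : H.h e f = 1 := H.h_comm_one p.2.2

/-- The induced form on the complement. -/
def res : HermSpace F (perp2 H e f) where
  h x y := H.h x.1 y.1
  conj := H.conj
  conj_conj := H.conj_conj
  conj_ne := H.conj_ne
  norm_surj := H.norm_surj
  add_left x y z := H.add_left _ _ _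
  smul_left c x y := H.smul_left _ _ _
  symm' x y := H.symm' _ _
  nondeg x hx := Subtype.ext <| H.nondeg _ fun z => H.h_comm_zero <| by
    rw [← pairProj_h z x.2]
    exact H.h_comm_zero (hx (proj2 p z))

@[simp] theorem res_h (x y : perp2 H e f) : (res p).h x y = H.h x.1 y.1 := rfl

@[simp] theorem res_conj (a : F) : (res p).conj a = H.conj a := rfl

theorem IsQ.res [Fintype F] {q : ℕ} (hQ : IsQ H q) : IsQ (res p) q := ⟨hQ.card, hQ.pow⟩

theorem finrank_perp2 [FiniteDimensional F V] : finrank F (perp2 H e f) + 2 = finrank F V := by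
  let L : V →ₗ[F] F × F := (H.form e).prod (H.form f)
  have hker : LinearMap.ker L = perp2 H e f := by
    ext x
    simp [L, mem_perp2]
  have hsurj : LinearMap.range L = ⊤ := LinearMap.range_eq_top.2 fun ab => by
    refine ⟨ab.1 • f + ab.2 • e, Prod.ext ?_ ?_⟩ <;>
      simp [L, H.add_left, H.smul_left, p.1, p.2.1, p.2.2, h_e_f p]
  have h := LinearMap.finrank_range_add_finrank_ker L
  rw [hsurj, hker, finrank_top, Module.finrank_prod, finrank_self] at h
  omega

/-- The underlying map of the extension of an isometry of the complement. -/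
def extFun (g : Unit' (res p)) (x : V) : V := x + ((g.1 (proj2 p x) : V) - proj2 p x)

theorem proj2_of_mem (x : perp2 H e f) : proj2 p (x : V) = x :=
  Subtype.ext (by rw [proj2_coe, (mem_perp2.1 x.2).1, (mem_perp2.1 x.2).2]; simp)

theorem proj2_add (x y : V) : proj2 p (x + y) = proj2 p x + proj2 p y :=
  Subtype.ext (by simp only [proj2_coe, H.add_left, Submodule.coe_add]; module)

theorem proj2_smul (c : F) (x : V) : proj2 p (c • x) = c • proj2 p x :=
  Subtype.ext (by simp only [proj2_coe, H.smul_left, Submodule.coe_smul]; module)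

theorem proj2_ext (g : Unit' (res p)) (x : V) : proj2 p (extFun p g x) = g.1 (proj2 p x) := by
  refine Subtype.ext ?_
  have h1 := mem_perp2.1 (g.1 (proj2 p x)).2
  have h2 := mem_perp2.1 (proj2 p x).2
  rw [proj2_coe p (extFun p g x), extFun, H.add_left, H.add_left, H.sub_left, H.sub_left,
    h1.1, h1.2, h2.1, h2.2, proj2_coe p x]
  module

theorem extFun_extFun (g g' : Unit' (res p)) (x : V) :
    extFun p g (extFun p g' x) = extFun p (g * g') x := by
  rw [extFun, proj2_ext, extFun, extFun, mul_apply]
  abel

theorem extFun_one (x : V) : extFun p 1 x = x := by simp [extFun]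

theorem h_proj2 (x : V) (y : perp2 H e f) : H.h (proj2 p x : V) y.1 = H.h x y.1 :=
  pairProj_h x y.2

theorem h_proj2' (x : V) (y : perp2 H e f) : H.h y.1 (proj2 p x : V) = H.h y.1 x := by
  rw [← H.symm', h_proj2, H.symm']

theorem h_extFun (g : Unit' (res p)) (x y : V) :
    H.h (extFun p g x) (extFun p g y) = H.h x y := by
  have h := unit_h g (proj2 p x) (proj2 p y)
  rw [res_h, res_h] at h
  simp only [extFun, H.add_left, H.add_right, H.sub_left, H.sub_right]
  rw [← h_proj2' p y (g.1 (proj2 p x)), ← h_proj2' p y (proj2 p x),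
    ← h_proj2 p x (g.1 (proj2 p y)), ← h_proj2 p x (proj2 p y), h]
  ring

/-- Extension of isometries of the complement. -/
def ext : Unit' (res p) →* Unit' H where
  toFun g :=
    ⟨{ toFun := extFun p g
       invFun := extFun p g⁻¹
       left_inv := fun x => by rw [extFun_extFun, inv_mul_cancel, extFun_one]
       right_inv := fun x => by rw [extFun_extFun, mul_inv_cancel, extFun_one]
       map_add' := fun x y => by
         simp only [extFun, proj2_add, map_add, Submodule.coe_add]; abel
       map_smul' := fun c x => by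
         simp only [extFun, proj2_smul, map_smul, Submodule.coe_smul, RingHom.id_apply]; module },
     h_extFun p g⟩
  map_one' := unit_ext fun x => extFun_one p x
  map_mul' g g' := unit_ext fun x => (extFun_extFun p g g' x).symm

theorem ext_apply (g : Unit' (res p)) (x : V) : (ext p g).1 x = extFun p g x := rfl

theorem ext_coe (g : Unit' (res p)) (x : perp2 H e f) : (ext p g).1 x.1 = (g.1 x : V) := by
  rw [ext_apply, extFun, proj2_of_mem, add_sub_cancel]

theorem ext_left (g : Unit' (res p)) : (ext p g).1 e = e := by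
  rw [ext_apply, extFun, show proj2 p e = 0 from Subtype.ext (by
    rw [proj2_coe, p.1, h_e_f p]; simp), map_zero]
  simp

theorem ext_right (g : Unit' (res p)) : (ext p g).1 f = f := by
  rw [ext_apply, extFun, show proj2 p f = 0 from Subtype.ext (by
    rw [proj2_coe, p.2.1, p.2.2]; simp), map_zero]
  simp

theorem rootCond_coe {u w : perp2 H e f} {l : F} (c : RootCond (res p) u w l) :
    RootCond H u.1 w.1 l := ⟨c.1, c.2.1, c.2.2⟩

theorem ext_root {u w : perp2 H e f} {l : F} (c : RootCond (res p) u w l) :
    ext p (root (res p) u w l c) = root H u.1 w.1 l (rootCond_coe p c) := by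
  refine unit_ext fun x => ?_
  rw [ext_apply, extFun, root_apply, root_apply, Submodule.coe_add, Submodule.coe_add,
    Submodule.coe_smul, Submodule.coe_smul, res_h, res_h, h_proj2, h_proj2]
  module

theorem ext_shear {v : perp2 H e f} {c : F} (hc : ShearCond (res p) v c) :
    ext p (shear (res p) v c hc) = shear H v.1 c hc := by
  refine unit_ext fun x => ?_
  show x + ((proj2 p x + (c * (res p).h (proj2 p x) v) • v : perp2 H e f) - (proj2 p x : V)) =
    x + (c * H.h x v.1) • v.1
  rw [Submodule.coe_add, Submodule.coe_smul, res_h, h_proj2]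
  module

theorem ext_mem_rootGen {g : Unit' (res p)} (hg : g ∈ rootGen (res p)) : ext p g ∈ rootGen H := by
  suffices rootGen (res p) ≤ (rootGen H).comap (ext p) from this hg
  refine (Subgroup.closure_le _).2 ?_
  rintro _ ⟨u, w, l, c, rfl⟩
  rw [SetLike.mem_coe, Subgroup.mem_comap, ext_root]
  exact root_mem _

/-- The homomorphism of root groups. -/
def extR : rootGen (res p) →* rootGen H :=
  ((ext p).comp (rootGen (res p)).subtype).codRestrict _ fun g => ext_mem_rootGen p g.2

theorem extR_coe (g : rootGen (res p)) : (extR p g).1 = ext p g.1 := rfl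

end CfsgLib.MinIndexPSU
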