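import Cfsg.Agent.Lib.MinIndexPSU.UnitaryBound
import Cfsg.Agent.Lib.Classical.Herm.Std

/-!
Transfer of the bound for special unitary groups to `Cfsg.PSU`; the stabilisers of lines.
-/

set_option autoImplicit false
set_option linter.unusedSectionVars false

namespace CfsgLib.MinIndexPSU

open Module CfsgLib.Classical.Herm CfsgLib.Classical.Herm.HermSpace

section Line

variable {F V : Type*} [Field F] [AddCommGroup V] [Module F V] [FiniteDimensional F V]
  {H : HermSpace F V}

/-- The stabiliser in the root group of the line through `u`. -/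
def lineStab (H : HermSpace F V) (u : V) : Subgroup (rootGen H) where
  carrier := {g | ∃ c : F, c ≠ 0 ∧ g.1.1 u = c • u}
  one_mem' := ⟨1, one_ne_zero, by simp⟩
  mul_mem' := by
    rintro a b ⟨c, hc, ha⟩ ⟨d, hd, hb⟩
    exact ⟨c * d, mul_ne_zero hc hd, by simp [ha, hb, smul_smul, mul_comm]⟩
  inv_mem' := by
    rintro a ⟨c, hc, ha⟩
    refine ⟨c⁻¹, inv_ne_zero hc, a.1.1.injective ?_⟩
    simp [ha, smul_smul, hc]

theorem mem_lineStab {u : V} {g : rootGen H} :
    g ∈ lineStab H u ↔ ∃ c : F, c ≠ 0 ∧ g.1.1 u = c • u := Iff.rfl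

/-- The number of lines in an orbit of vectors closed under multiples. -/
theorem index_lineStab {u : V} (hu : u ≠ 0) {T : Set V}
    (hT : ∀ v, v ∈ T ↔ ∃ g ∈ rootGen H, g.1 u = v) (hc : ∀ c : F, c ≠ 0 → c • u ∈ T) :
    (lineStab H u).index * Nat.card {c : F // c ≠ 0} = T.ncard := by
  letI : MulAction (rootGen H) V :=
    { smul := fun g v => g.1.1 v
      one_smul := fun v => by show (1 : rootGen H).1.1 v = v; simp
      mul_smul := fun a b v => by show (a * b).1.1 v = a.1.1 (b.1.1 v); simp }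
  set A := lineStab H u
  have h1 : MulAction.orbit (rootGen H) u = T := Set.ext fun v => by
    rw [hT, MulAction.mem_orbit_iff]
    exact ⟨fun ⟨g, hg⟩ => ⟨g.1, g.2, hg⟩, fun ⟨g, hg, he⟩ => ⟨⟨g, hg⟩, he⟩⟩
  have h2 : MulAction.orbit A u = Set.range fun c : {c : F // c ≠ 0} => c.1 • u := by
    ext v
    constructor
    · rintro ⟨⟨g, c, hc0, hg⟩, rfl⟩
      exact ⟨⟨c, hc0⟩, hg.symm⟩
    · rintro ⟨⟨c, hc0⟩, rfl⟩
      obtain ⟨g, hg, he⟩ := (hT _).1 (hc c hc0)
      exact ⟨⟨⟨g, hg⟩, c, hc0, he⟩, he⟩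
  have h3 : Nat.card {c : F // c ≠ 0} = (MulAction.orbit A u).ncard := by
    rw [h2, Set.ncard_range_of_injective fun a b h => Subtype.ext (smul_left_injective F hu h)]
  rw [h3, ← h1, ← MulAction.index_stabilizer, ← MulAction.index_stabilizer]
  have h4 : MulAction.stabilizer A u = (MulAction.stabilizer (rootGen H) u).subgroupOf A := by
    ext g
    rfl
  rw [h4, ← Subgroup.relIndex, mul_comm, Subgroup.relIndex_mul_index]
  intro g hg
  exact ⟨1, one_ne_zero, by rw [one_smul]; exact hg⟩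

theorem scalar_mem_lineStab {u : V} (hu : u ≠ 0) {g : rootGen H} {μ : F}
    (hμ : ∀ x, g.1.1 x = μ • x) : g ∈ lineStab H u := by
  refine ⟨μ, ?_, hμ u⟩
  rintro rfl
  exact hu (g.1.1.map_eq_zero_iff.1 ((hμ u).trans (zero_smul F u)))

end Line

variable {F : Type*} [Field F] [Fintype F] {q : ℕ} (hF : Fintype.card F = q ^ 2) {n : ℕ}
include hF

/-- A subgroup of the root group containing the scalars has the index of a projective one. -/
theorem exists_psu_index (hn : 3 ≤ n) (L : Subgroup (rootGen (stdHerm hF n)))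
    (hL : ∀ (g : rootGen (stdHerm hF n)) (μ : F), (∀ x, g.1.1 x = μ • x) → g ∈ L) :
    ∃ K : Subgroup (Cfsg.PSU n F q), K.index = L.index := by
  obtain ⟨e, f, p⟩ := exists_pair_std hF hn
  set ψ := suEquivRoot hF hn
  refine ⟨(L.comap ψ.toMonoidHom).map (QuotientGroup.mk' _), ?_⟩
  rw [Subgroup.index_map_eq _ (QuotientGroup.mk'_surjective _) ?_,
    Subgroup.index_comap_of_surjective _ ψ.surjective]
  intro z hz
  rw [QuotientGroup.ker_mk', Subgroup.mem_center_iff] at hz
  have hc : ψ z ∈ Subgroup.center (rootGen (stdHerm hF n)) := Subgroup.mem_center_iff.2 fun b => by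
    obtain ⟨b', rfl⟩ := ψ.surjective b
    rw [← map_mul, ← map_mul, hz]
  obtain ⟨μ, -, hμ⟩ := (mem_center_rootGen_iff_scalar (big_std hF hn) p _).1 hc
  exact hL _ μ hμ

theorem isQ_std : IsQ (stdHerm hF n) q := ⟨hF, fun _ => rfl⟩

theorem card_nonzero : Nat.card {c : F // c ≠ 0} = q ^ 2 - 1 := by
  classical
  rw [Nat.card_eq_fintype_card, Fintype.card_subtype_compl, Fintype.card_subtype_eq, hF]

/-- The number of non-zero isotropic vectors. -/
noncomputable def numIso (hF : Fintype.card F = q ^ 2) (n : ℕ) : ℕ :=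
  {v : Fin n → F | v ≠ 0 ∧ (stdHerm hF n).h v v = 0}.ncard

/-- The number of vectors of value one. -/
noncomputable def numOne (hF : Fintype.card F = q ^ 2) (n : ℕ) : ℕ :=
  {v : Fin n → F | (stdHerm hF n).h v v = 1}.ncard

theorem numIso_formula : (q : ℤ) * ((numIso hF n : ℤ) + 1) =
    (q : ℤ) ^ (2 * n) + (-(q : ℤ)) ^ n * ((q : ℤ) - 1) := by
  have h := card_iso_mul (isQ_std hF (n := n))
  rw [finrank_fin_fun] at h
  rw [numIso, ← Nat.card_coe_set_eq]
  exact h

theorem numOne_formula : (q : ℤ) * (numOne hF n : ℤ) = (q : ℤ) ^ (2 * n) - (-(q : ℤ)) ^ n := by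
  have h := card_value_one_mul (isQ_std hF (n := n)) (map_one _) one_ne_zero
  rw [finrank_fin_fun] at h
  rw [numOne, ← Nat.card_coe_set_eq]
  exact h

/-- Every proper subgroup of the projective group is large. -/
theorem index_lower (hn : 6 ≤ n) (K : Subgroup (Cfsg.PSU n F q)) (hK : K ≠ ⊤) :
    numIso hF n ≤ K.index * (q ^ 2 - 1) ∨ (q = 2 ∧ numOne hF n ≤ K.index * 3) := by
  have hn3 : 3 ≤ n := by omega
  obtain ⟨e, f, p⟩ := exists_pair_std hF hn3
  haveI := Fact.mk p
  set ψ := suEquivRoot hF hn3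
  set L := (K.comap (QuotientGroup.mk' _)).map ψ.toMonoidHom
  have hidx : L.index = K.index := by
    rw [Subgroup.index_map_of_bijective ψ.bijective,
      Subgroup.index_comap_of_surjective _ (QuotientGroup.mk'_surjective _)]
  haveI : Finite ((Fin n → F) ≃ₗ[F] (Fin n → F)) := Finite.of_injective _ DFunLike.coe_injective
  have hd : 6 ≤ finrank F (Fin n → F) := by rw [finrank_fin_fun]; exact hn
  have h1 : 1 < Nat.card (rootGen (stdHerm hF n) ⧸ L) := by
    rw [← Subgroup.index_eq_card]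
    have h0 : L.index ≠ 0 := Subgroup.index_ne_zero_of_finite
    have h' : L.index ≠ 1 := fun h => hK (Subgroup.index_eq_one.1 (hidx ▸ h))
    omega
  have h := unitary_bound (isQ_std hF (n := n)) (e := e) (f := f)
    (Ω := rootGen (stdHerm hF n) ⧸ L) hd h1
  rw [← Subgroup.index_eq_card, hidx] at h
  exact h

/-- The stabiliser of an isotropic line. -/
theorem exists_index_iso (hn : 3 ≤ n) :
    ∃ K : Subgroup (Cfsg.PSU n F q), K.index * (q ^ 2 - 1) = numIso hF n := by
  obtain ⟨e, f, p⟩ := exists_pair_std hF hn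
  set H := stdHerm hF n
  obtain ⟨K, hK⟩ := exists_psu_index hF hn (lineStab H e)
    (fun g μ hμ => scalar_mem_lineStab p.left_ne_zero hμ)
  refine ⟨K, ?_⟩
  rw [hK, ← card_nonzero hF]
  refine index_lineStab p.left_ne_zero (fun v => ⟨?_, ?_⟩) ?_
  · rintro ⟨hv0, hv⟩
    exact rootGen_transitive (big_std hF hn) p.1 p.left_ne_zero hv hv0
  · rintro ⟨g, -, rfl⟩
    exact ⟨fun h => p.left_ne_zero (g.1.map_eq_zero_iff.1 h), (unit_h g e e).trans p.1⟩
  · intro c hc
    refine ⟨smul_ne_zero hc p.left_ne_zero, ?_⟩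
    rw [H.smul_left, H.smul_right, p.1, mul_zero, mul_zero]

/-- The stabiliser of a non-isotropic line, for `q = 2`. -/
theorem exists_index_one (hn : 3 ≤ n) (h2 : q = 2) :
    ∃ K : Subgroup (Cfsg.PSU n F q), K.index * 3 = numOne hF n := by
  set H := stdHerm hF n
  set u : Fin n → F := Pi.single ⟨0, by omega⟩ 1
  have hu : H.h u u = 1 := by
    rw [stdHerm_h, Cfsg.hermForm, Finset.sum_eq_single (⟨0, by omega⟩ : Fin n)
      (fun j _ hj => by simp [u, hj, zero_pow (show q ≠ 0 by omega)]) (by simp)]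
    simp [u]
  have hu0 : u ≠ 0 := fun h => one_ne_zero (α := F) (by rw [← hu, h, H.zero_left])
  obtain ⟨K, hK⟩ := exists_psu_index hF hn (lineStab H u)
    (fun g μ hμ => scalar_mem_lineStab hu0 hμ)
  refine ⟨K, ?_⟩
  have h3 : Nat.card {c : F // c ≠ 0} = 3 := by rw [card_nonzero hF, h2]; norm_num
  rw [hK, ← h3]
  refine index_lineStab hu0 (fun v => ⟨?_, ?_⟩) ?_
  · intro hv
    exact exists_rootGen_value (H := H) (by rw [finrank_fin_fun]; exact hn)
      (by rw [hu]; exact one_ne_zero) (hu.trans (hv : H.h v v = 1).symm)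
  · rintro ⟨g, -, rfl⟩
    exact (unit_h g u u).trans hu
  · intro c hc
    show H.h (c • u) (c • u) = 1
    rw [H.smul_left, H.smul_right, hu, stdHerm_conj, mul_one, h2, ← pow_succ']
    have h := FiniteField.pow_card_sub_one_eq_one c hc
    rw [hF, h2] at h
    norm_num at h
    exact h

theorem numIso_even (hn : Even n) (hn1 : 1 ≤ n) :
    numIso hF n = (q ^ n - 1) * (q ^ (n - 1) + 1) := by
  have h := numIso_formula hF (n := n)
  have hq := two_le_of_card hF
  have hP : 1 ≤ q ^ n := Nat.one_le_pow _ _ (by omega)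
  zify [hP]
  rw [hn.neg_pow, show 2 * n = n + n by omega, pow_add] at h
  have he : (q : ℤ) ^ n = (q : ℤ) * (q : ℤ) ^ (n - 1) := by rw [← pow_succ']; congr 1; omega
  refine mul_left_cancel₀ (show (q : ℤ) ≠ 0 by omega) ?_
  linear_combination h + (((q : ℤ) ^ n - 1)) * he

theorem numIso_odd (hn : Odd n) : numIso hF n = (q ^ n + 1) * (q ^ (n - 1) - 1) := by
  have h := numIso_formula hF (n := n)
  have hq := two_le_of_card hF
  have hn1 : 1 ≤ n := hn.pos
  have hP : 1 ≤ q ^ (n - 1) := Nat.one_le_pow _ _ (by omega)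
  zify [hP]
  rw [hn.neg_pow, show 2 * n = n + n by omega, pow_add] at h
  have he : (q : ℤ) ^ n = (q : ℤ) * (q : ℤ) ^ (n - 1) := by rw [← pow_succ']; congr 1; omega
  refine mul_left_cancel₀ (show (q : ℤ) ≠ 0 by omega) ?_
  linear_combination h + (((q : ℤ) ^ n + 1)) * he

theorem numOne_two_even (h2 : q = 2) (hn : Even n) (hn1 : 1 ≤ n) :
    numOne hF n = 2 ^ (n - 1) * (2 ^ n - 1) := by
  have h := numOne_formula hF (n := n)
  have hP : 1 ≤ 2 ^ n := Nat.one_le_pow _ _ (by omega)
  zify [hP]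
  subst h2
  push_cast at h
  rw [hn.neg_pow, show 2 * n = n + n by omega, pow_add] at h
  have he : (2 : ℤ) ^ n = 2 * (2 : ℤ) ^ (n - 1) := by rw [← pow_succ']; congr 1; omega
  refine mul_left_cancel₀ (show (2 : ℤ) ≠ 0 by norm_num) ?_
  linear_combination h + (((2 : ℤ) ^ n - 1)) * he

theorem numOne_two_odd (h2 : q = 2) (hn : Odd n) :
    numOne hF n = 2 ^ (n - 1) * (2 ^ n + 1) := by
  have h := numOne_formula hF (n := n)
  have hn1 : 1 ≤ n := hn.pos
  zify
  subst h2
  push_cast at h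
  rw [hn.neg_pow, show 2 * n = n + n by omega, pow_add] at h
  have he : (2 : ℤ) ^ n = 2 * (2 : ℤ) ^ (n - 1) := by rw [← pow_succ']; congr 1; omega
  refine mul_left_cancel₀ (show (2 : ℤ) ≠ 0 by norm_num) ?_
  linear_combination h + (((2 : ℤ) ^ n + 1)) * he

end CfsgLib.MinIndexPSU
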