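import Cfsg.Agent.Lib.MinIndexPSU.DimFive
import Cfsg.Agent.Lib.MinIndexPSU.StdBound

/-!
The smallest index in odd dimension at least five, for `Cfsg.PSU`.
-/

set_option autoImplicit false
set_option linter.unusedSectionVars false

namespace CfsgLib.MinIndexPSU

open Module CfsgLib.Classical.Herm CfsgLib.Classical.Herm.HermSpace

variable {F : Type*} [Field F] [Fintype F] {q : ℕ} (hF : Fintype.card F = q ^ 2)
include hF

theorem index_lower_five (K : Subgroup (Cfsg.PSU 5 F q)) (hK : K ≠ ⊤) :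
    (q ^ 5 + 1) * (q ^ 2 + 1) ≤ K.index := by
  have hn3 : 3 ≤ 5 := by norm_num
  obtain ⟨e, f, p⟩ := exists_pair_std hF hn3
  haveI := Fact.mk p
  set ψ := suEquivRoot hF hn3
  set L := (K.comap (QuotientGroup.mk' _)).map ψ.toMonoidHom
  have hidx : L.index = K.index := by
    rw [Subgroup.index_map_of_bijective ψ.bijective,
      Subgroup.index_comap_of_surjective _ (QuotientGroup.mk'_surjective _)]
  haveI : Finite ((Fin 5 → F) ≃ₗ[F] (Fin 5 → F)) := Finite.of_injective _ DFunLike.coe_injective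
  have h1 : 1 < Nat.card (rootGen (stdHerm hF 5) ⧸ L) := by
    rw [← Subgroup.index_eq_card]
    have h0 : L.index ≠ 0 := Subgroup.index_ne_zero_of_finite
    have h' : L.index ≠ 1 := fun h => hK (Subgroup.index_eq_one.1 (hidx ▸ h))
    omega
  have h := five_bound (isQ_std hF (n := 5)) (e := e) (f := f)
    (Ω := rootGen (stdHerm hF 5) ⧸ L) (finrank_fin_fun F) h1
  rwa [← Subgroup.index_eq_card, hidx] at h

theorem index_lower_odd {n : ℕ} (hn : 5 ≤ n) (hodd : Odd n) (K : Subgroup (Cfsg.PSU n F q))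
    (hK : K ≠ ⊤) : (q ^ n + 1) * (q ^ (n - 1) - 1) ≤ K.index * (q ^ 2 - 1) := by
  rcases (show n = 5 ∨ 6 ≤ n by omega) with rfl | h6
  · have h := index_lower_five hF K hK
    refine le_trans (le_of_eq ?_) (Nat.mul_le_mul_right _ h)
    rw [mul_assoc, show q ^ (5 - 1) - 1 = (q ^ 2) ^ 2 - 1 ^ 2 by rw [← pow_mul]; norm_num,
      Nat.sq_sub_sq]
  · rcases index_lower hF h6 K hK with h | ⟨h2, h⟩
    · rwa [numIso_odd hF hodd] at h
    · subst h2
      rw [numOne_two_odd hF rfl hodd] at h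
      refine le_trans ?_ (by simpa using h)
      rw [mul_comm (2 ^ (n - 1))]
      exact Nat.mul_le_mul_left _ (Nat.sub_le _ _)

end CfsgLib.MinIndexPSU
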