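import Cfsg.Agent.Lib.MinIndexPSU.Small
import Cfsg.Agent.Lib.MinIndexPSU.Lines
import Mathlib.GroupTheory.SpecificGroups.Cyclic
import Mathlib.RingTheory.IntegralDomain

/-!
Frames whose torus part lies in the subgroup, when there are no transvections.
-/

set_option autoImplicit false

namespace CfsgLib.MinIndexPSU

open Module CfsgLib.Classical.Herm CfsgLib.Classical.Herm.HermSpace

variable {F V : Type*} [Field F] [AddCommGroup V] [Module F V] [FiniteDimensional F V]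
  {H : HermSpace F V}

namespace Frame

variable (Φ : Frame H)

/-- The image of a frame under an isometry. -/
def map (u : Unit' H) : Frame H where
  e := u.1 Φ.e
  f := u.1 Φ.f
  k := u.1 Φ.k
  pair := Φ.pair.map u
  kk := by rw [unit_h, Φ.kk]
  ke := by rw [unit_h, Φ.ke]
  kf := by rw [unit_h, Φ.kf]

/-- The frame with the two isotropic vectors exchanged. -/
def swap : Frame H where
  e := Φ.f
  f := Φ.e
  k := Φ.k
  pair := Φ.pair.swap
  kk := Φ.kk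
  ke := Φ.kf
  kf := Φ.ke

variable (hd : finrank F V = 3)
include hd

theorem map_tor (u : Unit' H) (t : Fˣ) :
    (Φ.map u).tor hd t = u * Φ.tor hd t * u⁻¹ := by
  have hi : ∀ x : V, (u⁻¹).1 (u.1 x) = x := inv_apply_self u
  refine (Φ.map u).map_ext hd ?_ ?_ ?_
  · rw [tor_e]; show _ = (u * Φ.tor hd t * u⁻¹).1 (u.1 Φ.e)
    rw [mul_apply, mul_apply, hi, tor_e, map_smul]; rfl
  · rw [tor_f]; show _ = (u * Φ.tor hd t * u⁻¹).1 (u.1 Φ.f)
    rw [mul_apply, mul_apply, hi, tor_f, map_smul]; rfl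
  · rw [tor_k]; show _ = (u * Φ.tor hd t * u⁻¹).1 (u.1 Φ.k)
    rw [mul_apply, mul_apply, hi, tor_k, map_smul]; rfl

theorem swap_tor (t : Fˣ) :
    Φ.swap.tor hd t = Φ.tor hd (Units.mk0 ((H.conj t)⁻¹) (inv_ne_zero (H.conj_ne_zero t.ne_zero))) := by
  refine Φ.map_ext hd ?_ ?_ ?_
  · rw [tor_e]; show (Φ.swap.tor hd t).1 Φ.swap.f = _
    rw [tor_f]; rfl
  · rw [tor_f]; show (Φ.swap.tor hd t).1 Φ.swap.e = _
    rw [tor_e, Units.val_mk0, map_inv₀, H.conj_conj, inv_inv]; rfl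
  · rw [tor_k]; show (Φ.swap.tor hd t).1 Φ.swap.k = _
    rw [tor_k, Units.val_mk0, map_inv₀, H.conj_conj]
    congr 1
    have := H.conj_ne_zero t.ne_zero
    have := t.ne_zero
    field_simp

theorem tor_pow (t : Fˣ) (m : ℕ) : Φ.tor hd t ^ m = Φ.tor hd (t ^ m) := by
  induction m with
  | zero => rw [pow_zero, pow_zero, Φ.tor_one hd]
  | succ m ih => rw [pow_succ, ih, Φ.tor_mul, pow_succ]

/-- The subgroup contains the torus part of the frame. -/
def Adapted (M : Subgroup (Unit' H)) : Prop := ∀ t ∈ Φ.K M, Φ.tor hd t ∈ M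

omit hd in
theorem K_eq_of_line (M : Subgroup (Unit' H)) {Ψ : Frame H} {c : F} (hc : c ≠ 0)
    (h : Ψ.e = c • Φ.e) : Ψ.K M = Φ.K M := by
  have hiff : ∀ (g : Unit' H) (a : F), g.1 Ψ.e = a • Ψ.e ↔ g.1 Φ.e = a • Φ.e := by
    intro g a
    rw [h, map_smul, smul_comm a c]
    exact ⟨fun e => smul_right_injective V hc e, fun e => by rw [e]⟩
  ext t
  rw [Ψ.mem_K, Φ.mem_K]
  constructor
  · rintro ⟨g, hg, hB, he⟩
    exact ⟨g, hg, ⟨hB.1, t, (hiff g t).1 he⟩, (hiff g t).1 he⟩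
  · rintro ⟨g, hg, hB, he⟩
    exact ⟨g, hg, ⟨hB.1, t, (hiff g t).2 he⟩, (hiff g t).2 he⟩

theorem adapted_map {M : Subgroup (Unit' H)} (hA : Φ.Adapted hd M) {u : Unit' H} (hu : u ∈ M) :
    (Φ.map u).Adapted hd M := by
  intro t ht
  rw [map_tor]
  refine mul_mem (mul_mem hu (hA t ?_)) (inv_mem hu)
  obtain ⟨g, hg, hB, he⟩ := ((Φ.map u).mem_K M).1 ht
  rw [Φ.mem_K]
  have he' : (u⁻¹ * g * u).1 Φ.e = (t : F) • Φ.e := by
    rw [mul_apply, mul_apply]
    show (u⁻¹).1 (g.1 (Φ.map u).e) = _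
    rw [he, map_smul]
    show _ • (u⁻¹).1 (u.1 Φ.e) = _
    rw [inv_apply_self]
  refine ⟨u⁻¹ * g * u, mul_mem (mul_mem (inv_mem hu) hg) hu, ⟨?_, t, he'⟩, he'⟩
  have := (detHom H).normal_ker.conj_mem g hB.1 u⁻¹
  rwa [inv_inv] at this

theorem adapted_swap {M : Subgroup (Unit' H)} (hM : M ≤ (detHom H).ker) (hA : Φ.Adapted hd M)
    (hK : Φ.K M = ⊤) : Φ.swap.Adapted hd M := by
  intro t _
  rw [swap_tor]
  exact hA _ (by rw [hK]; exact Subgroup.mem_top _)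

/-- Only `Z = 0` matters for the decomposition at an adapted frame. -/
theorem eq_tor_of_fix_k {M : Subgroup (Unit' H)} (hM : M ≤ (detHom H).ker) (hZ : Φ.Z M = ⊥)
    (hA : Φ.Adapted hd M) {g : Unit' H} (hg : g ∈ M) {c d : F} (hge : g.1 Φ.e = c • Φ.e)
    (hgk : g.1 Φ.k = d • Φ.k) : ∃ t ∈ Φ.K M, (t : F) = c ∧ g = Φ.tor hd t := by
  obtain ⟨a, l, h, t, ht, rfl⟩ := Φ.exists_uel_mul_tor hd (hM hg) hge
  have htK : t ∈ Φ.K M := (Φ.mem_K M).2 ⟨_, hg, ⟨hM hg, c, hge⟩, ht ▸ hge⟩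
  have ha : a = 0 := by
    rw [mul_apply, Φ.tor_k, map_smul, Φ.uel_apply_k h] at hgk
    have := congrArg (fun z => H.h z Φ.f) hgk
    simpa [H.smul_left, Φ.h_vec_f, Φ.kf, H.conj_ne_zero] using this
  subst ha
  have hm : Φ.uel 0 l h ∈ M := by
    have := mul_mem hg (inv_mem (hA t htK))
    rwa [mul_inv_cancel_right] at this
  have hl : l ∈ Φ.Z M := ⟨h, hm⟩
  rw [hZ, AddSubgroup.mem_bot] at hl
  subst hl
  exact ⟨t, htK, ht, by rw [Φ.uel_zero, one_mul]⟩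

/-- A frame with the same first line whose torus element with eigenvalue `t` lies in `M`. -/
theorem exists_torus_frame (M : Subgroup (Unit' H)) {t : Fˣ} (ht : t ∈ Φ.K M)
    (hx : H.conj (t : F) * (H.conj t / t) ≠ 1) (hN : (t : F) * H.conj t ≠ 1) :
    ∃ Ψ : Frame H, Ψ.e = Φ.e ∧ Ψ.tor hd t ∈ M := by
  obtain ⟨a, l, h, hg⟩ := Φ.exists_mem_of_mem_K M hd ht
  set x := H.conj (t : F) * (H.conj t / t) with hxdef
  set N := (t : F) * H.conj t with hNdef
  set b := a / (x - 1) with hb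
  obtain ⟨m₀, hm₀⟩ := H.exists_trace (c := -(b * H.conj b))
    (by rw [map_neg, map_mul, H.conj_conj, mul_comm])
  have hpm : IsPar H b m₀ := by unfold IsPar; linear_combination hm₀
  have hba : b + a + x * -b = 0 := by
    have : b * (x - 1) = a := div_mul_cancel₀ _ (sub_ne_zero.2 hx)
    linear_combination -this
  have hNc : H.conj N = N := by rw [hNdef, map_mul, H.conj_conj, mul_comm]
  set L₀ := m₀ + l - a * H.conj b + N * H.conj m₀ - x * -b * H.conj (b + a) with hL₀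
  have hp0 : IsPar H (b + a + x * -b) L₀ :=
    isPar_add (isPar_add hpm h) (isPar_conj t (isPar_neg hpm))
  rw [hba] at hp0
  have hL₀s := mem_skew.1 (isPar_zero_iff.1 hp0)
  clear_value L₀
  have hN1 : 1 - N ≠ 0 := sub_ne_zero.2 (Ne.symm hN)
  set s := -L₀ / (1 - N) with hs
  have hcs : H.conj s = -s := by
    rw [hs, map_div₀, map_neg, map_sub, map_one, hNc, eq_neg_of_add_eq_zero_right hL₀s]
    ring
  have hpu : IsPar H b (m₀ + s) := by
    unfold IsPar at *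
    rw [map_add, hcs]
    linear_combination hpm
  set u := Φ.uel b (m₀ + s) hpu
  refine ⟨Φ.map u⁻¹, ?_, ?_⟩
  · show (u⁻¹).1 Φ.e = Φ.e
    conv_lhs => rw [← Φ.uel_apply_e hpu]
    exact inv_apply_self _ _
  · rw [map_tor, inv_inv]
    suffices h1 : u⁻¹ * Φ.tor hd t * u = Φ.uel a l h * Φ.tor hd t by rw [h1]; exact hg
    have key : u * Φ.uel a l h * (Φ.tor hd t * u⁻¹ * (Φ.tor hd t)⁻¹) = 1 := by
      rw [Φ.uel_inv, Φ.tor_conj, Φ.uel_mul, Φ.uel_mul, ← Φ.uel_zero]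
      refine Φ.uel_congr _ _ hba ?_
      rw [map_add, hcs]
      have hs' : s * (1 - N) = -L₀ := div_mul_cancel₀ _ hN1
      rw [hL₀] at hs'
      linear_combination hs'
    calc u⁻¹ * Φ.tor hd t * u
        = u⁻¹ * (u * Φ.uel a l h * (Φ.tor hd t * u⁻¹ * (Φ.tor hd t)⁻¹)) * Φ.tor hd t * u := by
          rw [key, mul_one]
      _ = Φ.uel a l h * Φ.tor hd t := by group

theorem exists_adapted_of_gen (M : Subgroup (Unit' H)) {t : Fˣ} (htK : Φ.K M = Subgroup.zpowers t)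
    (hx : H.conj (t : F) * (H.conj t / t) ≠ 1) (hN : (t : F) * H.conj t ≠ 1) :
    ∃ Ψ : Frame H, Ψ.e = Φ.e ∧ Ψ.Adapted hd M := by
  obtain ⟨Ψ, he, hm⟩ := Φ.exists_torus_frame hd M (by rw [htK]; exact Subgroup.mem_zpowers t) hx hN
  refine ⟨Ψ, he, fun s hs => ?_⟩
  rw [Φ.K_eq_of_line M one_ne_zero (he.trans (one_smul F _).symm), htK] at hs
  let τ : Fˣ →* Unit' H := MonoidHom.mk' (Ψ.tor hd) fun a b => (Ψ.tor_mul hd a b).symm
  obtain ⟨k, rfl⟩ := Subgroup.mem_zpowers_iff.1 hs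
  show τ (t ^ k) ∈ M
  rw [map_zpow]
  exact Subgroup.zpow_mem M hm k

end Frame

/-- A generator of a subgroup of the multiplicative group. -/
theorem exists_generator [Fintype F] (K : Subgroup Fˣ) :
    ∃ t : Fˣ, K = Subgroup.zpowers t ∧ orderOf t = Nat.card K := by
  obtain ⟨g, hg⟩ := IsCyclic.exists_generator (α := K)
  refine ⟨g.1, le_antisymm (fun s hs => ?_) (Subgroup.zpowers_le.2 g.2), ?_⟩
  · obtain ⟨k, hk⟩ := Subgroup.mem_zpowers_iff.1 (hg ⟨s, hs⟩)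
    exact Subgroup.mem_zpowers_iff.2 ⟨k, by rw [← Subgroup.coe_zpow, hk]⟩
  · rw [Subgroup.orderOf_coe, orderOf_eq_card_of_forall_mem_zpowers hg]

end CfsgLib.MinIndexPSU
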