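import Cfsg.Agent.Lib.MinIndexPSU.Count
import Mathlib.Tactic.Positivity

/-!
Translates of subgroups of the complement under the Levi elements.
-/

set_option autoImplicit false
set_option linter.unusedSectionVars false

namespace CfsgLib.MinIndexPSU

open Module CfsgLib.Classical.Herm CfsgLib.Classical.Herm.HermSpace
open scoped Pointwise

variable {F V : Type*} [Field F] [Fintype F] [AddCommGroup V] [Module F V] [FiniteDimensional F V]
  {H : HermSpace F V} {e f : V} [hp : Fact (IsHPair H e f)] {q : ℕ} (hQ : IsQ H q)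

/-- The number of non-zero isotropic vectors of the complement. -/
noncomputable def isoCard (H : HermSpace F V) (e f : V) : ℕ :=
  {a : perp2 H e f | a ≠ 0 ∧ H.h a.1 a.1 = 0}.ncard

/-- The number of complement vectors of value `c`. -/
noncomputable def valCard (H : HermSpace F V) (e f : V) (c : F) : ℕ :=
  {a : perp2 H e f | H.h a.1 a.1 = c}.ncard

omit [FiniteDimensional F V] hQ hp in
/-- Comparison of the class sizes. -/
theorem class_ineq {q m : ℕ} (hq : 2 ≤ q) (hm : 3 ≤ m) {A I : ℤ}
    (hA : (q : ℤ) * A = (q : ℤ) ^ (2 * m) - (-(q : ℤ)) ^ m)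
    (hI : (q : ℤ) * (I + 1) = (q : ℤ) ^ (2 * m) + (-(q : ℤ)) ^ m * ((q : ℤ) - 1))
    (hA0 : 0 ≤ A) (hI0 : 0 ≤ I) :
    I ≤ ((q : ℤ) ^ 2 - 1) * A ∧ (q : ℤ) ^ 2 * I ≤ 2 * ((q : ℤ) ^ 2 - 1) * A := by
  have hq' : (2 : ℤ) ≤ q := by omega
  have hP3 : (q : ℤ) ^ 3 ≤ (q : ℤ) ^ m := pow_le_pow_right₀ (by omega) hm
  rw [two_mul, pow_add] at hA hI
  have hP0 : 0 ≤ (q : ℤ) ^ m := by positivity
  have hsg : -(q : ℤ) ^ m ≤ (-(q : ℤ)) ^ m ∧ (-(q : ℤ)) ^ m ≤ (q : ℤ) ^ m := by
    rcases Nat.even_or_odd m with he | ho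
    · rw [he.neg_pow]; omega
    · rw [ho.neg_pow]; omega
  generalize (q : ℤ) ^ m = P at *
  generalize (-(q : ℤ)) ^ m = s at *
  have h1 : s * ((q : ℤ) - 1) ≤ P * ((q : ℤ) - 1) := mul_le_mul_of_nonneg_right hsg.2 (by linarith)
  have h2 : (q : ℤ) * I ≤ P * P + P * q := by nlinarith
  have h3 : P * P - P ≤ (q : ℤ) * A := by linarith
  have h4 : (q : ℤ) ^ 2 * (P * P + P * q) ≤ 2 * ((q : ℤ) ^ 2 - 1) * (P * P - P) := by
    have h5 : (q : ℤ) ^ 3 + 2 * (q : ℤ) ^ 2 - 2 ≤ ((q : ℤ) ^ 2 - 2) * P := by
      have h6 : ((q : ℤ) ^ 2 - 2) * (q : ℤ) ^ 3 ≤ ((q : ℤ) ^ 2 - 2) * P :=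
        mul_le_mul_of_nonneg_left hP3 (by nlinarith)
      have h7 : 0 ≤ (q : ℤ) ^ 2 * (((q : ℤ) - 2) * (((q : ℤ) ^ 2 + 2 * q + 1))) :=
        mul_nonneg (sq_nonneg _) (mul_nonneg (by linarith) (by nlinarith))
      nlinarith
    nlinarith [mul_le_mul_of_nonneg_left h5 hP0]
  have hb : (q : ℤ) ^ 2 * I ≤ 2 * ((q : ℤ) ^ 2 - 1) * A := by
    refine le_of_mul_le_mul_left ?_ (show (0 : ℤ) < q by linarith)
    have h8 : (q : ℤ) ^ 2 * ((q : ℤ) * I) ≤ (q : ℤ) ^ 2 * (P * P + P * q) :=
      mul_le_mul_of_nonneg_left h2 (sq_nonneg _)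
    have h9 : 2 * ((q : ℤ) ^ 2 - 1) * (P * P - P) ≤ 2 * ((q : ℤ) ^ 2 - 1) * ((q : ℤ) * A) :=
      mul_le_mul_of_nonneg_left h3 (by nlinarith)
    linarith
  refine ⟨le_of_mul_le_mul_left ?_ (show (0 : ℤ) < (q : ℤ) ^ 2 by positivity), hb⟩
  have h10 : (4 : ℤ) ≤ (q : ℤ) ^ 2 := by nlinarith
  nlinarith [mul_nonneg (show (0 : ℤ) ≤ (q : ℤ) ^ 2 - 2 by linarith)
    (mul_nonneg (show (0 : ℤ) ≤ (q : ℤ) ^ 2 - 1 by linarith) hA0)]

include hQ hp

theorem card_perp2' : Nat.card (perp2 H e f) = q ^ (2 * finrank F (perp2 H e f)) := by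
  haveI : Finite V := Module.finite_of_finite F
  rw [Module.natCard_eq_pow_finrank (K := F), Nat.card_eq_fintype_card, hQ.card, ← pow_mul]

theorem valCard_mul {c : F} (hc : H.conj c = c) (hc0 : c ≠ 0) :
    (q : ℤ) * valCard H e f c = (q : ℤ) ^ (2 * finrank F (perp2 H e f))
      - (-(q : ℤ)) ^ finrank F (perp2 H e f) := by
  rw [← card_value_one_mul (IsQ.res hp.out hQ) (c := c) hc hc0, valCard, ← Nat.card_coe_set_eq]
  rfl

theorem isoCard_mul :
    (q : ℤ) * ((isoCard H e f : ℤ) + 1) = (q : ℤ) ^ (2 * finrank F (perp2 H e f))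
      + (-(q : ℤ)) ^ finrank F (perp2 H e f) * ((q : ℤ) - 1) := by
  rw [← card_iso_mul (IsQ.res hp.out hQ), isoCard, ← Nat.card_coe_set_eq]
  rfl

theorem natCard_submodule (K : Submodule F (perp2 H e f)) :
    Nat.card K = q ^ (2 * finrank F K) := by
  haveI : Finite V := Module.finite_of_finite F
  rw [Module.natCard_eq_pow_finrank (K := F), Nat.card_eq_fintype_card, hQ.card, ← pow_mul]

omit hQ in
/-- A subgroup with all non-zero values equal has at most four elements. -/
theorem card_le_four_of_level {S : AddSubgroup (perp2 H e f)} {c : F} (hc : c ≠ 0)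
    (h : ∀ a ∈ S, a ≠ 0 → H.h a.1 a.1 = c) : Nat.card S ≤ 4 := by
  classical
  haveI : Finite V := Module.finite_of_finite F
  have : Fintype S := Fintype.ofFinite _
  by_contra hlt
  push Not at hlt
  rw [Nat.card_eq_fintype_card] at hlt
  have pick : ∀ s : Finset S, s.card ≤ 4 → ∃ x : S, x ∉ s := fun s hs => by
    by_contra hall
    push Not at hall
    have : Fintype.card S ≤ 4 :=
      le_trans (by rw [← Finset.card_univ]; exact Finset.card_le_card fun x _ => hall x) hs
    omega
  obtain ⟨a, ha⟩ := pick {0} (by simp)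
  obtain ⟨b, hb⟩ := pick {0, -a} (le_trans Finset.card_le_two (by omega))
  obtain ⟨d, hd⟩ := pick {0, -a, -b, -a - b} (le_trans Finset.card_le_four le_rfl)
  simp only [Finset.mem_insert, Finset.mem_singleton, not_or] at ha hb hd
  have T : ∀ x : S, x ≠ 0 → x ≠ -a → H.h a.1.1 x.1.1 + H.h x.1.1 a.1.1 = -c := by
    intro x hx hxa
    have h1 := h _ (a + x).2 fun h0 => hxa (eq_neg_of_add_eq_zero_right (Subtype.ext h0))
    have h2 := h _ a.2 fun h0 => ha (Subtype.ext h0)
    have h3 := h _ x.2 fun h0 => hx (Subtype.ext h0)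
    rw [AddSubgroup.coe_add, Submodule.coe_add, H.add_left, H.add_right, H.add_right] at h1
    linear_combination h1 - h2 - h3
  have h1 := T b hb.1 hb.2
  have h2 := T d hd.1 hd.2.1
  have h3 := T (b + d) (fun h0 => hd.2.2.1 (eq_neg_of_add_eq_zero_right h0))
    (fun h0 => hd.2.2.2 (by rw [← h0]; abel))
  rw [AddSubgroup.coe_add, Submodule.coe_add, H.add_left, H.add_right] at h3
  exact hc (by linear_combination h1 + h2 - h3)

omit hQ in
theorem exists_lz_root {u w : perp2 H e f} {l : F} (c : RootCond H u.1 w.1 l) :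
    ∃ k : Lz H e f, ∀ y : perp2 H e f,
      ((k • y : perp2 H e f) : V) = y.1 + H.h y.1 u.1 • w.1 + (-(H.h y.1 w.1) + l * H.h y.1 u.1) • u.1 := by
  obtain ⟨k, -, hk⟩ := exists_lz (e := e) (f := f) (g := rootG H u.1 w.1 l)
    (by rw [rootG_apply c, H.h_comm_zero (mem_perp2.1 u.2).1, H.h_comm_zero (mem_perp2.1 w.2).1]; simp)
    (by rw [rootG_apply c, H.h_comm_zero (mem_perp2.1 u.2).2, H.h_comm_zero (mem_perp2.1 w.2).2]; simp)
  exact ⟨k, fun y => by rw [hk y, rootG_apply c]⟩

/-- The images of `b` under Levi elements fixing the isotropic vector `a` are many. -/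
theorem card_orbit_fixing (hm : 4 ≤ finrank F (perp2 H e f)) {a b : perp2 H e f} (ha : a ≠ 0)
    (haa : H.h a.1 a.1 = 0) (hbb : H.h b.1 b.1 = 0) (hb : ∀ c : F, c • a ≠ b) :
    q ^ 2 * ((q - 1) * q + 1) ≤
      {x : perp2 H e f | ∃ k : Lz H e f, k • a = a ∧ k • b = x}.ncard := by
  classical
  have hq := hQ.two_le
  haveI : Finite V := Module.finite_of_finite F
  rw [← Nat.card_coe_set_eq]
  by_cases hba : H.h b.1 a.1 = 0
  · have hab : H.h a.1 b.1 = 0 := H.h_comm_zero hba
    have hb0 : b ≠ 0 := fun h => hb 0 (by rw [h, zero_smul])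
    have hind : ∀ c : F, c • a ≠ b := hb
    obtain ⟨x, hxb, hxa⟩ := (res hp.out).exists_h_pair (u := b) (w := a) ha hind 1 0
    change H.h x.1 b.1 = 1 at hxb
    change H.h x.1 a.1 = 0 at hxa
    obtain ⟨t, ht⟩ := H.exists_trace (c := -H.h x.1 x.1) (by rw [map_neg, H.conj_diag])
    set b' : perp2 H e f := x + t • b with hb'
    have h1 : H.h b'.1 b.1 = 1 := by
      rw [hb', Submodule.coe_add, Submodule.coe_smul, H.add_left, H.smul_left, hxb, hbb]; ring
    have h1' : H.h b.1 b'.1 = 1 := H.h_comm_one h1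
    have h2 : H.h b'.1 a.1 = 0 := by
      rw [hb', Submodule.coe_add, Submodule.coe_smul, H.add_left, H.smul_left, hxa, hba]; ring
    have h2' : H.h a.1 b'.1 = 0 := H.h_comm_zero h2
    have h3 : H.h b'.1 b'.1 = 0 := by
      rw [hb', Submodule.coe_add, Submodule.coe_smul, H.add_left, H.add_right, H.add_right,
        H.smul_left, H.smul_left, H.smul_right, H.smul_right, hxb, H.h_comm_one hxb, hbb]
      linear_combination ht
    let O := {x : perp2 H e f | ∃ k : Lz H e f, k • a = a ∧ k • b = x}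
    -- the translations
    have trans : ∀ (z w : perp2 H e f), H.h w.1 a.1 = 0 → H.h w.1 w.1 = 0 → H.h z.1 a.1 = 0 →
        z ∈ O → z + (-(H.h z.1 w.1)) • a ∈ O := by
      rintro z w hwa hww hza ⟨k, hka, hkb⟩
      obtain ⟨r, hr⟩ := exists_lz_root (u := a) (w := w) (l := 0)
        ⟨haa, hwa, by rw [hww, map_zero]; ring⟩
      refine ⟨r * k, ?_, ?_⟩
      · rw [mul_smul, hka]
        refine Subtype.ext ?_
        rw [hr, haa, H.h_comm_zero hwa]; simp
      · rw [mul_smul, hkb]
        refine Subtype.ext ?_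
        rw [hr, hza, Submodule.coe_add, Submodule.coe_smul]; simp
    let Y := {c : F // c ∈ skew H ∧ c ≠ 0} × skew H
    let z : Option Y → perp2 H e f := fun o =>
      o.elim b fun y => (1 + y.2.1 * y.1.1) • b + y.1.1 • b'
    have hzO : ∀ o, z o ∈ O ∧ H.h (z o).1 a.1 = 0 := by
      rintro (_ | ⟨⟨c, hc, hc0⟩, c', hc'⟩)
      · exact ⟨⟨1, one_smul _ _, one_smul _ _⟩, hba⟩
      · have hz : H.h ((1 + c' * c) • b + c • b' : perp2 H e f).1 a.1 = 0 := by
          rw [Submodule.coe_add, Submodule.coe_smul, Submodule.coe_smul, H.add_left, H.smul_left,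
            H.smul_left, hba, h2]; ring
        refine ⟨?_, hz⟩
        obtain ⟨r₁, hr₁⟩ := exists_lz_root (u := b') (w := 0) (l := c)
          (rootCond_skew h3 hc)
        obtain ⟨r₂, hr₂⟩ := exists_lz_root (u := b) (w := 0) (l := c')
          (rootCond_skew hbb hc')
        refine ⟨r₂ * r₁, ?_, ?_⟩
        · rw [mul_smul]
          have e1 : r₁ • a = a := Subtype.ext (by rw [hr₁, h2', Submodule.coe_zero, H.zero_right]; simp)
          rw [e1]
          exact Subtype.ext (by rw [hr₂, hab, Submodule.coe_zero, H.zero_right]; simp)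
        · refine Subtype.ext ?_
          rw [mul_smul, hr₂, hr₁]
          simp only [z, Option.elim_some, Submodule.coe_zero, H.zero_right, Submodule.coe_add,
            Submodule.coe_smul, smul_zero, add_zero, neg_zero, zero_add, h1', mul_one, H.add_left,
            H.smul_left, hbb, h1]
          module
    let wv : Option Y → F → perp2 H e f := fun o r =>
      o.elim (H.conj (-r) • b') fun y => H.conj (-(r / y.1.1)) • b
    have hw : ∀ o r, H.h (wv o r).1 a.1 = 0 ∧ H.h (wv o r).1 (wv o r).1 = 0 ∧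
        -(H.h (z o).1 (wv o r).1) = r := by
      rintro (_ | ⟨⟨c, hc, hc0⟩, c', hc'⟩) r <;>
        simp only [wv, z, Option.elim_none, Option.elim_some, Submodule.coe_add, Submodule.coe_smul,
          H.smul_left, H.smul_right, H.add_left, h1, h1', h2, hba, hbb, h3, H.conj_conj]
      · refine ⟨by ring, by ring, by ring⟩
      · refine ⟨by ring, by ring, ?_⟩
        field_simp
        ring
    refine le_trans ?_ (Nat.card_le_card_of_injective
      (fun y : F × Option Y => (⟨z y.2 + y.1 • a, ?_⟩ : O)) ?_)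
    · rw [Nat.card_prod, Nat.card_eq_fintype_card (α := F), hQ.card, Finite.card_option, Nat.card_prod,
        card_skew hQ]
      refine Nat.mul_le_mul_left _ (add_le_add (Nat.mul_le_mul_right _ ?_) le_rfl)
      have e : Option {c : F // c ∈ skew H ∧ c ≠ 0} ≃ skew H :=
        { toFun := fun o => o.elim 0 fun m => ⟨m.1, m.2.1⟩
          invFun := fun m => if h : m.1 = 0 then none else some ⟨m.1, m.2, h⟩
          left_inv := fun o => by
            cases o with
            | none => simp
            | some m => simp [m.2.2]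
          right_inv := fun m => by
            by_cases h : m.1 = 0
            · simp only [h, dite_true, Option.elim_none]; exact Subtype.ext h.symm
            · simp [h] }
      rw [← card_skew hQ, ← Nat.card_congr e, Finite.card_option, Nat.add_sub_cancel]
    · obtain ⟨hwa, hww, hwr⟩ := hw y.2 y.1
      have := trans (z y.2) (wv y.2 y.1) hwa hww (hzO y.2).2 (hzO y.2).1
      rwa [hwr] at this
    · rintro ⟨r, o⟩ ⟨r', o'⟩ h
      have h0 : z o + r • a = z o' + r' • a := congrArg Subtype.val h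
      have hb1 := congrArg (fun v : perp2 H e f => H.h v.1 b.1) h0
      have hb2 := congrArg (fun v : perp2 H e f => H.h v.1 b'.1) h0
      have hoo : o = o' := by
        rcases o with _ | ⟨⟨c, hc, hc0⟩, c', hc'⟩ <;> rcases o' with _ | ⟨⟨d, hd, hd0⟩, d', hd'⟩ <;>
          simp only [z, Option.elim_none, Option.elim_some, Submodule.coe_add, Submodule.coe_smul,
            H.add_left, H.smul_left, hbb, hab, h1, h1', h2', h3, mul_zero, mul_one, zero_add,
            add_zero] at hb1 hb2
        · rfl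
        · exact absurd hb1.symm hd0
        · exact absurd hb1 hc0
        · subst hb1
          have : c' = d' := mul_right_cancel₀ hc0 (add_left_cancel hb2)
          subst this
          rfl
      subst hoo
      exact Prod.ext (smul_left_injective F ha (add_left_cancel h0)) rfl
  · have hab : H.h a.1 b.1 ≠ 0 := fun h => hba (H.h_comm_zero h)
    let L : perp2 H e f →ₗ[F] F × F := ((res hp.out).form a).prod ((res hp.out).form b)
    have hfr : 2 ≤ finrank F (LinearMap.ker L) := by
      have e1 := LinearMap.finrank_range_add_finrank_ker L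
      have e2 := Submodule.finrank_le (LinearMap.range L)
      rw [Module.finrank_prod, finrank_self] at e2
      omega
    have hcard : q ^ 4 ≤ Nat.card (LinearMap.ker L) := by
      rw [natCard_submodule hQ]
      exact Nat.pow_le_pow_right (by omega) (by omega)
    refine le_trans (le_trans ?_ hcard) (Nat.card_le_card_of_injective
      (fun w : LinearMap.ker L => (⟨b + H.h b.1 a.1 • w.1 +
        (Classical.choose (H.exists_trace (c := -H.h w.1.1 w.1.1) (by rw [map_neg, H.conj_diag])) *
          H.h b.1 a.1) • a, ?_⟩ : {x : perp2 H e f | ∃ k : Lz H e f, k • a = a ∧ k • b = x})) ?_)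
    · rw [show q ^ 4 = q ^ 2 * q ^ 2 by ring]
      refine Nat.mul_le_mul_left _ ?_
      obtain ⟨j, rfl⟩ : ∃ j, q = j + 1 := ⟨q - 1, by omega⟩
      rw [Nat.add_sub_cancel]
      nlinarith
    · obtain ⟨hwa, hwb⟩ : H.h w.1.1 a.1 = 0 ∧ H.h w.1.1 b.1 = 0 := by
        have := w.2
        rw [LinearMap.mem_ker] at this
        exact ⟨congrArg Prod.fst this, congrArg Prod.snd this⟩
      set l := Classical.choose (H.exists_trace (c := -H.h w.1.1 w.1.1) (by rw [map_neg, H.conj_diag]))
        with hl
      have hl' := Classical.choose_spec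
        (H.exists_trace (c := -H.h w.1.1 w.1.1) (by rw [map_neg, H.conj_diag]))
      rw [← hl] at hl'
      obtain ⟨r, hr⟩ := exists_lz_root (u := a) (w := w.1) (l := l)
        ⟨haa, hwa, by linear_combination hl'⟩
      refine ⟨r, Subtype.ext ?_, Subtype.ext ?_⟩
      · rw [hr, haa, H.h_comm_zero hwa]; simp
      · rw [hr, H.h_comm_zero hwb]; simp
    · intro w w' h
      have hwb : ∀ w : LinearMap.ker L, H.h w.1.1 b.1 = 0 := fun w => by
        have := w.2
        rw [LinearMap.mem_ker] at this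
        exact congrArg Prod.snd this
      have h0 := congrArg Subtype.val h
      simp only at h0
      have h1 := congrArg (fun v : perp2 H e f => H.h v.1 b.1) h0
      simp only [Submodule.coe_add, Submodule.coe_smul, H.add_left, H.smul_left, hwb, hbb, mul_zero,
        zero_add] at h1
      rw [mul_right_cancel₀ hab h1, add_left_inj, add_right_inj] at h0
      exact Subtype.ext (smul_right_injective _ hba h0)

/-- The dichotomy for translates of a large subgroup. -/
theorem translates_bound (hd : 5 ≤ finrank F V) {S : AddSubgroup (perp2 H e f)}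
    (hS : q ^ 2 ≤ Nat.card S) :
    q ^ 2 * isoCard H e f ≤ Nat.card (MulAction.orbit (Lz H e f) S) * Nat.card S * (q ^ 2 - 1) ∨
      (q = 2 ∧ 4 * valCard H e f 1 ≤ 3 * (Nat.card (MulAction.orbit (Lz H e f) S) * Nat.card S)) ∨
      ((∀ a ∈ S, H.h a.1 a.1 = 0) ∧ q ^ 2 < Nat.card S ∧
        (4 ≤ finrank F (perp2 H e f) → q ^ 4 ≤ Nat.card S)) := by
  classical
  have hq := hQ.two_le
  haveI : Finite V := Module.finite_of_finite F
  have hfd := finrank_perp2 hp.out
  set m := finrank F (perp2 H e f) with hm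
  set t := Nat.card (MulAction.orbit (Lz H e f) S)
  set s := Nat.card S
  have hq2 : 1 ≤ q ^ 2 := Nat.one_le_pow _ _ (by omega)
  by_cases hall : ∀ a ∈ S, H.h a.1 a.1 = 0
  · rcases Nat.lt_or_ge (q ^ 2) s with hlt | hle
    · by_cases hm4 : 4 ≤ m ∧ s < q ^ 4
      · left
        obtain ⟨hm4, hs4⟩ := hm4
        obtain ⟨a, haS, ha⟩ : ∃ a ∈ S, a ≠ 0 := by
          by_contra hcon
          push Not at hcon
          have : S = ⊥ := (AddSubgroup.eq_bot_iff_forall _).2 hcon
          rw [show s = Nat.card S from rfl, this, AddSubgroup.card_bot] at hlt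
          omega
        obtain ⟨b, hbS, hb⟩ : ∃ b ∈ S, ∀ c : F, c • a ≠ b := by
          by_contra hcon
          push Not at hcon
          have hle : s ≤ Nat.card F := by
            choose c hc using fun b : S => hcon b.1 b.2
            exact Nat.card_le_card_of_injective c fun x y hxy => Subtype.ext (by rw [← hc x, ← hc y, hxy])
          rw [Nat.card_eq_fintype_card, hQ.card] at hle
          omega
        have horb := card_orbit_fixing hQ hm4 ha (hall a haS) (hall b hbS) hb
        set O := {x : perp2 H e f | ∃ k : Lz H e f, k • a = a ∧ k • b = x}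
        choose k hk using fun c : {c : perp2 H e f | c ≠ 0 ∧ H.h c.1 c.1 = 0} =>
          exists_lz_iso hd ha c.2.1 (hall a haS) c.2.2
        let C : Set (perp2 H e f × perp2 H e f) := Set.range fun g : Lz H e f => (g • a, g • b)
        have hC := card_cover_pairs S C (by
          rintro _ ⟨g, rfl⟩
          exact ⟨g, AddSubgroup.smul_mem_pointwise_smul _ g S haS,
            AddSubgroup.smul_mem_pointwise_smul _ g S hbS⟩)
        have hIC : isoCard H e f * O.ncard ≤ C.ncard := by
          rw [isoCard, ← Nat.card_coe_set_eq, ← Nat.card_coe_set_eq, ← Nat.card_coe_set_eq,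
            ← Nat.card_prod]
          refine Nat.card_le_card_of_injective (fun z => (⟨(z.1.1, k z.1 • z.2.1), ?_⟩ : C))
            fun z z' h => ?_
          · obtain ⟨g, hga, hgb⟩ := z.2.2
            exact ⟨k z.1 * g, by simp only [mul_smul, hga, hgb, hk]⟩
          · have h0 := congrArg Subtype.val h
            have h1 : z.1 = z'.1 := Subtype.ext (congrArg Prod.fst h0)
            have h2 := congrArg Prod.snd h0
            simp only [h1, smul_left_cancel_iff] at h2
            exact Prod.ext h1 (Subtype.ext h2)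
        have hmain : isoCard H e f * (q ^ 2 * ((q - 1) * q + 1)) ≤ t * (s * s) :=
          le_trans (Nat.mul_le_mul_left _ horb) (le_trans hIC hC)
        have hs2 : 2 * s ≤ q ^ 4 := by
          obtain ⟨p, j, hpp, -, hqp⟩ := exists_charP_pow hQ.card
          have hdvd : s ∣ p ^ (j * (2 * m)) := by
            rw [pow_mul, ← hqp, ← card_perp2' hQ (e := e) (f := f)]
            exact AddSubgroup.card_addSubgroup_dvd_card S
          obtain ⟨i, -, hi⟩ := (Nat.dvd_prime_pow hpp).1 hdvd
          rw [hqp, ← pow_mul, hi] at hs4 ⊢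
          have hlt4 := (Nat.pow_lt_pow_iff_right hpp.one_lt).1 hs4
          calc 2 * p ^ i ≤ p * p ^ i := Nat.mul_le_mul_right _ hpp.two_le
            _ = p ^ (i + 1) := by rw [pow_succ, mul_comm]
            _ ≤ p ^ (j * 4) := Nat.pow_le_pow_right hpp.pos hlt4
        have hkey : s ≤ ((q - 1) * q + 1) * (q ^ 2 - 1) := by
          obtain ⟨j, rfl⟩ : ∃ j, q = j + 2 := ⟨q - 2, by omega⟩
          rw [show j + 2 - 1 = j + 1 from rfl,
            show (j + 2) ^ 2 - 1 = j ^ 2 + 4 * j + 3 by ring_nf; omega]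
          nlinarith
        refine Nat.le_of_mul_le_mul_left ?_ (show 0 < s by omega)
        calc s * (q ^ 2 * isoCard H e f)
            ≤ ((q - 1) * q + 1) * (q ^ 2 - 1) * (q ^ 2 * isoCard H e f) :=
              Nat.mul_le_mul_right _ hkey
          _ = isoCard H e f * (q ^ 2 * ((q - 1) * q + 1)) * (q ^ 2 - 1) := by ring
          _ ≤ t * (s * s) * (q ^ 2 - 1) := Nat.mul_le_mul_right _ hmain
          _ = s * (t * s * (q ^ 2 - 1)) := by ring
      · right; right
        exact ⟨hall, hlt, fun h4 => not_lt.1 fun h => hm4 ⟨h4, h⟩⟩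
    · left
      have hs : s = q ^ 2 := le_antisymm hle hS
      obtain ⟨a, haS, ha⟩ : ∃ a ∈ S, a ≠ 0 := by
        by_contra hcon
        push Not at hcon
        have : S = ⊥ := (AddSubgroup.eq_bot_iff_forall _).2 hcon
        rw [show s = Nat.card S from rfl, this, AddSubgroup.card_bot] at hs
        nlinarith
      have hI : isoCard H e f ≤ t * (s - 1) := card_cover S _ fun c hc => ⟨hc.1, by
        obtain ⟨g, hg⟩ := exists_lz_iso hd ha hc.1 (hall a haS) hc.2
        exact ⟨g, hg ▸ AddSubgroup.smul_mem_pointwise_smul _ g S haS⟩⟩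
      rw [hs] at hI ⊢
      calc q ^ 2 * isoCard H e f ≤ q ^ 2 * (t * (q ^ 2 - 1)) := Nat.mul_le_mul_left _ hI
        _ = t * q ^ 2 * (q ^ 2 - 1) := by ring
  · push Not at hall
    obtain ⟨a, haS, ha⟩ := hall
    have ha0 : a ≠ 0 := fun h => ha (by rw [h, Submodule.coe_zero, H.zero_left])
    set c := H.h a.1 a.1 with hc
    have hcc : H.conj c = c := H.conj_diag _
    have hA := valCard_mul hQ (e := e) (f := f) hcc ha
    have hIq := isoCard_mul hQ (e := e) (f := f)
    rw [← hm] at hA hIq
    have hcovA : ∀ x : perp2 H e f, H.h x.1 x.1 = c → x ≠ 0 ∧ ∃ g : Lz H e f, x ∈ g • S := by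
      intro x hx
      refine ⟨fun h => ha (by rw [← hx, h, Submodule.coe_zero, H.zero_left]), ?_⟩
      obtain ⟨g, hg⟩ := exists_lz_value (by omega) ha hx.symm
      exact ⟨g, hg ▸ AddSubgroup.smul_mem_pointwise_smul _ g S haS⟩
    by_cases hlev : ∀ b ∈ S, b ≠ 0 → H.h b.1 b.1 = c
    · right; left
      have h4 := card_le_four_of_level ha hlev
      have hq2' : q = 2 := by nlinarith
      refine ⟨hq2', ?_⟩
      have hs : s = 4 := le_antisymm h4 (by rw [hq2'] at hS; exact hS)
      have hc1 : c = 1 := by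
        have h1 : (Units.mk0 c ha) ^ (q - 1) = 1 :=
          (qPow_fixed_unit_iff hQ.card _).1 (by rw [Units.val_mk0, ← hQ.conj_eq]; exact hcc)
        rw [hq2', pow_one] at h1
        simpa using congrArg Units.val h1
      have hA' : valCard H e f 1 ≤ t * (s - 1) :=
        card_cover S _ fun x hx => hcovA x (by rw [hc1]; exact hx)
      rw [hs] at hA' ⊢
      omega
    · left
      push Not at hlev
      obtain ⟨b, hbS, hb0, hb⟩ := hlev
      have hcov : valCard H e f c + (if H.h b.1 b.1 = 0 then isoCard H e f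
          else valCard H e f (H.h b.1 b.1)) ≤ t * (s - 1) := by
        set C' : Set (perp2 H e f) := if H.h b.1 b.1 = 0 then {x | x ≠ 0 ∧ H.h x.1 x.1 = 0}
          else {x | H.h x.1 x.1 = H.h b.1 b.1} with hC'
        have hC'card : C'.ncard = (if H.h b.1 b.1 = 0 then isoCard H e f
            else valCard H e f (H.h b.1 b.1)) := by rw [hC']; split <;> rfl
        have hdis : Disjoint {x : perp2 H e f | H.h x.1 x.1 = c} C' := by
          refine Set.disjoint_left.2 fun x hx hx' => ?_
          have hx1 : H.h x.1 x.1 = c := hx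
          rw [hC'] at hx'
          split at hx'
          · exact ha (hx1.symm.trans hx'.2)
          · exact hb ((show H.h x.1 x.1 = H.h b.1 b.1 from hx').symm.trans hx1)
        rw [← hC'card, valCard, ← Set.ncard_union_eq hdis (Set.toFinite _) (Set.toFinite _)]
        refine card_cover S _ ?_
        rintro x (hx | hx)
        · exact hcovA x hx
        · rw [hC'] at hx
          split at hx
          · rename_i hb'
            obtain ⟨g, hg⟩ := exists_lz_iso hd hb0 hx.1 hb' hx.2
            exact ⟨hx.1, g, hg ▸ AddSubgroup.smul_mem_pointwise_smul _ g S hbS⟩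
          · rename_i hb'
            have hx1 : H.h x.1 x.1 = H.h b.1 b.1 := hx
            refine ⟨fun h => hb' (by rw [← hx1, h, Submodule.coe_zero, H.zero_left]), ?_⟩
            obtain ⟨g, hg⟩ := exists_lz_value (by omega) hb' hx1.symm
            exact ⟨g, hg ▸ AddSubgroup.smul_mem_pointwise_smul _ g S hbS⟩
      have hts : t * (s - 1) ≤ t * s := Nat.mul_le_mul_left _ (Nat.sub_le _ _)
      have hB : ((q ^ 2 * isoCard H e f : ℕ) : ℤ) ≤
          (((valCard H e f c + (if H.h b.1 b.1 = 0 then isoCard H e f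
            else valCard H e f (H.h b.1 b.1))) * (q ^ 2 - 1) : ℕ) : ℤ) := by
        have hkey := class_ineq hq (by omega : 3 ≤ m) hA hIq (Int.natCast_nonneg _)
          (Int.natCast_nonneg _)
        push_cast [Nat.cast_sub hq2]
        split
        · nlinarith [hkey.1]
        · rename_i hb'
          have hA2 := valCard_mul hQ (e := e) (f := f) (c := H.h b.1 b.1) (H.conj_diag _) hb'
          rw [← hm, ← hA] at hA2
          rw [mul_left_cancel₀ (show (q : ℤ) ≠ 0 by omega) hA2]
          linarith [hkey.2]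
      calc q ^ 2 * isoCard H e f ≤ _ := by exact_mod_cast hB
        _ ≤ t * (s - 1) * (q ^ 2 - 1) := Nat.mul_le_mul_right _ hcov
        _ ≤ t * s * (q ^ 2 - 1) := Nat.mul_le_mul_right _ hts

end CfsgLib.MinIndexPSU
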