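import Cfsg.Agent.Lib.MinIndexPSU.LineImage
import Cfsg.Agent.Lib.MinIndexPSU.AltSevenSub

/-!
The transvections in a subgroup of small index: at most one or two at each isotropic point.
-/

set_option autoImplicit false

namespace CfsgLib.MinIndexPSU

open Module CfsgLib.Classical.Herm CfsgLib.Classical.Herm.HermSpace CfsgLib.PSL2Sub
open Matrix (ProjGenLinGroup)
open scoped OnePoint MatrixGroups

theorem card_pow_three_alt_five :
    (Finset.univ.filter fun x : alternatingGroup (Fin 5) => x ^ 3 = 1).card ≤ 21 := by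
  decide +kernel

variable {F V : Type*} [Field F] [AddCommGroup V] [Module F V] [FiniteDimensional F V]
  {H : HermSpace F V}

theorem root_zero_pow {u : V} {l : F} (m : ℕ) (c : RootCond H u 0 l)
    (c' : RootCond H u 0 (m * l)) : root H u 0 l c ^ m = root H u 0 (m * l) c' := by
  induction m with
  | zero =>
    refine unit_ext fun x => ?_
    simp [root_apply, H.zero_right]
  | succ m ih =>
    have cm : RootCond H u 0 ((m : F) * l) := by
      refine ⟨c.1, c.2.1, ?_⟩
      have h3 := c.2.2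
      rw [H.zero_left] at h3 ⊢
      rw [map_mul, map_natCast]
      linear_combination (m : F) * h3
    rw [pow_succ, ih cm, root_mul]
    exact root_congr _ _ rfl (add_zero _) (by rw [H.zero_left]; push_cast; ring)

variable [Fintype F] [DecidableEq F] (hd : finrank F V = 3) {q : ℕ}
  (hF : Fintype.card F = q ^ 2) (hc : ∀ a, H.conj a = a ^ q)
  {p : ℕ} [hp : Fact p.Prime] [CharP F p]
  (M : Subgroup (Unit' H)) (hM : M ≤ (detHom H).ker)
  (hn : M.relIndex (detHom H).ker ≤ q ^ 3)
include hd hF hc hM hn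

/-- The transvections in `M` at the points of the plane. -/
theorem exists_transvection_elt (Φ : Frame H) {l : F} (hl : l ∈ Φ.Z M) {P : OnePoint F}
    (hP : P ∈ Φ.isoPts) : ∃ g : Φ.LS, g.1 ∈ M ∧ Φ.toPG hd g ^ p = 1 ∧ Φ.toPG hd g • P = P ∧
      (l ≠ 0 → Φ.toPG hd g ≠ 1) := by
  obtain ⟨hlp, hmem⟩ := hl
  obtain ⟨c, hc0, htr⟩ := root_mem_transport hd hF hc M hM hn Φ.e_ne Φ.ee (Φ.pt_ne P) hP
  have cd : RootCond H Φ.e 0 l := by
    have := Φ.rootCond hlp
    rwa [zero_smul] at this
  obtain ⟨cd', hg⟩ := htr l cd (root_congr (Φ.rootCond hlp) cd rfl (zero_smul F _) rfl ▸ hmem)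
  set l' := c * H.conj c * l
  have hk : (root H (Φ.pt P) 0 l' cd').1 Φ.k = Φ.k := by
    rw [root_apply, H.h_comm_zero (Φ.pt_perp P), H.zero_right]
    module
  refine ⟨⟨_, hM hg, 1, by rw [one_smul]; exact hk⟩, hg, ?_, ?_, ?_⟩
  · have hp0 : RootCond H (Φ.pt P) 0 ((p : F) * l') := by
      rw [CharP.cast_eq_zero, zero_mul]
      exact ⟨cd'.1, cd'.2.1, by simp [H.zero_left]⟩
    rw [← map_pow]
    convert map_one (Φ.toPG hd)
    refine Subtype.ext ?_
    rw [Subgroup.coe_pow, root_zero_pow p cd' hp0]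
    refine unit_ext fun x => ?_
    simp [root_apply, H.zero_right, CharP.cast_eq_zero]
  · refine Φ.toPG_smul hd _ (c := 1) ?_
    show (root H (Φ.pt P) 0 l' cd').1 (Φ.pt P) = _
    rw [root_apply, show H.h (Φ.pt P) (Φ.pt P) = 0 from hP, H.zero_right]
    simp
  · intro hl0 h1
    obtain ⟨Q, hQ, hQP⟩ : ∃ Q ∈ Φ.isoPts, Q ≠ P := by
      by_cases h : P = ∞
      · exact ⟨((0 : F) : OnePoint F), Φ.coe_mem_isoPts.2 (zero_mem _),
          fun h' => OnePoint.coe_ne_infty (0 : F) (h'.trans h)⟩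
      · exact ⟨∞, Φ.infty_mem_isoPts, Ne.symm h⟩
    obtain ⟨d, hd0, hgQ⟩ := Φ.exists_smul_pt hd
      (⟨_, hM hg, 1, by rw [one_smul]; exact hk⟩ : Φ.LS) Q
    rw [h1, one_smul (PG F) Q] at hgQ
    change (root H (Φ.pt P) 0 l' cd').1 (Φ.pt Q) = _ at hgQ
    rw [root_apply, H.zero_right] at hgQ
    have hQPh : H.h (Φ.pt Q) (Φ.pt P) ≠ 0 := fun h => by
      obtain ⟨b, hb⟩ := eq_smul_of_isotropic hd (Φ.pt_ne P) hP hQ (H.h_comm_zero h)
      exact hQP (Φ.pt_inj hd hb)
    have hl' : l' ≠ 0 := mul_ne_zero (mul_ne_zero hc0 (H.conj_ne_zero hc0)) hl0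
    have h2 : (l' * H.h (Φ.pt Q) (Φ.pt P)) • Φ.pt P = (d - 1) • Φ.pt Q := by
      rw [sub_smul, one_smul, ← hgQ]
      module
    by_cases hd1 : d - 1 = 0
    · rw [hd1, zero_smul, smul_eq_zero] at h2
      exact h2.elim (mul_ne_zero hl' hQPh) (Φ.pt_ne P)
    · exact hQP (Φ.pt_inj hd (P := Q) (Q := P) (c := (d - 1)⁻¹ * (l' * H.h (Φ.pt Q) (Φ.pt P))) (by
        rw [← smul_smul, h2, inv_smul_smul₀ hd1]))

/-- A translation by `l` realised in `M` puts `l` in `Z`. -/
theorem mem_Z_of_fix_infty (Φ : Frame H) (g : Φ.LS) (hgM : g.1 ∈ M)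
    (hgp : Φ.toPG hd g ^ p = 1) (hg : Φ.toPG hd g • (∞ : OnePoint F) = ∞) :
    ∃ l ∈ Φ.Z M, ∀ y : F, Φ.toPG hd g • (y : OnePoint F) = ((y + l : F) : OnePoint F) := by
  obtain ⟨c, -, hge⟩ := Φ.exists_smul_pt hd g ∞
  rw [hg] at hge
  obtain ⟨a, l, hpar, t, -, hgeq⟩ := Φ.exists_uel_mul_tor hd g.2.1 (show g.1.1 Φ.e = c • Φ.e from hge)
  obtain ⟨b, hb⟩ := g.2.2
  have ha : a = 0 := by
    rw [hgeq, mul_apply, Φ.tor_k, map_smul, Φ.uel_apply_k hpar] at hb
    have := congrArg (fun z => H.h z Φ.f) hb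
    simpa [H.smul_left, Φ.h_vec_f, Φ.kf, H.conj_ne_zero] using this
  subst ha
  set N : F := (t : F) * H.conj t with hN
  have hact : ∀ y : F, Φ.toPG hd g • (y : OnePoint F) = ((N * y + l : F) : OnePoint F) := by
    intro y
    refine Φ.toPG_smul hd g (c := (H.conj t)⁻¹) ?_
    rw [hgeq, mul_apply, Φ.pt_coe, Φ.pt_coe]
    have h1 := H.conj_ne_zero t.ne_zero
    rw [show Φ.vec y 1 0 = y • Φ.e + Φ.f by simp [Frame.vec], map_add, map_smul, Φ.tor_e,
      Φ.tor_f, map_add, map_smul, map_smul, map_smul, Φ.uel_apply_e, Φ.uel_apply_f, hN]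
    simp only [Frame.vec, zero_smul, add_zero, smul_add, smul_smul]
    match_scalars <;> field_simp
  have hN1 : N = 1 := by
    by_contra hne
    have hne' : 1 - N ≠ 0 := sub_ne_zero.2 (Ne.symm hne)
    have hfix : Φ.toPG hd g • ((l / (1 - N) : F) : OnePoint F) = ((l / (1 - N) : F) : OnePoint F) := by
      rw [hact]
      congr 1
      field_simp
      ring
    by_cases h1 : Φ.toPG hd g = 1
    · have h2 := hact 1
      have h3 := hact 0
      rw [h1, one_smul, OnePoint.coe_eq_coe] at h2 h3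
      exact hne (by linear_combination h3 - h2)
    · exact OnePoint.coe_ne_infty _ (unique_fixed_of_pow_char p h1 hgp hg hfix)
  have htq : t ^ (q + 1) = 1 := Units.ext (by
    rw [Units.val_pow_eq_pow_val, Units.val_one, pow_succ', ← hc]
    exact hN1)
  have hcomm : Commute (Φ.uel 0 l hpar) (Φ.tor hd t) := by
    have := Φ.tor_conj hd t hpar
    rw [Φ.uel_congr (a' := 0) (l' := l) _ hpar (mul_zero _) (by rw [← hN, hN1, one_mul]),
      mul_inv_eq_iff_eq_mul] at this
    exact this.symm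
  have htor : ∀ m : ℕ, Φ.tor hd t ^ m = Φ.tor hd (t ^ m) := by
    intro m
    induction m with
    | zero => rw [pow_zero, pow_zero, Φ.tor_one hd]
    | succ m ih => rw [pow_succ, ih, Φ.tor_mul, pow_succ]
  have hq0 : (q : F) = 0 := by
    have h : (Fintype.card F : F) = 0 := FiniteField.cast_card_eq_zero F
    rw [hF, Nat.cast_pow] at h
    exact (pow_eq_zero_iff two_ne_zero).1 h
  have hcd : RootCond H Φ.e 0 l := by
    have := Φ.rootCond hpar
    rwa [zero_smul] at this
  have hcd' : RootCond H Φ.e 0 (((q + 1 : ℕ) : F) * l) := by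
    rw [Nat.cast_succ, hq0, zero_add, one_mul]; exact hcd
  have hmem := pow_mem hgM (q + 1)
  rw [hgeq, hcomm.mul_pow, htor, htq, Φ.tor_one hd, mul_one, Frame.uel,
    root_congr (Φ.rootCond hpar) hcd rfl (zero_smul F _) rfl, root_zero_pow _ hcd hcd'] at hmem
  refine ⟨l, ⟨hpar, ?_⟩, fun y => by rw [hact, hN1, one_mul]⟩
  rw [Frame.uel, root_congr (Φ.rootCond hpar) hcd' rfl (zero_smul F _)
    (by rw [Nat.cast_succ, hq0, zero_add, one_mul])]
  exact hmem

/-- The alternatives for the transvections. -/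
theorem Z_cases (Φ : Frame H) (hne : Φ.Z M ≠ skew H) (hZ : Φ.Z M ≠ ⊥) :
    (p = 2 ∧ Nat.card (Φ.Z M) = 2) ∨ (q = 9 ∧ Nat.card (Φ.Z M) = 3) := by
  classical
  have : Finite (PG F) := Finite.of_surjective _ ProjGenLinGroup.mk_surjective
  obtain ⟨p₁, f, hp', hf0, hqf, hchar⟩ := exists_prime_pow hF
  have hpp : p = p₁ := CharP.eq F ‹CharP F p› hchar
  rw [← hpp] at hp' hqf
  clear hchar hpp
  have hpq : p ∣ q := hqf ▸ dvd_pow_self p hf0.ne'
  have hpq1 : ¬ p ∣ q + 1 := fun h => hp'.one_lt.ne' (Nat.dvd_one.1 ((Nat.dvd_add_right hpq).1 h))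
  set L : Subgroup (PG F) := (M.subgroupOf Φ.LS).map (Φ.toPG hd) with hL
  have hmemL : ∀ g : Φ.LS, g.1 ∈ M → Φ.toPG hd g ∈ L := fun g hg => ⟨g, hg, rfl⟩
  have hLiso : ∀ h : L, (h : PG F) ^ p = 1 → ∃ P ∈ Φ.isoPts, h • P = P := by
    rintro ⟨_, g, hg, rfl⟩ hgp
    exact Φ.exists_fixed_isoPt hd hF hc g hp' hpq1 hgp
  obtain ⟨l₀, hl₀, hl₀0⟩ : ∃ l ∈ Φ.Z M, l ≠ 0 := by
    by_contra h
    push Not at h
    exact hZ (eq_bot_iff.2 fun a ha => AddSubgroup.mem_bot.2 (h a ha))
  have helt : ∀ P ∈ Φ.isoPts, ∃ h : L, h ≠ 1 ∧ (h : PG F) ^ p = 1 ∧ h • P = P := by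
    intro P hP
    obtain ⟨g, hgM, hgp, hgP, hg1⟩ := exists_transvection_elt hd hF hc (p := p) M hM hn Φ hl₀ hP
    exact ⟨⟨_, hmemL g hgM⟩, fun h => hg1 hl₀0 (congrArg Subtype.val h), hgp, hgP⟩
  choose elt helt1 helt2 helt3 using helt
  have hpdvd : p ∣ Nat.card L := by
    have h2 : (elt ∞ Φ.infty_mem_isoPts) ^ p = 1 :=
      Subtype.ext (by rw [Subgroup.coe_pow]; exact helt2 _ _)
    rw [← orderOf_eq_prime h2 (helt1 _ _)]
    exact orderOf_dvd_natCard _
  have huniq : ∀ (h : L) (P Q : OnePoint F), h ≠ 1 → (h : PG F) ^ p = 1 → h • P = P → h • Q = Q →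
      Q = P :=
    fun h P Q h1 h2 hP hQ => unique_fixed_of_pow_char p (fun e => h1 (Subtype.ext e)) h2 hP hQ
  rcases classify_finite p L with ⟨-, h⟩ | hD | hB | ⟨h, -⟩ | ⟨h, -⟩ | hA | hE
  · exact absurd hpdvd h
  · obtain ⟨A, hA2, -, hpA, -, -⟩ := hD
    have hout : ∀ h : L, h ^ p = 1 → h ≠ 1 → h ∉ A := fun h h1 h2 hm => by
      have := A.orderOf_dvd_natCard hm
      rw [orderOf_eq_prime h1 h2] at this
      exact hpA this
    have hmul : ∀ {a b : L}, a ∉ A → b ∉ A → a * b ∈ A := fun ha hb =>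
      (Subgroup.mul_mem_iff_of_index_two hA2).2 (by simp [ha, hb])
    have hp2 : p = 2 := by
      by_contra hne2
      set h := elt ∞ Φ.infty_mem_isoPts
      have h1 : h ^ p = 1 := Subtype.ext (by rw [Subgroup.coe_pow]; exact helt2 _ _)
      have h2 := hmul (hout h h1 (helt1 _ _)) (hout h h1 (helt1 _ _))
      obtain ⟨j, hj⟩ := hp'.odd_of_ne_two hne2
      have h3 : (h * h) ^ (j + 1) = h := by
        rw [← pow_two, ← pow_mul, show 2 * (j + 1) = p + 1 by omega, pow_succ, h1, one_mul]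
      exact hout h h1 (helt1 _ _) (h3 ▸ pow_mem h2 _)
    refine Or.inl ⟨hp2, ?_⟩
    subst hp2
    by_contra hne2
    obtain ⟨l, hl, hl0, hll⟩ : ∃ l ∈ Φ.Z M, l ≠ 0 ∧ l ≠ l₀ := by
      by_contra h
      push Not at h
      apply hne2
      rw [show Nat.card (Φ.Z M) = Nat.card ((Φ.Z M : Set F)) from rfl,
        show (Φ.Z M : Set F) = {0, l₀} from Set.ext fun x => ⟨fun hx => by
          by_cases h0 : x = 0
          · exact Or.inl h0
          · exact Or.inr (h x hx h0), ?_⟩, Nat.card_coe_set_eq, Set.ncard_pair (Ne.symm hl₀0)]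
      rintro (rfl | rfl)
      · exact zero_mem _
      · exact hl₀
    have hu : ∀ {l : F}, (hl : l ∈ Φ.Z M) → ∃ h : L, ∀ y : F,
        (h : PG F) • (y : OnePoint F) = ((y + l : F) : OnePoint F) ∧
        h • (∞ : OnePoint F) = ∞ ∧ (h : PG F) ^ 2 = 1 := by
      intro l hl
      obtain ⟨hlp, hm⟩ := hl
      refine ⟨⟨_, hmemL ⟨_, Φ.uel_zero_mem_LS hlp⟩ hm⟩, fun y => ⟨?_, ?_, ?_⟩⟩
      · refine Φ.toPG_smul hd _ (c := 1) ?_
        show (Φ.uel 0 l hlp).1 (Φ.pt _) = _
        rw [Φ.pt_coe, Φ.pt_coe, show Φ.vec y 1 0 = y • Φ.e + Φ.f by simp [Frame.vec], map_add,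
          map_smul, Φ.uel_apply_e, Φ.uel_apply_f]
        simp [Frame.vec, add_smul, add_assoc]
      · exact Φ.toPG_smul hd _ (P := ∞) (Q := ∞) (c := 1) (by
          show (Φ.uel 0 l hlp).1 Φ.e = (1 : F) • Φ.e
          rw [Φ.uel_apply_e, one_smul])
      · show Φ.toPG hd ⟨_, _⟩ ^ 2 = 1
        rw [← map_pow]
        convert map_one (Φ.toPG hd)
        refine Subtype.ext ?_
        rw [Subgroup.coe_pow, pow_two, Φ.uel_mul, Subgroup.coe_one, ← Φ.uel_zero]
        refine Φ.uel_congr _ _ (add_zero 0) ?_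
        have h2 : (2 : F) = 0 := CharP.cast_eq_zero F 2
        simp only [zero_mul, sub_zero]
        linear_combination l * h2
    obtain ⟨a, ha⟩ := hu hl₀
    obtain ⟨b, hb⟩ := hu hl
    have hne1 : ∀ {h : L} {l : F}, (∀ y : F, (h : PG F) • (y : OnePoint F) = ((y + l : F) : OnePoint F)) →
        l ≠ 0 → h ≠ 1 := fun hh hl h1 => hl (by
      have := hh 0
      rw [h1, Subgroup.coe_one, one_smul, OnePoint.coe_eq_coe] at this
      linear_combination -this)
    have ha2 : a ^ 2 = 1 := Subtype.ext (by rw [Subgroup.coe_pow]; exact (ha 0).2.2)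
    have hb2 : b ^ 2 = 1 := Subtype.ext (by rw [Subgroup.coe_pow]; exact (hb 0).2.2)
    have h2 : (2 : F) = 0 := CharP.cast_eq_zero F 2
    have habs : ∀ y : F, ((a * b : L) : PG F) • (y : OnePoint F) = ((y + (l + l₀) : F) : OnePoint F) := by
      intro y
      rw [Subgroup.coe_mul, mul_smul, (hb y).1, (ha _).1, add_assoc]
    have hab : a * b ≠ 1 := hne1 habs fun h => hll (by linear_combination h - l₀ * h2)
    have hab2 : (a * b) ^ 2 = 1 := by
      refine Subtype.ext (eq_of_eq_on_three (x := ∞) (OnePoint.infty_ne_coe (0 : F))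
        (OnePoint.infty_ne_coe (1 : F)) zero_ne_one_onePoint ?_ ?_ ?_)
      · rw [pow_two, Subgroup.coe_mul, Subgroup.coe_mul, Subgroup.coe_one, mul_smul, mul_smul,
          mul_smul, one_smul]
        rw [show (b : PG F) • (∞ : OnePoint F) = ∞ from (hb 0).2.1,
          show (a : PG F) • (∞ : OnePoint F) = ∞ from (ha 0).2.1,
          show (b : PG F) • (∞ : OnePoint F) = ∞ from (hb 0).2.1,
          show (a : PG F) • (∞ : OnePoint F) = ∞ from (ha 0).2.1]
      all_goals
        rw [pow_two, Subgroup.coe_mul, mul_smul, habs, habs, Subgroup.coe_one, one_smul,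
          OnePoint.coe_eq_coe]
        linear_combination (l + l₀) * h2
    exact hout (a * b) hab2 hab (hmul (hout a ha2 (hne1 (fun y => (ha y).1) hl₀0))
      (hout b hb2 (hne1 (fun y => (hb y).1) hl0)))
  · obtain ⟨-, x, hx⟩ := hB
    have h1 := huniq _ _ x (helt1 ∞ Φ.infty_mem_isoPts) (helt2 _ _) (helt3 _ _) (hx _)
    have h0 : ((0 : F) : OnePoint F) ∈ Φ.isoPts := Φ.coe_mem_isoPts.2 (zero_mem _)
    have h2 := huniq _ _ x (helt1 _ h0) (helt2 _ _) (helt3 _ _) (hx _)
    exact absurd (h2.symm.trans h1) (OnePoint.coe_ne_infty (0 : F))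
  · exact absurd hpdvd h
  · exact absurd hpdvd h
  · obtain ⟨hp3, ⟨e⟩⟩ := hA
    have h3 : p = 3 := hp3.resolve_left (fun h => h hpdvd)
    subst h3
    refine Or.inr ⟨?_, ?_⟩
    · have hle : 2 * (q + 1) + 1 ≤ 21 := by
        refine le_trans ?_ card_pow_three_alt_five
        let φ : Option (Φ.isoPts ⊕ Φ.isoPts) →
            {x : alternatingGroup (Fin 5) // x ^ 3 = 1} := fun o => match o with
          | none => ⟨1, one_pow 3⟩
          | some (Sum.inl P) => ⟨e (elt P.1 P.2), by
              rw [← map_pow, show (elt P.1 P.2) ^ 3 = 1 from Subtype.ext (helt2 _ _), map_one]⟩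
          | some (Sum.inr P) => ⟨e (elt P.1 P.2 ^ 2), by
              rw [← map_pow, ← pow_mul, show 2 * 3 = 3 * 2 from rfl, pow_mul,
                show (elt P.1 P.2) ^ 3 = 1 from Subtype.ext (helt2 _ _), one_pow, map_one]⟩
        have h31 : ∀ P hP, (elt P hP) ^ 3 = 1 := fun P hP => Subtype.ext (helt2 P hP)
        have hsq : ∀ P hP, elt P hP ^ 2 ≠ 1 := fun P hP h => helt1 P hP (by
          have h' := h31 P hP
          rwa [pow_succ, h, one_mul] at h')
        have hsq3 : ∀ P hP, ((elt P hP ^ 2 : L) : PG F) ^ 3 = 1 := fun P hP => by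
          rw [Subgroup.coe_pow, ← pow_mul, show 2 * 3 = 3 * 2 from rfl, pow_mul, helt2, one_pow]
        have hsqfix : ∀ P hP, (elt P hP ^ 2) • P = P := fun P hP => by
          rw [pow_two, mul_smul, helt3, helt3]
        have hφ : Function.Injective φ := by
          rintro (_ | P | P) (_ | Q | Q) h <;> simp only [φ, Subtype.mk.injEq] at h
          · rfl
          · exact absurd (e.injective ((map_one e).trans h)).symm (helt1 _ _)
          · exact absurd (e.injective ((map_one e).trans h)).symm (hsq _ _)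
          · exact absurd (e.injective (h.trans (map_one e).symm)) (helt1 _ _)
          · have hPQ : P.1 = Q.1 := huniq _ _ _ (helt1 _ _) (helt2 _ _) (helt3 Q.1 Q.2)
              (by rw [← e.injective h]; exact helt3 _ _)
            rw [Subtype.ext hPQ]
          · exfalso
            have h' := e.injective h
            have hPQ : P.1 = Q.1 := huniq _ _ _ (hsq _ _) (hsq3 _ _) (hsqfix Q.1 Q.2)
              (by rw [← h']; exact helt3 _ _)
            obtain rfl := Subtype.ext hPQ
            exact helt1 _ _ (mul_left_cancel (a := elt P.1 P.2)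
              (by rw [mul_one, ← pow_two]; exact h'.symm))
          · exact absurd (e.injective (h.trans (map_one e).symm)) (hsq _ _)
          · exfalso
            have h' := e.injective h
            have hPQ : P.1 = Q.1 := huniq _ _ _ (helt1 _ _) (helt2 _ _) (helt3 Q.1 Q.2)
              (by rw [← h']; exact hsqfix _ _)
            obtain rfl := Subtype.ext hPQ
            exact helt1 _ _ (mul_left_cancel (a := elt P.1 P.2)
              (by rw [mul_one, ← pow_two]; exact h'))
          · have hPQ : P.1 = Q.1 := huniq _ _ _ (hsq _ _) (hsq3 _ _) (hsqfix Q.1 Q.2)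
              (by rw [← e.injective h]; exact hsqfix _ _)
            rw [Subtype.ext hPQ]
        have h21 := Nat.card_le_card_of_injective φ hφ
        rw [Finite.card_option, Nat.card_sum, Φ.card_isoPts hF hc,
          Nat.card_eq_fintype_card (α := {x : alternatingGroup (Fin 5) // x ^ 3 = 1}),
          Fintype.card_subtype] at h21
        omega
      have hf3 : 3 ^ f ≤ 9 := by omega
      have h12 : f ≤ 2 := by
        by_contra h
        have := Nat.pow_le_pow_right (show 1 ≤ 3 by norm_num) (show 3 ≤ f by omega)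
        omega
      interval_cases f
      · exfalso
        have h2 := AddSubgroup.card_dvd_of_le (Φ.Z_le_skew M)
        rw [card_skew hF hc, hqf, pow_one] at h2
        rcases (Nat.dvd_prime Nat.prime_three).1 h2 with h | h
        · exact hZ (AddSubgroup.eq_bot_of_card_eq _ h)
        · exact hne (AddSubgroup.eq_of_le_of_card_ge (Φ.Z_le_skew M)
            (by rw [card_skew hF hc, hqf, pow_one, h]))
      · rw [hqf]; norm_num
    · have hu : ∀ l ∈ Φ.Z M, ∃ h : L,
          ∀ y : F, (h : PG F) • (y : OnePoint F) = ((y + l : F) : OnePoint F) := by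
        intro l hl
        obtain ⟨hlp, hm⟩ := hl
        refine ⟨⟨_, hmemL ⟨_, Φ.uel_zero_mem_LS hlp⟩ hm⟩, fun y => ?_⟩
        refine Φ.toPG_smul hd _ (c := 1) ?_
        show (Φ.uel 0 l hlp).1 (Φ.pt _) = _
        rw [Φ.pt_coe, Φ.pt_coe, show Φ.vec y 1 0 = y • Φ.e + Φ.f by simp [Frame.vec], map_add,
          map_smul, Φ.uel_apply_e, Φ.uel_apply_f]
        simp [Frame.vec, add_smul, add_assoc]
      choose u hu using hu
      have h3 : (3 : F) = 0 := CharP.cast_eq_zero F 3
      have hinf : ∀ l hl, (u l hl : PG F) • (∞ : OnePoint F) = ∞ := by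
        intro l hl
        cases hcase : (u l hl : PG F) • (∞ : OnePoint F) with
        | infty => rfl
        | coe z =>
          exfalso
          have := hu l hl (z - l)
          rw [sub_add_cancel, ← hcase] at this
          exact OnePoint.coe_ne_infty _ (MulAction.injective _ this)
      have hext : ∀ (a b : L), (∀ y : F, (a : PG F) • (y : OnePoint F) = (b : PG F) • (y : OnePoint F)) →
          (a : PG F) • (∞ : OnePoint F) = (b : PG F) • (∞ : OnePoint F) → a = b := fun a b h1 h2 =>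
        Subtype.ext (eq_of_eq_on_three (x := ∞) (OnePoint.infty_ne_coe (0 : F))
          (OnePoint.infty_ne_coe (1 : F)) zero_ne_one_onePoint h2 (h1 0) (h1 1))
      have hcomm : ∀ l hl m hm, u l hl * u m hm = u m hm * u l hl := fun l hl m hm => by
        refine hext _ _ (fun y => ?_) ?_
        · rw [Subgroup.coe_mul, Subgroup.coe_mul, mul_smul, mul_smul, hu, hu, hu, hu,
            add_right_comm]
        · rw [Subgroup.coe_mul, Subgroup.coe_mul, mul_smul, mul_smul, hinf, hinf, hinf]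
      have hu3 : ∀ l hl, u l hl ^ 3 = 1 := fun l hl => by
        refine hext _ _ (fun y => ?_) ?_
        · rw [pow_succ, pow_two, Subgroup.coe_mul, Subgroup.coe_mul, mul_smul, mul_smul, hu, hu,
            hu, Subgroup.coe_one, one_smul, OnePoint.coe_eq_coe]
          linear_combination l * h3
        · rw [pow_succ, pow_two, Subgroup.coe_mul, Subgroup.coe_mul, mul_smul, mul_smul, hinf,
            hinf, hinf, Subgroup.coe_one, one_smul]
      have huo : orderOf (u l₀ hl₀) = 3 := by
        refine orderOf_eq_prime (hu3 _ _) fun h => hl₀0 ?_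
        have := hu l₀ hl₀ 0
        rw [h, Subgroup.coe_one, one_smul, OnePoint.coe_eq_coe] at this
        linear_combination -this
      have hsub : ∀ l hl, u l hl ∈ Subgroup.zpowers (u l₀ hl₀) := by
        intro l hl
        by_contra hnot
        have h9 := orderOf_dvd_card_mul (H := (⊤ : Subgroup L)) (Subgroup.mem_top (u l₀ hl₀))
          (Subgroup.mem_top (u l hl)) Nat.prime_three (hu3 l hl) hnot
          (by rw [hcomm, mul_inv_cancel_right]; exact Subgroup.mem_zpowers _)
        rw [huo, Subgroup.card_top, Nat.card_congr e.toEquiv, nat_card_alternatingGroup,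
          Nat.card_fin] at h9
        norm_num [Nat.factorial] at h9
      have hle : Nat.card (Φ.Z M) ≤ 3 := by
        rw [← huo, ← Nat.card_zpowers]
        refine Nat.card_le_card_of_injective
          (fun l : Φ.Z M => (⟨u l.1 l.2, hsub _ _⟩ : Subgroup.zpowers (u l₀ hl₀))) fun l m h => ?_
        have h1 : u l.1 l.2 = u m.1 m.2 := congrArg Subtype.val h
        have h2 := hu l.1 l.2 0
        rw [h1, hu, OnePoint.coe_eq_coe, zero_add, zero_add] at h2
        exact Subtype.ext h2.symm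
      obtain ⟨i, -, hi⟩ := (Nat.dvd_prime_pow hp').1 (show Nat.card (Φ.Z M) ∣ 3 ^ f by
        rw [← hqf, ← card_skew hF hc (H := H)]
        exact AddSubgroup.card_dvd_of_le (Φ.Z_le_skew M))
      rcases i with _ | _ | i
      · exact absurd (AddSubgroup.eq_bot_of_card_eq _ (by rw [hi, pow_zero])) hZ
      · rw [hi, pow_one]
      · exfalso
        have h9 : 3 ^ 2 ≤ 3 ^ (i + 1 + 1) := Nat.pow_le_pow_right (by norm_num) (by omega)
        rw [hi] at hle
        omega
  · exfalso
    obtain ⟨g₀, E, hEfin, hpts, hH⟩ := hE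
    set φ : PG E →* PG F := ProjGenLinGroup.map (n := Fin 2) E.subtype
    have hiso : ∀ x : OnePoint F, x ∈ Φ.isoPts ↔ g₀⁻¹ • x ∈ Set.range (OnePoint.map E.subtype) := by
      intro x
      rw [← hpts]
      constructor
      · exact fun hx => ⟨elt x hx, helt1 _ _, helt2 _ _, helt3 _ _⟩
      · rintro ⟨h, h1, h2, h3⟩
        obtain ⟨P, hP, hP'⟩ := hLiso h h2
        rwa [huniq h P x h1 h2 hP' h3]
    have hcardE : Nat.card E = q := by
      have h1 : Nat.card Φ.isoPts = Nat.card (OnePoint E) := by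
        refine (Nat.card_congr (Equiv.ofBijective
          (fun z : OnePoint E => (⟨g₀ • OnePoint.map E.subtype z,
            (hiso _).2 ⟨z, (inv_smul_smul g₀ _).symm⟩⟩ : Φ.isoPts)) ⟨?_, ?_⟩)).symm
        · intro a b h
          exact onePoint_map_injective _ (MulAction.injective g₀ (congrArg Subtype.val h :))
        · rintro ⟨x, hx⟩
          obtain ⟨z, hz⟩ := (hiso x).1 hx
          exact ⟨z, Subtype.ext (by show g₀ • _ = x; rw [hz, smul_inv_smul])⟩
      rw [Φ.card_isoPts hF hc, show Nat.card (OnePoint E) = Nat.card E + 1 from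
        Finite.card_option] at h1
      omega
    obtain ⟨z₁, hz₁⟩ := (hiso ∞).1 Φ.infty_mem_isoPts
    obtain ⟨w, hw⟩ : ∃ w : Matrix.SpecialLinearGroup (Fin 2) E,
        (Matrix.SpecialLinearGroup.toPGL w : PG E) • (∞ : OnePoint E) = z₁ := by
      cases z₁ with
      | infty => exact ⟨1, by rw [map_one, one_smul]⟩
      | coe a =>
        refine ⟨⟨!![a, -1; 1, 0], by rw [Matrix.det_fin_two_of]; ring⟩, ?_⟩
        set s : Matrix.SpecialLinearGroup (Fin 2) E :=
          ⟨!![a, -1; 1, 0], by rw [Matrix.det_fin_two_of]; ring⟩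
        have h10 : (Matrix.SpecialLinearGroup.toGL s) 1 0 = 1 := rfl
        have h00 : (Matrix.SpecialLinearGroup.toGL s) 0 0 = a := rfl
        show (ProjGenLinGroup.mk (Matrix.SpecialLinearGroup.toGL s) : PG E) • (∞ : OnePoint E) = _
        rw [mk_smul_onePoint, OnePoint.smul_infty_eq_ite, h10, h00, if_neg one_ne_zero, div_one]
    set W : PG E := Matrix.SpecialLinearGroup.toPGL w
    have hrange : ∀ b : E, aff (1 : Eˣ) b ∈
        (Matrix.SpecialLinearGroup.toPGL : Matrix.SpecialLinearGroup (Fin 2) E →* PG E).range := by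
      intro b
      refine ⟨⟨!![1, b; 0, 1], by rw [Matrix.det_fin_two_of]; ring⟩, ?_⟩
      show ProjGenLinGroup.mk _ = aff (1 : Eˣ) b
      rw [aff]
      congr 1
      ext i j
      fin_cases i <;> fin_cases j <;> rfl
    set τ : E → PG F := fun b => g₀ * φ (W * aff (1 : Eˣ) b * W⁻¹) * g₀⁻¹
    have hτL : ∀ b, τ b ∈ L := by
      intro b
      obtain ⟨s, hs⟩ := hrange b
      have hin : φ (W * aff (1 : Eˣ) b * W⁻¹) ∈ L.map (MulAut.conj g₀⁻¹).toMonoidHom := by
        rcases hH with hH | ⟨-, hH⟩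
        · rw [hH]; exact ⟨_, rfl⟩
        · rw [hH]
          exact ⟨w * s * w⁻¹, (MonoidHom.comp_apply φ Matrix.SpecialLinearGroup.toPGL _).trans
            (congrArg φ (by rw [map_mul, map_mul, map_inv, hs]))⟩
      obtain ⟨x, hx, hxe⟩ := hin
      have hτx : τ b = x := by
        show g₀ * _ * g₀⁻¹ = x
        rw [← hxe]
        simp [MulAut.conj_apply, mul_assoc]
      rw [hτx]
      exact hx
    have : CharP E p := charP_of_injective_ringHom E.subtype.injective p |> fun _ =>
      (RingHom.charP_iff E.subtype E.subtype.injective p).2 inferInstance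
    have hτp : ∀ b, τ b ^ p = 1 := fun b => by
      show (g₀ * φ (W * aff (1 : Eˣ) b * W⁻¹) * g₀⁻¹) ^ p = 1
      rw [conj_pow, ← map_pow, conj_pow, translation_pow_char, mul_one, mul_inv_cancel, map_one,
        mul_one, mul_inv_cancel]
    have hτinf : ∀ b, τ b • (∞ : OnePoint F) = ∞ := fun b => by
      show (g₀ * φ (W * aff (1 : Eˣ) b * W⁻¹) * g₀⁻¹) • (∞ : OnePoint F) = ∞
      rw [mul_smul, mul_smul, ← hz₁, map_smul_onePoint, mul_smul, mul_smul,
        show W⁻¹ • z₁ = ∞ by rw [← hw, inv_smul_smul], aff_smul_infty, hw, hz₁, smul_inv_smul]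
    have hτinj : Function.Injective τ := fun a b h => by
      have h' := map_injective_pgl E.subtype (mul_left_cancel (mul_right_cancel h))
      have h2 := congrArg (fun g : PG E => g • ((0 : E) : OnePoint E))
        (mul_left_cancel (mul_right_cancel h'))
      simpa [aff_smul_coe] using h2
    have hex : ∀ b, ∃ l ∈ Φ.Z M, ∀ y : F, τ b • (y : OnePoint F) = ((y + l : F) : OnePoint F) := by
      intro b
      obtain ⟨g, hg, hgb⟩ := hτL b
      rw [← hgb]
      exact mem_Z_of_fix_infty hd hF hc (p := p) M hM hn Φ g hg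
        (by rw [hgb]; exact hτp b) (by rw [hgb]; exact hτinf b)
    choose tr htr1 htr2 using hex
    have hle : q ≤ Nat.card (Φ.Z M) := by
      rw [← hcardE]
      refine Nat.card_le_card_of_injective (fun b => (⟨tr b, htr1 b⟩ : Φ.Z M)) fun a b h => ?_
      have h' : tr a = tr b := congrArg Subtype.val h
      refine hτinj (eq_of_eq_on_three (x := ∞) (OnePoint.infty_ne_coe (0 : F))
        (OnePoint.infty_ne_coe (1 : F)) zero_ne_one_onePoint ?_ ?_ ?_)
      · rw [hτinf, hτinf]
      · rw [htr2, htr2, h']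
      · rw [htr2, htr2, h']
    exact hne (AddSubgroup.eq_of_le_of_card_ge (Φ.Z_le_skew M) (by rw [card_skew hF hc]; exact hle))

end CfsgLib.MinIndexPSU
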