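import Cfsg.Agent.Lib.MinIndexPSU.Fix
import Cfsg.Agent.Lib.MinIndexPSU.Arith

/-!
The smallest non-trivial transitive action of a special unitary group in dimension at least six.
-/

set_option autoImplicit false
set_option linter.unusedSectionVars false

namespace CfsgLib.MinIndexPSU

open Module CfsgLib.Classical.Herm CfsgLib.Classical.Herm.HermSpace
open scoped Pointwise

/-- An orbit not reduced to a point has more than one element. -/
theorem one_lt_card_orbit {G α : Type*} [Group G] [MulAction G α] [Finite α] {x : α}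
    (h : ∃ g : G, g • x ≠ x) : 1 < Nat.card (MulAction.orbit G x) := by
  obtain ⟨g, hg⟩ := h
  haveI : Nontrivial (MulAction.orbit G x) :=
    ⟨⟨⟨_, MulAction.mem_orbit x g⟩, ⟨x, MulAction.mem_orbit_self x⟩,
      fun e => hg (congrArg Subtype.val e)⟩⟩
  exact Finite.one_lt_card

variable {F V : Type*} [Field F] [Fintype F] [AddCommGroup V] [Module F V] [FiniteDimensional F V]
  {H : HermSpace F V} {e f : V} [hp : Fact (IsHPair H e f)] {q : ℕ} (hQ : IsQ H q)

include hp

omit [Fintype F] in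
theorem exists_complement_pair (hm : 3 ≤ finrank F (perp2 H e f)) :
    ∃ a b : perp2 H e f, IsHPair (res hp.out) a b := by
  have hB := big_of_finrank (H := res hp.out) hm
  obtain ⟨y, hy⟩ : ∃ y : perp2 H e f, y ≠ 0 := by
    have : Nontrivial (perp2 H e f) := Module.nontrivial_of_finrank_pos (R := F) (by omega)
    exact exists_ne 0
  by_cases h : H.h y.1 y.1 = 0
  · obtain ⟨z, pz⟩ := exists_isotropic_partner (H := res hp.out) (u := y) h hy
    exact ⟨y, z, pz⟩
  · obtain ⟨s, hs⟩ := H.exists_trace (H.conj_diag y.1)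
    obtain ⟨a, b, pab, -⟩ := exists_pair_of_nonisotropic (H := res hp.out) hB (v := y) h hs
    exact ⟨a, b, pab⟩

omit [Fintype F] in
/-- The root group of the complement moves a subgroup not containing a whole class. -/
theorem exists_extLz_ne (hm : 3 ≤ finrank F (perp2 H e f)) {S : AddSubgroup (perp2 H e f)}
    {a : perp2 H e f} (haS : a ∈ S) (ha : a ≠ 0)
    (hbig : ¬ ∀ x : perp2 H e f, x ≠ 0 → H.h x.1 x.1 = H.h a.1 a.1 → x ∈ S) :
    ∃ g : rootGen (res hp.out), extLz g • S ≠ S := by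
  by_contra hcon
  push Not at hcon
  refine hbig fun x hx hxa => ?_
  obtain ⟨g, hg, hga⟩ : ∃ g ∈ rootGen (res hp.out), g.1 a = x := by
    by_cases h0 : H.h a.1 a.1 = 0
    · exact rootGen_transitive (H := res hp.out) (big_of_finrank hm) h0 ha (hxa.trans h0) hx
    · exact exists_rootGen_value (H := res hp.out) hm h0 hxa.symm
  have hga' : extLz (⟨g, hg⟩ : rootGen (res hp.out)) • a = x := (extLz_smul _ _).trans hga
  rw [← hga', ← hcon ⟨g, hg⟩]
  exact AddSubgroup.smul_mem_pointwise_smul a _ S haS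

include hQ

/-- Lower bound for the number of translates of a moved subgroup. -/
theorem translates_lower (hm : 4 ≤ finrank F (perp2 H e f)) {S : AddSubgroup (perp2 H e f)}
    (hS : ∃ g : rootGen (res hp.out), extLz g • S ≠ S) :
    (finrank F (perp2 H e f) = 4 → q ^ 4 + q ^ 3 ≤ Nat.card (MulAction.orbit (Lz H e f) S)) ∧
    (5 ≤ finrank F (perp2 H e f) → q ^ (2 * finrank F (perp2 H e f) - 4) ≤
      Nat.card (MulAction.orbit (Lz H e f) S) + q ^ (finrank F (perp2 H e f) - 1)) := by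
  classical
  haveI : Finite V := Module.finite_of_finite F
  haveI : Finite (AddSubgroup (perp2 H e f)) :=
    Finite.of_injective (fun S => (S : Set (perp2 H e f))) SetLike.coe_injective
  letI : MulAction (rootGen (res hp.out)) (AddSubgroup (perp2 H e f)) :=
    MulAction.compHom _ (extLz (H := H) (e := e) (f := f))
  obtain ⟨a, b, pab⟩ := exists_complement_pair (H := H) (e := e) (f := f) (by omega)
  haveI : Fact (IsHPair (res hp.out) a b) := ⟨pab⟩
  have hfd := finrank_perp2 pab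
  set Ω' := MulAction.orbit (rootGen (res hp.out)) S
  have hle : Nat.card Ω' ≤ Nat.card (MulAction.orbit (Lz H e f) S) := by
    rw [Nat.card_coe_set_eq, Nat.card_coe_set_eq]
    refine Set.ncard_le_ncard ?_ (Set.toFinite _)
    rintro _ ⟨g, rfl⟩
    exact ⟨extLz g, rfl⟩
  have h1 : 1 < Nat.card Ω' := one_lt_card_orbit hS
  refine ⟨fun h4 => le_trans (rough_bound_four (IsQ.res hp.out hQ) (e := a) (f := b) h4 h1) hle,
    fun h5 => ?_⟩
  have h := rough_bound (IsQ.res hp.out hQ) (e := a) (f := b) h5 (Ω := Ω') h1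
  rw [show 2 * finrank F (perp2 (res hp.out) a b) = 2 * finrank F (perp2 H e f) - 4 by omega,
    show finrank F (perp2 (res hp.out) a b) + 1 = finrank F (perp2 H e f) - 1 by omega] at h
  omega

/-- Isotropic counts in `V` and in the complement. -/
theorem iso_rec :
    ({v : V | v ≠ 0 ∧ H.h v v = 0}.ncard : ℤ) = (q : ℤ) ^ 2 * isoCard H e f + ((q : ℤ) ^ 2 - 1)
      + ((q : ℤ) ^ 2 - 1) * ((q : ℤ) ^ (2 * finrank F (perp2 H e f)) * q) := by
  have h1 := card_iso_mul hQ (V := V)
  have h2 := isoCard_mul hQ (e := e) (f := f)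
  rw [← finrank_perp2 hp.out, mul_add 2 (finrank F (perp2 H e f)), pow_add, pow_add] at h1
  rw [← Nat.card_coe_set_eq]
  simp only [Set.coe_setOf] at *
  refine mul_left_cancel₀ (show (q : ℤ) ≠ 0 by have := hQ.two_le; omega) ?_
  linear_combination h1 - (q : ℤ) ^ 2 * h2

/-- Norm-one counts in `V` and in the complement for `q = 2`. -/
theorem val_rec (h2 : q = 2) :
    ({v : V | H.h v v = 1}.ncard : ℤ) = 4 * valCard H e f 1
      + 6 * (q : ℤ) ^ (2 * finrank F (perp2 H e f)) := by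
  have h1 := card_value_one_mul hQ (V := V) (c := 1) (map_one _) one_ne_zero
  have h3 := valCard_mul hQ (e := e) (f := f) (map_one _) (one_ne_zero (α := F))
  rw [← finrank_perp2 hp.out, mul_add 2 (finrank F (perp2 H e f)), pow_add, pow_add] at h1
  subst h2
  rw [← Nat.card_coe_set_eq]
  simp only [Set.coe_setOf] at *
  push_cast at h1 h3 ⊢
  refine mul_left_cancel₀ (show (2 : ℤ) ≠ 0 by norm_num) ?_
  linear_combination h1 - 4 * h3

theorem isoCard_le :
    (q : ℤ) * isoCard H e f ≤ (q : ℤ) ^ finrank F (perp2 H e f) * (q : ℤ) ^ finrank F (perp2 H e f)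
      + (q : ℤ) ^ finrank F (perp2 H e f) * q := by
  have hq := hQ.two_le
  have h := isoCard_mul hQ (e := e) (f := f)
  rw [two_mul, pow_add] at h
  set m := finrank F (perp2 H e f)
  have hs : (-(q : ℤ)) ^ m ≤ (q : ℤ) ^ m := by
    have := pow_nonneg (show (0 : ℤ) ≤ q by omega) m
    rcases Nat.even_or_odd m with he | ho
    · rw [he.neg_pow]
    · rw [ho.neg_pow]; omega
  have h1 := mul_le_mul_of_nonneg_right hs (show (0 : ℤ) ≤ (q : ℤ) - 1 by omega)
  have h2 : (0 : ℤ) ≤ (q : ℤ) ^ m := pow_nonneg (by omega) _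
  nlinarith

variable {Ω : Type*} [Finite Ω] [MulAction (rootGen H) Ω]

omit hQ in
/-- Counting pairs of a point and an isotropic vector whose transvections fix it. -/
theorem exists_double_count (hd : 3 ≤ finrank F V) [MulAction.IsPretransitive (rootGen H) Ω]
    [Nonempty Ω] : ∃ T : ℕ, Nat.card Ω * T =
      {v : V | v ≠ 0 ∧ H.h v v = 0}.ncard * {x : Ω | ZFix H e x}.ncard := by
  classical
  haveI : Finite V := Module.finite_of_finite F
  have hB := big_of_finrank (H := H) hd
  obtain ⟨x₀⟩ := ‹Nonempty Ω›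
  let Iv := {v : V | v ≠ 0 ∧ H.h v v = 0}
  have : Fintype Iv := Fintype.ofFinite _
  have : Fintype Ω := Fintype.ofFinite _
  have hT : ∀ x : Ω, Nat.card {v : Iv // ZFix H v.1 x} = Nat.card {v : Iv // ZFix H v.1 x₀} := by
    intro x
    obtain ⟨g, hg⟩ := MulAction.exists_smul_eq (rootGen H) x x₀
    refine Nat.card_congr
      { toFun := fun v => ⟨⟨g.1.1 v.1.1, unit_ne_zero g.1 v.1.2.1, by rw [unit_h]; exact v.1.2.2⟩,
          hg ▸ (zFix_map g v.1.1 x).2 v.2⟩
        invFun := fun v => ⟨⟨(g⁻¹).1.1 v.1.1, unit_ne_zero (g⁻¹).1 v.1.2.1,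
            by rw [unit_h]; exact v.1.2.2⟩, by
          have h := (zFix_map g⁻¹ v.1.1 x₀).2 v.2
          rwa [show g⁻¹ • x₀ = x by rw [← hg, inv_smul_smul]] at h⟩
        left_inv := fun v => Subtype.ext (Subtype.ext (inv_smul_vec g _))
        right_inv := fun v => Subtype.ext (Subtype.ext (smul_inv_vec g _)) }
  have hF : ∀ v : Iv, Nat.card {x : Ω // ZFix H v.1 x} = Nat.card {x : Ω // ZFix H e x} := by
    intro v
    obtain ⟨g, hg, hgv⟩ := rootGen_transitive hB hp.out.1 hp.out.left_ne_zero v.2.2 v.2.1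
    refine Nat.card_congr
      { toFun := fun x => ⟨(⟨g, hg⟩ : rootGen H)⁻¹ • x.1, by
          rw [← zFix_map (⟨g, hg⟩ : rootGen H), smul_inv_smul]
          show ZFix H (g.1 e) x.1
          rw [hgv]; exact x.2⟩
        invFun := fun x => ⟨(⟨g, hg⟩ : rootGen H) • x.1, by
          have := (zFix_map (⟨g, hg⟩ : rootGen H) e x.1).2 x.2
          change ZFix H (g.1 e) _ at this
          rwa [hgv] at this⟩
        left_inv := fun x => Subtype.ext (smul_inv_smul _ _)
        right_inv := fun x => Subtype.ext (inv_smul_smul _ _) }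
  refine ⟨Nat.card {v : Iv // ZFix H v.1 x₀}, ?_⟩
  calc Nat.card Ω * Nat.card {v : Iv // ZFix H v.1 x₀}
      = Nat.card (Σ x : Ω, {v : Iv // ZFix H v.1 x}) := by
        rw [Nat.card_sigma, Finset.sum_congr rfl fun x _ => hT x, Finset.sum_const, smul_eq_mul,
          Finset.card_univ, Nat.card_eq_fintype_card]
    _ = Nat.card (Σ v : Iv, {x : Ω // ZFix H v.1 x}) := Nat.card_congr
        { toFun := fun p => ⟨p.2.1, p.1, p.2.2⟩
          invFun := fun p => ⟨p.2.1, p.1, p.2.2⟩
          left_inv := fun _ => rfl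
          right_inv := fun _ => rfl }
    _ = Nat.card Iv * Nat.card {x : Ω // ZFix H e x} := by
        rw [Nat.card_sigma, Finset.sum_congr rfl fun v _ => hF v, Finset.sum_const, smul_eq_mul,
          Finset.card_univ, Nat.card_eq_fintype_card (α := Iv)]
    _ = _ := by rw [← Nat.card_coe_set_eq, ← Nat.card_coe_set_eq]; rfl

/-- A moved point with non-trivial invariant makes the action large. -/
theorem Rb_eq_bot (hd : 6 ≤ finrank F V)
    (hsmall : Nat.card Ω * (q ^ 2 - 1) < {v : V | v ≠ 0 ∧ H.h v v = 0}.ncard) {x : Ω}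
    (hx : ¬ ZFix H e x) : Rb H e f x = ⊥ := by
  classical
  by_contra hbot
  have hq := hQ.two_le
  haveI : Finite V := Module.finite_of_finite F
  have hfd := finrank_perp2 hp.out
  have hM := card_moved_mul_ge hQ (f := f) (by omega) x hx
  have hMle : {y : Ω | ¬ ZFix H e y}.ncard ≤ Nat.card Ω := Set.ncard_le_card _
  have hR2 := card_Rb_sq_le (f := f) hx
  rw [card_perp2' hQ] at hM hR2
  have hIrec := iso_rec hQ (e := e) (f := f)
  have hIle := isoCard_le hQ (e := e) (f := f)
  set m := finrank F (perp2 H e f) with hm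
  set S := Rb H e f x
  set R := Nat.card S with hR
  have hRP : R ≤ q ^ m := by
    rw [two_mul, pow_add] at hR2
    exact Nat.mul_self_le_mul_self_iff.1 hR2
  obtain ⟨a, haS, ha⟩ : ∃ a ∈ S, a ≠ 0 := by
    by_contra hcon
    push Not at hcon
    exact hbot ((AddSubgroup.eq_bot_iff_forall _).2 hcon)
  have hmv : ∃ g : rootGen (res hp.out), extLz g • S ≠ S := by
    refine exists_extLz_ne (by omega) haS ha fun hall => ?_
    have h1 : ({x : perp2 H e f | x ≠ 0 ∧ H.h x.1 x.1 = H.h a.1 a.1} : Set _).ncard ≤ R - 1 := by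
      refine le_trans (Set.ncard_le_ncard (t := (S : Set (perp2 H e f)) \ {0})
        (fun y hy => ⟨hall y hy.1 hy.2, hy.1⟩) (Set.toFinite _)) (le_of_eq ?_)
      rw [Set.ncard_diff_singleton_of_mem S.zero_mem, hR, ← Nat.card_coe_set_eq]
      rfl
    have h2 := class_lower hQ (e := e) (f := f) (by omega) ha
    rw [← hm] at h2
    refine Arith.class_absurd (show (2 : ℤ) ≤ q by omega)
      (pow_le_pow_right₀ (by omega) (show 4 ≤ m by omega)) h2 ?_
    have h1' : ({x : perp2 H e f | x ≠ 0 ∧ H.h x.1 x.1 = H.h a.1 a.1} : Set _).ncard + 1 ≤ q ^ m := by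
      have : 0 < R := Nat.card_pos
      omega
    exact_mod_cast h1'
  obtain ⟨hJ4, hJ5⟩ := translates_lower hQ (by omega) hmv
  set t := Nat.card (MulAction.orbit (Lz H e f) S)
  set M := {y : Ω | ¬ ZFix H e y}.ncard
  have hR0 : 0 < R := Nat.card_pos
  have hMt : t * (q ^ m * q) ≤ M := by
    refine Nat.le_of_mul_le_mul_right ?_ hR0
    refine le_trans (le_trans (Nat.mul_le_mul_left _ hRP) (le_of_eq ?_)) hM
    rw [two_mul, pow_add]; ring
  have hbig : (({v : V | v ≠ 0 ∧ H.h v v = 0}.ncard : ℤ)) ≤ (M : ℤ) * ((q : ℤ) ^ 2 - 1) := by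
    have hq' : (2 : ℤ) ≤ q := by omega
    have hq21 : (0 : ℤ) ≤ (q : ℤ) ^ 2 - 1 := by nlinarith
    refine le_trans ?_ (mul_le_mul_of_nonneg_right (Int.ofNat_le.2 hMt) hq21)
    push_cast
    rw [hIrec, two_mul, pow_add]
    have hqI : (q : ℤ) ^ 2 * isoCard H e f ≤ q * ((q : ℤ) ^ m * (q : ℤ) ^ m + (q : ℤ) ^ m * q) := by
      rw [pow_two, mul_assoc]; exact mul_le_mul_of_nonneg_left hIle (by omega)
    rcases eq_or_lt_of_le (show 4 ≤ m by omega) with h4 | h5
    · have h' : ((q : ℤ) ^ 4 + (q : ℤ) ^ 3) ≤ (t : ℤ) := by exact_mod_cast hJ4 h4.symm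
      rw [← h4] at hqI ⊢
      exact Arith.moved_four hq' hqI h' le_rfl
    · have h' : (q : ℤ) ^ (2 * m - 4) ≤ (t : ℤ) + (q : ℤ) ^ (m - 1) := by exact_mod_cast hJ5 h5
      have hP : (q : ℤ) ^ m * q * ((q : ℤ) ^ (2 * m - 4)) =
          (q : ℤ) ^ m * (q : ℤ) ^ m * (q : ℤ) ^ (m - 3) := by
        rw [← pow_succ, ← pow_add, ← pow_add, ← pow_add]; congr 1; omega
      have hP' : (q : ℤ) ^ m * q * (q : ℤ) ^ (m - 1) = (q : ℤ) ^ m * (q : ℤ) ^ m := by
        rw [← pow_succ, ← pow_add, ← pow_add]; congr 1; omega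
      have h6 := mul_le_mul_of_nonneg_left h' (show (0 : ℤ) ≤ (q : ℤ) ^ m * q by positivity)
      rw [mul_add, hP, hP'] at h6
      exact Arith.moved_five hq' (pow_le_pow_right₀ (by omega) (by omega)) hqI
        (Arith.five_translates hq' (by positivity) (pow_le_pow_right₀ (by omega) (by omega)) h6) le_rfl
  have hlt : ((Nat.card Ω : ℤ)) * ((q : ℤ) ^ 2 - 1) < ({v : V | v ≠ 0 ∧ H.h v v = 0}.ncard : ℤ) := by
    have h := Int.ofNat_lt.2 hsmall
    push_cast [Nat.cast_sub (Nat.one_le_pow 2 q (by omega))] at h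
    exact h
  have h : (M : ℤ) ≤ Nat.card Ω := by exact_mod_cast hMle
  have hq1 : (0 : ℤ) ≤ (q : ℤ) ^ 2 - 1 := by nlinarith
  have := mul_le_mul_of_nonneg_right h hq1
  linarith

/-- The smallest degree: as many points as isotropic points, or anisotropic points when `q = 2`. -/
theorem unitary_bound (hd : 6 ≤ finrank F V) [MulAction.IsPretransitive (rootGen H) Ω]
    (hΩ : 1 < Nat.card Ω) :
    {v : V | v ≠ 0 ∧ H.h v v = 0}.ncard ≤ Nat.card Ω * (q ^ 2 - 1) ∨
      (q = 2 ∧ {v : V | H.h v v = 1}.ncard ≤ Nat.card Ω * 3) := by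
  classical
  by_contra hcon
  push Not at hcon
  obtain ⟨hsmall, hA⟩ := hcon
  have hq := hQ.two_le
  haveI : Finite V := Module.finite_of_finite F
  have hfd := finrank_perp2 hp.out
  have hR := fun x : Ω => Rb_eq_bot hQ (e := e) (f := f) hd hsmall (x := x)
  obtain ⟨x₀, hx₀⟩ := exists_moved (e := e) (f := f) (H := H) (by omega) hΩ
  have hM0 := card_moved_mul_ge hQ (f := f) (by omega) x₀ hx₀
  rw [hR _ hx₀, AddSubgroup.card_bot, mul_one, card_perp2' hQ] at hM0
  have hIrec := iso_rec hQ (e := e) (f := f)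
  have hIle := isoCard_le hQ (e := e) (f := f)
  set m := finrank F (perp2 H e f) with hm
  have hq' : (2 : ℤ) ≤ q := by omega
  have hq21 : (3 : ℤ) ≤ (q : ℤ) ^ 2 - 1 := by nlinarith
  have hP16 : (16 : ℤ) ≤ (q : ℤ) ^ m := le_trans (by norm_num)
    (le_trans (pow_le_pow_left₀ (by norm_num) hq' 4) (pow_le_pow_right₀ (by omega) (by omega)))
  have hP4 : (q : ℤ) ^ 4 ≤ (q : ℤ) ^ m := pow_le_pow_right₀ (by omega) (by omega)
  set M := {y : Ω | ¬ ZFix H e y}.ncard
  have hM : q ^ (2 * m) * q ≤ M := by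
    refine le_trans (Nat.le_mul_of_pos_left _ ?_) hM0
    have : Nonempty (MulAction.orbit (Lz H e f) (⊥ : AddSubgroup (perp2 H e f))) :=
      ⟨⟨_, MulAction.mem_orbit_self _⟩⟩
    exact Nat.card_pos
  have hlt : ((Nat.card Ω : ℤ)) * ((q : ℤ) ^ 2 - 1) < ({v : V | v ≠ 0 ∧ H.h v v = 0}.ncard : ℤ) := by
    have h := Int.ofNat_lt.2 hsmall
    push_cast [Nat.cast_sub (Nat.one_le_pow 2 q (by omega))] at h
    exact h
  rw [hIrec] at hlt
  have hqI : (q : ℤ) ^ 2 * isoCard H e f ≤ q * ((q : ℤ) ^ m * (q : ℤ) ^ m + (q : ℤ) ^ m * q) := by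
    rw [pow_two, mul_assoc]; exact mul_le_mul_of_nonneg_left hIle (by omega)
  have htwo : Nat.card Ω < 2 * (Nat.card (perp2 H e f) * q) := by
    rw [card_perp2' hQ]
    zify
    rw [two_mul m, pow_add] at hlt ⊢
    exact Arith.small_omega hq' hP4 hqI hlt
  obtain ⟨z, hz, hzS⟩ := exists_fixed_small hQ (f := f) (by omega) htwo hR hx₀
  -- the fixed points
  set Fx := {x : Ω | ZFix H e x}.ncard with hFx
  have hsum : Fx + M = Nat.card Ω := by
    rw [hFx, show M = ({x : Ω | ZFix H e x}ᶜ : Set Ω).ncard from rfl]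
    exact Set.ncard_add_ncard_compl _
  obtain ⟨χ, -, hχ⟩ := exists_char (H := H) (⊥ : AddSubgroup F) (fun h => by
    have h1 := AddSubgroup.card_le_of_le h
    rw [card_skew hQ, AddSubgroup.card_bot] at h1
    omega)
  set S := annR χ (Rb H e f z) with hSdef
  have hRS := card_annR_mul hχ (Rb H e f z)
  set R := Nat.card (Rb H e f z)
  have hR0 : 0 < R := Nat.card_pos
  have hS : q ^ 2 ≤ Nat.card S := by
    refine Nat.le_of_mul_le_mul_left ?_ hR0
    rw [hRS, mul_comm]; exact hzS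
  have htS : Nat.card (MulAction.orbit (Lz H e f) S) * Nat.card S ≤ Fx := by
    have h := card_fib_ge hQ (e := e) (f := f) z
    rw [(zFix_iff e z).1 hz, card_skew hQ, ← card_orbit_annR hχ, ← hSdef,
      show {y : Ω | Wc (H := H) e y = skew H} = {x : Ω | ZFix H e x} from
        Set.ext fun y => (zFix_iff e y).symm] at h
    refine Nat.le_of_mul_le_mul_left ?_ (Nat.mul_pos hR0 (show 0 < q by omega))
    calc R * q * (Nat.card (MulAction.orbit (Lz H e f) S) * Nat.card S)
        = Nat.card (MulAction.orbit (Lz H e f) S) * (R * Nat.card S * q) := by ring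
      _ ≤ Fx * (R * q) := by rw [hRS]; exact h
      _ = R * q * Fx := by ring
  have hcase : (q : ℤ) ^ 2 * isoCard H e f ≤ (Fx : ℤ) * ((q : ℤ) ^ 2 - 1) ∨
      (q = 2 ∧ 4 * valCard H e f 1 ≤ 3 * Fx) := by
    rcases translates_bound hQ (by omega) hS with h | ⟨h2, h⟩ | ⟨hiso, hgt, hbig⟩
    · left
      have h' := Int.ofNat_le.2 (le_trans h (Nat.mul_le_mul_right _ htS))
      push_cast [Nat.cast_sub (Nat.one_le_pow 2 q (by omega))] at h'
      exact h'
    · exact Or.inr ⟨h2, le_trans h (Nat.mul_le_mul_left _ htS)⟩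
    · left
      obtain ⟨a, haS, ha⟩ : ∃ a ∈ S, a ≠ 0 := by
        by_contra hcon
        push Not at hcon
        rw [(AddSubgroup.eq_bot_iff_forall S).2 hcon, AddSubgroup.card_bot] at hgt
        nlinarith
      have hmv : ∃ g : rootGen (res hp.out), extLz g • S ≠ S := by
        refine exists_extLz_ne (by omega) haS ha fun hall => ?_
        obtain ⟨u, w, p⟩ := exists_complement_pair (H := H) (e := e) (f := f) (by omega)
        obtain ⟨t, ht⟩ := H.exists_trace_one
        have ha' := hiso a haS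
        have hu : u ∈ S := hall u p.left_ne_zero (p.1.trans ha'.symm)
        have htw : t • w ∈ S := by
          have ht0 : t ≠ 0 := fun h => by rw [h, zero_add, map_zero] at ht; exact zero_ne_one ht
          refine hall _ (smul_ne_zero ht0 p.swap.left_ne_zero) (?_ : _ = _)
          rw [ha', Submodule.coe_smul, H.smul_left, H.smul_right,
            show H.h w.1 w.1 = 0 from p.2.1, mul_zero, mul_zero]
        have h := hiso _ (S.add_mem hu htw)
        rw [Submodule.coe_add, Submodule.coe_smul, H.add_left, H.add_right, H.add_right, H.smul_left,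
          H.smul_left, H.smul_right, H.smul_right, show H.h u.1 u.1 = 0 from p.1,
          show H.h w.1 w.1 = 0 from p.2.1, show H.h w.1 u.1 = 1 from p.2.2,
          show H.h u.1 w.1 = 1 from H.h_comm_one p.2.2] at h
        exact one_ne_zero (α := F) (by linear_combination h - ht)
      obtain ⟨hJ4, hJ5⟩ := translates_lower hQ (by omega) hmv
      set t := Nat.card (MulAction.orbit (Lz H e f) S)
      have hs4 : q ^ 4 * t ≤ Fx :=
        le_trans (le_trans (Nat.mul_le_mul_right _ (hbig (by omega))) (le_of_eq (mul_comm _ _))) htS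
      have hs4' : (q : ℤ) ^ 4 * t ≤ Fx := by exact_mod_cast hs4
      refine le_trans ?_ (mul_le_mul_of_nonneg_right hs4' (by linarith))
      rcases eq_or_lt_of_le (show 4 ≤ m by omega) with h4 | h5
      · have h' : ((q : ℤ) ^ 4 + (q : ℤ) ^ 3) ≤ (t : ℤ) := by exact_mod_cast hJ4 h4.symm
        rw [← h4] at hqI
        exact Arith.iso_four hq' hqI h'
      · have h' : (q : ℤ) ^ (2 * m - 4) ≤ (t : ℤ) + (q : ℤ) ^ (m - 1) := by exact_mod_cast hJ5 h5
        have h6 := mul_le_mul_of_nonneg_left h' (show (0 : ℤ) ≤ (q : ℤ) ^ 4 by positivity)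
        rw [mul_add, ← pow_add, ← pow_add, show 4 + (2 * m - 4) = m + m by omega,
          show 4 + (m - 1) = m + 3 by omega, pow_add, pow_add (q : ℤ) m 3] at h6
        exact Arith.iso_five hq' (pow_le_pow_right₀ (by omega) h5) hqI h6
  rcases hcase with hI | ⟨h2, hI⟩
  · haveI : Nonempty Ω := ⟨x₀⟩
    obtain ⟨T, hT⟩ := exists_double_count (H := H) (e := e) (f := f) (by omega) (Ω := Ω)
    rw [← hFx] at hT
    have hT' : (Nat.card Ω : ℤ) * T = ({v : V | v ≠ 0 ∧ H.h v v = 0}.ncard : ℤ) * Fx := by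
      exact_mod_cast hT
    rw [hIrec] at hT'
    have hM' : (q : ℤ) ^ (2 * m) * q ≤ (M : ℤ) := by exact_mod_cast hM
    have hs' : (Fx : ℤ) + M = Nat.card Ω := by exact_mod_cast hsum
    rw [two_mul m, pow_add] at hlt hT' hM'
    have hI0 : (0 : ℤ) < (q : ℤ) ^ 2 * isoCard H e f := by
      refine mul_pos (by positivity) ?_
      have h1 : 0 < isoCard H e f := by
        obtain ⟨u, w, p⟩ := exists_complement_pair (H := H) (e := e) (f := f) (by omega)
        rw [isoCard, Set.ncard_pos (Set.toFinite _)]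
        exact ⟨u, p.left_ne_zero, p.1⟩
      exact_mod_cast h1
    have hδ0 : (0 : ℤ) < (q : ℤ) ^ 2 * isoCard H e f + ((q : ℤ) ^ 2 - 1)
        + ((q : ℤ) ^ 2 - 1) * ((q : ℤ) ^ m * (q : ℤ) ^ m * q)
        - (Nat.card Ω : ℤ) * ((q : ℤ) ^ 2 - 1) := by linarith
    have hdvd : (Nat.card Ω : ℤ) ∣ Fx * ((q : ℤ) ^ 2 * isoCard H e f + ((q : ℤ) ^ 2 - 1)
        + ((q : ℤ) ^ 2 - 1) * ((q : ℤ) ^ m * (q : ℤ) ^ m * q)
        - (Nat.card Ω : ℤ) * ((q : ℤ) ^ 2 - 1)) :=
      ⟨(T : ℤ) - Fx * ((q : ℤ) ^ 2 - 1), by linear_combination -hT'⟩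
    have hF0 := Arith.fixed_pos hq' hI0 hI
    have hδle := Arith.delta_le hq' hs' hM' hI
    have hFlt := Arith.fixed_lt hq' hP4 hqI hs' hM' hlt
    have h1 := Int.le_of_dvd (mul_pos hF0 hδ0) hdvd
    have h3 := mul_le_mul_of_nonneg_left hδle hF0.le
    linarith
  · have hArec := val_rec hQ (e := e) (f := f) h2
    have hA' := hA h2
    subst h2
    rw [← hm] at hArec
    have hM' : (2 : ℤ) ^ (2 * m) * 2 ≤ (M : ℤ) := by exact_mod_cast hM
    have hs' : (Fx : ℤ) + M = Nat.card Ω := by exact_mod_cast hsum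
    have hI' : 4 * (valCard H e f 1 : ℤ) ≤ 3 * Fx := by exact_mod_cast hI
    have hA'' : (Nat.card Ω : ℤ) * 3 < ({v : V | H.h v v = 1}.ncard : ℤ) := by exact_mod_cast hA'
    push_cast at hArec
    linarith

end CfsgLib.MinIndexPSU
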